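import Groth.Agent.Clifford24.SubSheaf
import Groth.Agent.Coherent.CohBC.EulerFamily
import Groth.Agent.Coherent.CohBC.HomSheaf
import Groth.Agent.Coherent.CohBC.Relative

/-!
# Families of bundles over a curve: isomorphic generic members and stable special members
-/

set_option autoImplicit false
set_option linter.style.haveILetI false
set_option linter.unusedSectionVars false
set_option backward.isDefEq.respectTransparency.types false
set_option maxHeartbeats 1000000

universe u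

open CategoryTheory CategoryTheory.Limits AlgebraicGeometry Opposite TopologicalSpace
open Groth.Agent.Coherent Groth.Agent.Coherent.CohBC Groth.Agent.EulerLib Groth.Agent.CurveRR24

namespace Groth.Agent.Clifford24

variable (k : Type u) [Field k] {X : Scheme.{u}} [X.Over (Spec (CommRingCat.of k))]
  [IsProper (X ↘ Spec (CommRingCat.of k))]

/-- A nonzero morphism gives `H⁰(Hom) ≠ 0`. -/
theorem finrank_HH_internalHom_ne_zero {A B : X.Modules} (hA : FlatMod.IsFinLocFree A)
    (hB : FlatMod.IsFinLocFree B) (φ : A ⟶ B) (hφ : φ ≠ 0) :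
    Module.finrank k (Coh.HH X (internalHom A B) 0) ≠ 0 := by
  haveI := finite_HH_of_isCoh k (isCoh_of_isFinLocFree (isFinLocFree_internalHom hA hB)) 0
  intro h
  haveI := (Module.finrank_zero_iff (R := k)).1 h
  haveI : Subsingleton Γ(internalHom A B, ⊤) :=
    (hhZero k (internalHom A B)).symm.toEquiv.subsingleton
  refine hφ ?_
  rw [← homOfSec_secOfHom φ, Subsingleton.elim (secOfHom φ) 0]
  exact Scheme.Modules.hom_ext _ _ fun W => ConcreteCategory.hom_ext _ _ fun a => rfl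

/-- `H⁰(Hom) ≠ 0` gives a nonzero morphism. -/
theorem exists_hom_ne_zero {A B : X.Modules}
    (h : Module.finrank k (Coh.HH X (internalHom A B) 0) ≠ 0) : ∃ φ : A ⟶ B, φ ≠ 0 := by
  by_contra hne
  push_neg at hne
  have hsec : ∀ s : Γ(internalHom A B, ⊤), s = 0 := fun s => by
    refine locHom_ext (φ := secHom s) (ψ := secHom _) fun W hW a => ?_
    exact ConcreteCategory.congr_hom (congrArg (fun ψ => Scheme.Modules.Hom.app ψ W) (hne (homOfSec s))) a
  haveI : Subsingleton Γ(internalHom A B, ⊤) := ⟨fun s t => (hsec s).trans (hsec t).symm⟩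
  haveI : Subsingleton (GA (baseHom k X) (internalHom A B)) := ⟨fun s t => (hsec s).trans (hsec t).symm⟩
  haveI : Subsingleton (Coh.HH X (internalHom A B) 0) :=
    (hhZero k (internalHom A B)).toEquiv.subsingleton
  exact h Module.finrank_zero_of_subsingleton

variable (X) {T : Scheme.{u}} (q : T ⟶ Spec (CommRingCat.of k))

/-- Rank `0` means zero. -/
theorem isZero_of_rank_zero {Y : Scheme.{u}} {M : Y.Modules} (h : FlatMod.IsFinLocFreeOfRank 0 M) : IsZero M :=
  ModStalk.isZero_of_stalks fun x => by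
    rw [ModuleCat.isZero_iff_subsingleton]
    obtain ⟨bx⟩ := SplitP1.nonempty_basis_stalk h x
    exact bx.repr.toEquiv.subsingleton

theorem not_isZero_of_rank_pos {Y : Scheme.{u}} [Nonempty Y] {r : ℕ} (hr : 0 < r) {M : Y.Modules}
    (h : FlatMod.IsFinLocFreeOfRank r M) : ¬ IsZero M := by
  intro hz
  obtain ⟨x⟩ := (inferInstance : Nonempty Y)
  obtain ⟨b⟩ := SplitP1.nonempty_basis_stalk h x
  have := ModuleCat.subsingleton_of_isZero ((DerSch.stalkFunctor Y x).map_isZero hz)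
  exact b.ne_zero ⟨0, hr⟩ (Subsingleton.elim (α := ((DerSch.stalkFunctor Y x).obj M : Type u)) _ _)

/-- Slices of a bundle are bundles. -/
theorem isFinLocFreeOfRank_fibre (t : Spec (CommRingCat.of k) ⟶ T) (ht : t ≫ q = 𝟙 _) {n : ℕ}
    {M : (Pic13.prodK k X q).Modules} (h : FlatMod.IsFinLocFreeOfRank n M) :
    FlatMod.IsFinLocFreeOfRank n (Pic13.fibreMod k X q t ht M) := fun y => by
  let f := Pic13.sliceAt k X q t ht
  obtain ⟨U, hx, ⟨e⟩⟩ := h (f y)
  refine ⟨f ⁻¹ᵁ U, hx, ⟨?_⟩⟩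
  exact (Scheme.Modules.restrictFunctorIsoPullback (f ⁻¹ᵁ U).ι).app _ ≪≫
    ((Scheme.Modules.pullbackComp (f ⁻¹ᵁ U).ι f) ≪≫
      Scheme.Modules.pullbackCongr (morphismRestrict_ι f U).symm ≪≫
      (Scheme.Modules.pullbackComp (f ∣_ U) U.ι).symm).app M ≪≫
    (Scheme.Modules.pullback (f ∣_ U)).mapIso
      (((Scheme.Modules.restrictFunctorIsoPullback U.ι).app M).symm ≪≫ e) ≪≫
    PreservesCoproduct.iso (Scheme.Modules.pullback (f ∣_ U)) (fun _ : Fin n => Coh.structureModule _) ≪≫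
    Sigma.mapIso fun _ => PicLoc.pullbackStructureIso (f ∣_ U)

/-- The fibre rank at a `k`-point is `h⁰` of the slice. -/
theorem fiberRank_point (H : (Pic13.prodK k X q).Modules) [Coh.IsQCoh H]
    (t : Spec (CommRingCat.of k) ⟶ T) (ht : t ≫ q = 𝟙 _) (pt : Spec (CommRingCat.of k)) :
    CohIII.fiberRank (pullback.snd (X ↘ Spec (CommRingCat.of k)) q) H 0 (t pt) =
      Module.finrank k (Coh.HH X (Pic13.fibreMod k X q t ht H) 0) := by
  haveI : Coh.IsQCoh (Pic13.fibreMod k X q t ht H) := EGA43.InjFibre.isQCoh_pullback _ H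
  haveI : CompactSpace X := QuasiCompact.compactSpace_of_compactSpace (X ↘ Spec (CommRingCat.of k))
  haveI : QuasiSeparatedSpace X := quasiSeparatedSpace_of_quasiSeparated (X ↘ Spec (CommRingCat.of k))
  haveI : IsProper (pullback.snd (X ↘ Spec (CommRingCat.of k)) q) :=
    MorphismProperty.pullback_snd (P := @IsProper) _ _ inferInstance
  rw [← fiberRank_pullback (isPullback_slice k X q t ht) H 0 pt]
  exact finrank_HH_bc k _ (residueHom pt) (X ↘ Spec (CommRingCat.of k))
    ((X ↘ Spec (CommRingCat.of k)).fiberToSpecResidueField pt) ((X ↘ Spec (CommRingCat.of k)).fiberι pt)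
    (PerfData.isPullback_fibre pt) (Pic13.fibreMod k X q t ht H) _ (Iso.refl _) 0

/-- A nonempty open subset of a positive dimensional integral scheme contains a second `k`-point. -/
theorem exists_point_mem [IsAlgClosed k] [IsIntegral T] [LocallyOfFiniteType q]
    (hdim : topologicalKrullDim T = 1) (W : Set T) (hW : IsOpen W) (hne : W.Nonempty)
    (t₀ : Spec (CommRingCat.of k) ⟶ T) (ht₀ : t₀ ≫ q = 𝟙 _) (pt : Spec (CommRingCat.of k)) :
    ∃ (t : Spec (CommRingCat.of k) ⟶ T), t ≫ q = 𝟙 _ ∧ t ≠ t₀ ∧ t pt ∈ W := by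
  haveI := LocallyOfFiniteType.jacobsonSpace q
  have hcl : IsClosed ({t₀ pt} : Set T) := by
    have := (pointEquivClosedPoint q ⟨t₀, ht₀⟩).2
    rw [Subsingleton.elim pt (IsLocalRing.closedPoint k)]
    exact this
  have hne' : (W ∩ {t₀ pt}ᶜ).Nonempty := by
    refine nonempty_preirreducible_inter hW hcl.isOpen_compl hne ?_
    by_contra hc
    rw [Set.not_nonempty_iff_eq_empty, Set.compl_empty_iff] at hc
    haveI : Subsingleton T := ⟨fun a b => by
      have ha : a ∈ ({t₀ pt} : Set T) := hc ▸ Set.mem_univ a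
      have hb : b ∈ ({t₀ pt} : Set T) := hc ▸ Set.mem_univ b
      exact ha.trans hb.symm⟩
    haveI : Subsingleton (IrreducibleCloseds T) := ⟨fun A B => IrreducibleCloseds.ext ((Subsingleton.eq_univ_of_nonempty A.2.nonempty).trans
      (Subsingleton.eq_univ_of_nonempty B.2.nonempty).symm)⟩
    have h1 : topologicalKrullDim T ≤ 0 := Order.krullDim_nonpos_of_subsingleton
    rw [hdim] at h1
    exact absurd h1 (by norm_num)
  obtain ⟨y, hy, hycl⟩ := nonempty_inter_closedPoints hne' (hW.inter hcl.isOpen_compl).isLocallyClosed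
  obtain ⟨⟨t, ht⟩, he⟩ := (pointEquivClosedPoint q).surjective ⟨y, hycl⟩
  have htp : t pt = y := by
    rw [Subsingleton.elim pt (IsLocalRing.closedPoint k)]
    exact congrArg Subtype.val he
  exact ⟨t, ht, fun h => hy.2 (by rw [← htp, h]; rfl), htp ▸ hy.1⟩

variable {X}

/-- **Stable bundles are separated in families.** -/
theorem nonempty_iso_of_stable_family [IsAlgClosed k] [IsIntegral X] [IsLocallyNoetherian X] [IsIntegral T]
    [LocallyOfFiniteType q] [Flat (X ↘ Spec (CommRingCat.of k))]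
    (hdimX : topologicalKrullDim X = 1) (hn : ∀ x : X, IsIntegrallyClosed (X.presheaf.stalk x))
    (hdim : topologicalKrullDim T = 1) (t₀ : Spec (CommRingCat.of k) ⟶ T) (ht₀ : t₀ ≫ q = 𝟙 _)
    (r : ℕ) (E E' : (Pic13.prodK k X q).Modules)
    (hE : FlatMod.IsFinLocFreeOfRank r E) (hE' : FlatMod.IsFinLocFreeOfRank r E')
    (hiso : ∀ (t : Spec (CommRingCat.of k) ⟶ T) (ht : t ≫ q = 𝟙 _), t ≠ t₀ →
      Nonempty (Pic13.fibreMod k X q t ht E ≅ Pic13.fibreMod k X q t ht E'))
    (hst : ∀ (G : X.Modules) (s : ℕ) (ι : G ⟶ Pic13.fibreMod k X q t₀ ht₀ E), Mono ι →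
      FlatMod.IsFinLocFreeOfRank s G → 0 < s → s < r →
      Curv2.deg k X G s * (r : ℤ) < Curv2.deg k X (Pic13.fibreMod k X q t₀ ht₀ E) r * (s : ℤ))
    (hst' : ∀ (G : X.Modules) (s : ℕ) (ι : G ⟶ Pic13.fibreMod k X q t₀ ht₀ E'), Mono ι →
      FlatMod.IsFinLocFreeOfRank s G → 0 < s → s < r →
      Curv2.deg k X G s * (r : ℤ) < Curv2.deg k X (Pic13.fibreMod k X q t₀ ht₀ E') r * (s : ℤ)) :
    Nonempty (Pic13.fibreMod k X q t₀ ht₀ E ≅ Pic13.fibreMod k X q t₀ ht₀ E') := by
  classical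
  haveI : IsLocallyNoetherian T := LocallyOfFiniteType.isLocallyNoetherian q
  haveI : IsProper (pullback.snd (X ↘ Spec (CommRingCat.of k)) q) :=
    MorphismProperty.pullback_snd (P := @IsProper) _ _ inferInstance
  haveI : Flat (pullback.snd (X ↘ Spec (CommRingCat.of k)) q) :=
    MorphismProperty.pullback_snd (P := @Flat) _ _ inferInstance
  let π := pullback.snd (X ↘ Spec (CommRingCat.of k)) q
  let pt : Spec (CommRingCat.of k) := default
  have hEf : FlatMod.IsFinLocFree E := fun x => let ⟨U, hx, e⟩ := hE x; ⟨U, r, hx, e⟩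
  have hE'f : FlatMod.IsFinLocFree E' := fun x => let ⟨U, hx, e⟩ := hE' x; ⟨U, r, hx, e⟩
  let H := internalHom E E'
  have hHf : FlatMod.IsFinLocFree H := isFinLocFree_internalHom hEf hE'f
  have hHc : Coh.IsCoh H := isCoh_of_isFinLocFree hHf
  haveI := hHc.1
  have hrk : ∀ (t : Spec (CommRingCat.of k) ⟶ T) (ht : t ≫ q = 𝟙 _),
      CohIII.fiberRank π H 0 (t pt) = Module.finrank k (Coh.HH X
        (internalHom (Pic13.fibreMod k X q t ht E) (Pic13.fibreMod k X q t ht E')) 0) := fun t ht => by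
    haveI := isIso_pullHom E E' (Pic13.sliceAt k X q t ht) hEf hE'f
    rw [fiberRank_point k X q H t ht pt]
    exact CohBC.finrank_HH_congr k (asIso (pullHom E E' (Pic13.sliceAt k X q t ht))) 0
  have hfl : ∀ (M : (Pic13.prodK k X q).Modules), FlatMod.IsFinLocFree M → FlatMod.IsFlatOver π M :=
    fun M hM => isFlatOver_of_isFinLocFree π hM
  have hW : IsOpen {y : T | CohIII.fiberRank π H 0 y = 0} := isOpen_fiberRank_eq_zero π H hHc (hfl H hHf) 0
  rcases Nat.eq_zero_or_pos r with rfl | hr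
  · exact ⟨(isZero_of_rank_zero (isFinLocFreeOfRank_fibre k X q t₀ ht₀ hE)).iso
      (isZero_of_rank_zero (isFinLocFreeOfRank_fibre k X q t₀ ht₀ hE'))⟩
  obtain ⟨t₁, ht₁, hne₁, -⟩ := exists_point_mem k q hdim Set.univ isOpen_univ Set.univ_nonempty t₀ ht₀ pt
  have hd : Curv2.deg k X (Pic13.fibreMod k X q t₀ ht₀ E) r =
      Curv2.deg k X (Pic13.fibreMod k X q t₀ ht₀ E') r := by
    show Curv2.euler k X _ - _ = Curv2.euler k X _ - _
    rw [euler_fibreMod_eq k X q (isCoh_of_isFinLocFree hEf) (hfl E hEf) t₀ t₁ ht₀ ht₁,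
      euler_fibreMod_eq k X q (isCoh_of_isFinLocFree hE'f) (hfl E' hE'f) t₀ t₁ ht₀ ht₁]
    obtain ⟨e⟩ := hiso t₁ ht₁ hne₁
    rw [euler_congr k X e]
  have hrk0 : CohIII.fiberRank π H 0 (t₀ pt) ≠ 0 := fun h0 => by
    obtain ⟨t, ht, hne, htW⟩ := exists_point_mem k q hdim _ hW ⟨_, h0⟩ t₀ ht₀ pt
    obtain ⟨e⟩ := hiso t ht hne
    refine finrank_HH_internalHom_ne_zero k (fun x => let ⟨U, hx, e⟩ := isFinLocFreeOfRank_fibre k X q t ht hE x; ⟨U, r, hx, e⟩)
      (fun x => let ⟨U, hx, e⟩ := isFinLocFreeOfRank_fibre k X q t ht hE' x; ⟨U, r, hx, e⟩) e.hom ?_ ((hrk t ht).symm.trans htW)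
    intro h
    exact not_isZero_of_rank_pos hr (isFinLocFreeOfRank_fibre k X q t ht hE)
      ((IsZero.iff_id_eq_zero _).2 (by rw [← e.hom_inv_id, h, zero_comp]))
  obtain ⟨φ, hφ⟩ := exists_hom_ne_zero k (A := Pic13.fibreMod k X q t₀ ht₀ E)
    (B := Pic13.fibreMod k X q t₀ ht₀ E') (fun h => hrk0 ((hrk t₀ ht₀).trans h))
  haveI := isIso_of_stable k hdimX hn r (isFinLocFreeOfRank_fibre k X q t₀ ht₀ hE) hst
    (isFinLocFreeOfRank_fibre k X q t₀ ht₀ hE') hst' hd φ hφ
  exact ⟨asIso φ⟩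

end Groth.Agent.Clifford24
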