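import Groth.Agent.Clifford24.Mul
import Groth.Agent.OmegaDual24.Main
import Groth.Agent.CurveRR24.SmoothCompletion
import Groth.Agent.CurveRR24.DegOneApps
import Groth.Agent.SGA3cLib.CentralDescent
import Groth.Agent.PicLib.PicMonoid
import Groth.Agent.CAlgH3.RegularLocal
import Groth.Agent.VarietyLib.SmoothStalk

/-!
# Clifford's theorem
-/

set_option autoImplicit false
set_option linter.style.haveILetI false
set_option linter.unusedSectionVars false
set_option backward.isDefEq.respectTransparency.types false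

universe u

open CategoryTheory CategoryTheory.Limits AlgebraicGeometry Opposite TopologicalSpace
open Groth.Agent.Coherent Groth.Agent.PicLib Groth.Agent.EulerLib Groth.Agent.CurveRR24

namespace Groth.Agent.Clifford24

variable {X : Scheme.{u}} (k : Type u) [Field k] [X.Over (Spec (CommRingCat.of k))]
  [IsProper (X ↘ Spec (CommRingCat.of k))] [IsIntegral X]

theorem isInvertible_of_isInverseOf {L M : X.Modules} (hL : PicF.IsInvertible L) (hM : ClSub.IsInverseOf L M) :
    PicF.IsInvertible M := by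
  obtain ⟨e⟩ := hM
  refine PicLib.PicM.isInvertible_of_tensor hL fun z => ?_
  obtain ⟨W, hz, ⟨e'⟩⟩ := AmpleLib.isInvertible_structureModule (X := X) z
  exact ⟨W, hz, ⟨(Scheme.Modules.restrictFunctor W.ι).mapIso e ≪≫ e'⟩⟩

/-- A regular proper curve over an algebraically closed field is smooth and geometrically integral. -/
theorem smooth_geomIntegral_of_regular [IsAlgClosed k]
    (hreg : ∀ x : X, IsRegularLocalRing (X.presheaf.stalk x)) :
    Smooth (X ↘ Spec (CommRingCat.of k)) ∧ GeometricallyIntegral (X ↘ Spec (CommRingCat.of k)) := by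
  haveI : Smooth (X ↘ Spec (CommRingCat.of k)) :=
    CurveRR24.smooth_of_regular_closedPoints _ fun x _ => hreg x
  haveI : GeometricallyConnected (X ↘ Spec (CommRingCat.of k)) :=
    Groth.Agent.SGA3cLib.CentralDescent.geometricallyConnected_of_isAlgClosed _
  exact ⟨inferInstance, Groth.Agent.AbVarLib.geometricallyIntegral_of_smooth _⟩

variable [Smooth (X ↘ Spec (CommRingCat.of k))] [GeometricallyIntegral (X ↘ Spec (CommRingCat.of k))]

/-- `h¹(L) = h⁰(Ω ⊗ L⁻¹)`. -/
theorem h1_eq_h0_omega (hdim : topologicalKrullDim X = 1) {L N : X.Modules} (hL : PicF.IsInvertible L)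
    (hN : PicF.IsInvertible N) (e : CohB1.tensorMod L N ≅ Coh.structureModule X) :
    Module.finrank k (Coh.HH X L 1) =
      Module.finrank k (Coh.HH X (CohB1.tensorMod (Omega.sheaf (X ↘ Spec (CommRingCat.of k))) N) 0) := by
  haveI := EulerLib.isNoetherian_of_proper k (X := X)
  obtain ⟨ω, t, hω, hrep⟩ := SerreDual.exists_dualizing k X (d := 1) (by rw [hdim]; norm_num)
  obtain ⟨eω⟩ := OmegaDual24.nonempty_iso_omega k hdim hω hrep
  obtain ⟨hfin, hhom⟩ := SerreDual.finrank_hom_eq_h1 hrep (CurveRR24.isCoh_of_isInvertible k hL)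
  haveI := hfin
  obtain ⟨-, hh⟩ := SerreDual.finrank_hom_eq (k := k) ω hL hN e
  rw [CurveRR24.finrank_HH_congr k (AmpleLib.tensorIso eω (Iso.refl N)) 0, hh, hhom]

/-- Riemann–Roch with the canonical sheaf. -/
theorem riemann_roch_omega (hdim : topologicalKrullDim X = 1) {L N : X.Modules} (hL : PicF.IsInvertible L)
    (hN : PicF.IsInvertible N) (e : CohB1.tensorMod L N ≅ Coh.structureModule X) :
    (Module.finrank k (Coh.HH X L 0) : ℤ) -
      Module.finrank k (Coh.HH X (CohB1.tensorMod (Omega.sheaf (X ↘ Spec (CommRingCat.of k))) N) 0) =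
      Curv2.deg k X L 1 + 1 - (Curv2.genus k X : ℤ) := by
  have hO := CurveRR24.h0_structure_of_geomIntegral k (X := X)
  have e1 := CurveRR24.euler_eq_h0_sub_h1 k hdim.le L (CurveRR24.isCoh_of_isInvertible k hL).1
  have e2 := CurveRR24.euler_eq_h0_sub_h1 k hdim.le (Coh.structureModule X) Coherent.isQCoh_structureModule
  rw [hO] at e2
  rw [← h1_eq_h0_omega k hdim hL hN e]
  simp only [Curv2.deg, Curv2.genus, Nat.cast_one, one_mul] at e1 e2 ⊢
  rw [e1, e2]
  ring

include k in
theorem isIntegrallyClosed_stalk_of_smooth (P : X) : IsIntegrallyClosed (X.presheaf.stalk P) := by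
  haveI := Groth.Agent.VarietyLib.isRegularLocalRing_stalk_of_smooth k X (X ↘ Spec (CommRingCat.of k)) P
  exact Groth.Agent.CAlgH3.isIntegrallyClosed_of_regular _

/-- `h⁰(L) + h⁰(Ω ⊗ L⁻¹) ≤ g + 1` for effective special `L`. -/
theorem h0_add_h0_le_genus [IsAlgClosed k] (hdim : topologicalKrullDim X = 1) {L N : X.Modules}
    (hL : PicF.IsInvertible L) (hN : PicF.IsInvertible N) (e : CohB1.tensorMod L N ≅ Coh.structureModule X)
    (hs : Nontrivial (Coh.HH X L 0))
    (hsp : Nontrivial (Coh.HH X (CohB1.tensorMod (Omega.sheaf (X ↘ Spec (CommRingCat.of k))) N) 0)) :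
    Module.finrank k (Coh.HH X L 0) +
      Module.finrank k (Coh.HH X (CohB1.tensorMod (Omega.sheaf (X ↘ Spec (CommRingCat.of k))) N) 0) ≤
        Curv2.genus k X + 1 := by
  let Ω := Omega.sheaf (X ↘ Spec (CommRingCat.of k))
  have hΩ : PicF.IsInvertible Ω := OmegaDual24.isInvertible_omega (k := k) hdim
  have h := h0_add_h0_le k hdim (fun P _ => isIntegrallyClosed_stalk_of_smooth k P) hL
    (AmpleLib.isInvertible_tensorMod hΩ hN) hs hsp
  obtain ⟨a⟩ := exists_assocIso' Ω hN hL
  let e' : CohB1.tensorMod L (CohB1.tensorMod Ω N) ≅ Ω :=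
    AmpleLib.tensorComm _ _ ≪≫ a ≪≫ AmpleLib.tensorIso (Iso.refl Ω) (AmpleLib.tensorComm N L ≪≫ e) ≪≫
      AmpleLib.tensorComm _ _ ≪≫ AmpleLib.unitTensorIso Ω
  rw [CurveRR24.finrank_HH_congr k e' 0, (OmegaDual24.finrank_omega k hdim).1] at h
  exact h

/-- Clifford's inequality. -/
theorem clifford [IsAlgClosed k] (hdim : topologicalKrullDim X = 1) {L N : X.Modules}
    (hL : PicF.IsInvertible L) (hN : PicF.IsInvertible N) (e : CohB1.tensorMod L N ≅ Coh.structureModule X)
    (hs : Nontrivial (Coh.HH X L 0))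
    (hsp : Nontrivial (Coh.HH X (CohB1.tensorMod (Omega.sheaf (X ↘ Spec (CommRingCat.of k))) N) 0)) :
    2 * (Module.finrank k (Coh.HH X L 0) : ℤ) ≤ Curv2.deg k X L 1 + 2 := by
  have h1 := riemann_roch_omega k hdim hL hN e
  have h2 := h0_add_h0_le_genus k hdim hL hN e hs hsp
  omega

end Groth.Agent.Clifford24
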