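import Groth.Agent.MorProj.ProperFinite
import Groth.Agent.RelVALib.OfPn
import Groth.Agent.PnEmb.Segre

/-!
# Morphisms to projective space over a base, closed immersions on all fibres
-/

set_option autoImplicit false
set_option linter.style.haveILetI false
set_option linter.unusedSectionVars false
set_option backward.isDefEq.respectTransparency.types false
set_option maxHeartbeats 1000000

universe u

open CategoryTheory CategoryTheory.Limits AlgebraicGeometry Opposite TopologicalSpace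
open Groth.Agent.Coherent Groth.Agent.PicLib Groth.Agent.AmpleLib

namespace Groth.Agent.Clifford24

variable {X Z S : Scheme.{u}}

/-- Coordinates along a composition, over any base ring. -/
theorem exists_coordIso_ring {R : Type u} [CommRing R] {n : ℕ} (m : X ⟶ Z) (g : Z ⟶ CohB1.ProjSpace n R)
    {M : Z.Modules} (τ : (Scheme.Modules.pullback g).obj (Twist.twistProjSpace n R 1) ≅ M) {N : X.Modules}
    (σ : (Scheme.Modules.pullback m).obj M ≅ N) :
    ∃ θ : (Scheme.Modules.pullback (m ≫ g)).obj (Twist.twistProjSpace n R 1) ≅ N,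
      ∀ l, θ.hom.app ⊤ (ProjUP.pullSec (m ≫ g) _ (ProjUP.coord n _ l)) =
        σ.hom.app ⊤ (pullSec m (U := ⊤) (τ.hom.app ⊤ (ProjUP.pullSec g _ (ProjUP.coord n _ l)))) := by
  obtain ⟨c, hc⟩ := RelVALib.exists_compIso m g (m ≫ g) rfl (Twist.twistProjSpace n R 1)
  refine ⟨c ≪≫ (Scheme.Modules.pullback m).mapIso τ ≪≫ σ, fun l => ?_⟩
  have h1 : c.hom.app ⊤ (ProjUP.pullSec (m ≫ g) _ (ProjUP.coord n _ l)) =
      pullSec m (U := ⊤) (ProjUP.pullSec g _ (ProjUP.coord n _ l)) :=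
    (hc ⊤ _ le_rfl).trans (resM_self _ _ _)
  show σ.hom.app ⊤ (((Scheme.Modules.pullback m).map τ.hom).app ⊤ (c.hom.app ⊤ _)) = _
  rw [h1]
  exact congrArg _ (RelVALib.map_app_pullSec m τ.hom ⊤ _)

/-- A morphism to `P^n × S` given by sections is a closed immersion once it is one on every fibre. -/
theorem isClosedImmersion_of_fibres (f : X ⟶ S) [IsProper f] {L : X.Modules}
    {n : ℕ} (σ : Fin (n + 1) → Γ(L, ⊤)) (i : X ⟶ CohB1.ProjSpaceOver n S)
    (hif : i ≫ pullback.snd (CohB1.ProjSpace.toSpec n (ULift.{u} ℤ)) (specULiftZIsTerminal.from S) = f)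
    (τ : (Scheme.Modules.pullback (i ≫ pullback.fst (CohB1.ProjSpace.toSpec n (ULift.{u} ℤ))
      (specULiftZIsTerminal.from S))).obj (Twist.twistProjSpace n (ULift.{u} ℤ) 1) ≅ L)
    (hτ : ∀ l, τ.hom.app ⊤ (ProjUP.pullSec _ _ (ProjUP.coord n _ l)) = σ l)
    (hfib : ∀ (s : S) (r : f.fiber s ⟶ CohB1.ProjSpace n (S.residueField s)),
      r ≫ CohB1.ProjSpace.toSpec n (S.residueField s) = f.fiberToSpecResidueField s →
      ∀ τr : (Scheme.Modules.pullback r).obj (Twist.twistProjSpace n (S.residueField s) 1) ≅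
          (Scheme.Modules.pullback (f.fiberι s)).obj L,
      (∀ l, τr.hom.app ⊤ (ProjUP.pullSec r _ (ProjUP.coord n _ l)) = pullSec (f.fiberι s) (U := ⊤) (σ l)) →
      IsClosedImmersion r) :
    IsClosedImmersion i := by
  subst hif
  let pr₁ := pullback.fst (CohB1.ProjSpace.toSpec n (ULift.{u} ℤ)) (specULiftZIsTerminal.from S)
  let h := pullback.snd (CohB1.ProjSpace.toSpec n (ULift.{u} ℤ)) (specULiftZIsTerminal.from S)
  haveI : IsProper (CohB1.ProjSpace.toSpec n (ULift.{u} ℤ)) := Coherent.isProper_projSpace_toSpec n _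
  haveI : IsProper h := MorphismProperty.pullback_snd (P := @IsProper) _ _ inferInstance
  let a := i ≫ pr₁
  suffices key : ∀ s : S, ∃ U : S.Opens, s ∈ U ∧ IsClosedImmersion (i ∣_ (h ⁻¹ᵁ U)) by
    choose U hsU hU using key
    refine (IsZariskiLocalAtTarget.iff_of_iSup_eq_top (fun s => h ⁻¹ᵁ U s) (eq_top_iff.2 fun y _ => ?_)).2 hU
    exact Opens.mem_iSup.2 ⟨h y, hsU (h y)⟩
  intro s
  have hhp : IsProper h := MorphismProperty.pullback_snd (P := @IsProper) _ _ inferInstance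
  have hip : IsProper (i ≫ h) := inferInstance
  refine @MorProj.exists_isClosedImmersion_nhd_fibre _ _ _ i h s hip hhp ?_
  let K := S.residueField s
  let i_s : (i ≫ h).fiber s ⟶ h.fiber s := CohIII.fiberMapOver i (i ≫ h) h rfl s
  have his : i_s ≫ h.fiberι s = (i ≫ h).fiberι s ≫ i := pullback.lift_fst _ _ _
  have hisK : i_s ≫ h.fiberToSpecResidueField s = (i ≫ h).fiberToSpecResidueField s :=
    (pullback.lift_snd _ _ _).trans (Category.comp_id _)
  -- the coordinates on the fibre of `P^n × S`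
  let b : h.fiber s ⟶ CohB1.ProjSpace n (ULift.{u} ℤ) := h.fiberι s ≫ pr₁
  let O : (CohB1.ProjSpace n (ULift.{u} ℤ)).Modules := Twist.twistProjSpace n (ULift.{u} ℤ) 1
  let M := (Scheme.Modules.pullback b).obj O
  have hO : PicF.IsInvertible O :=
    PnEmb.isInvertible_twist_one (UPLib.adjoin_one_eq_top (UPLib.linForm_mem (R := ULift.{u} ℤ) n)
      (UPLib.isSymmetricAlgebra_linForm n))
  let c : Fin (n + 1) → Γ(M, ⊤) := fun l => ProjUP.pullSec b O (ProjUP.coord n _ l)
  have hcov : ∀ z : h.fiber s, ∃ l, z ∈ glocus M (c l) := fun z => by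
    obtain ⟨k, hk⟩ := Opens.mem_iSup.1 ((Proj.iSup_basicOpen_eq_top (CohB1.polyGrading n (ULift.{u} ℤ)) _
      (ProjLib.irrelevant_le_span_X n _)).ge (show b z ∈ (⊤ : (CohB1.ProjSpace n (ULift.{u} ℤ)).Opens) from trivial))
    exact ⟨k, (PnEmb.preimage_chartOpen b (Iso.refl M) (σ := c) (fun _ => rfl) k).le hk⟩
  obtain ⟨ψ, hψ, τψ, hτψ⟩ :=
    UPLib.exists_hom_projSpace n (h.fiberToSpecResidueField s) (PicLoc.isInvertible_pullback b hO) c hcov
  -- the induced coordinates on the fibre of `X`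
  have hab : i_s ≫ b = (i ≫ h).fiberι s ≫ a := by
    show i_s ≫ h.fiberι s ≫ pr₁ = (i ≫ h).fiberι s ≫ i ≫ pr₁
    exact ((Category.assoc _ _ _).symm.trans (congrArg (fun t => t ≫ pr₁) his)).trans (Category.assoc _ _ _)
  obtain ⟨c₁, hc₁⟩ := RelVALib.exists_compIso i_s b (i_s ≫ b) rfl O
  obtain ⟨c₂, hc₂⟩ := RelVALib.exists_compIso ((i ≫ h).fiberι s) a (i_s ≫ b) hab.symm O
  let σ' : (Scheme.Modules.pullback i_s).obj M ≅ (Scheme.Modules.pullback ((i ≫ h).fiberι s)).obj L :=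
    c₁.symm ≪≫ c₂ ≪≫ (Scheme.Modules.pullback _).mapIso τ
  obtain ⟨θ, hθ⟩ := exists_coordIso_ring i_s ψ τψ σ'
  haveI : IsSeparated (CohB1.ProjSpace.toSpec n K) := by
    have := Coherent.isProper_projSpace_toSpec n K
    infer_instance
  haveI : IsSeparated (ψ ≫ CohB1.ProjSpace.toSpec n K) := by
    have hsep : IsSeparated (h.fiberToSpecResidueField s) :=
      MorphismProperty.pullback_snd (P := @IsSeparated) _ _ inferInstance
    exact Eq.subst (motive := @IsSeparated _ _) hψ.symm hsep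
  haveI : IsSeparated ψ := IsSeparated.of_comp ψ (CohB1.ProjSpace.toSpec n K)
  haveI : IsClosedImmersion (i_s ≫ ψ) := by
    refine hfib s (i_s ≫ ψ) (((Category.assoc _ _ _).trans (congrArg (fun t => i_s ≫ t) hψ)).trans hisK) θ fun l => ?_
    refine (hθ l).trans ((congrArg (fun t => σ'.hom.app ⊤ (pullSec i_s (U := ⊤) t)) (hτψ l)).trans ?_)
    rw [← hτ l]
    show ((Scheme.Modules.pullback _).map τ.hom).app ⊤ (c₂.hom.app ⊤ (c₁.inv.app ⊤
      (pullSec i_s (U := ⊤) (ProjUP.pullSec b O (ProjUP.coord n _ l))))) = _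
    have h1 : c₁.hom.app ⊤ (ProjUP.pullSec (i_s ≫ b) O (ProjUP.coord n _ l)) =
        pullSec i_s (U := ⊤) (ProjUP.pullSec b O (ProjUP.coord n _ l)) :=
      (hc₁ ⊤ _ le_rfl).trans (resM_self _ _ _)
    have h1' : c₁.inv.app ⊤ (pullSec i_s (U := ⊤) (ProjUP.pullSec b O (ProjUP.coord n _ l))) =
        ProjUP.pullSec (i_s ≫ b) O (ProjUP.coord n _ l) := by
      rw [← h1]
      show (c₁.hom ≫ c₁.inv).app ⊤ _ = _
      rw [c₁.hom_inv_id]
      rfl
    have h2 : c₂.hom.app ⊤ (ProjUP.pullSec (i_s ≫ b) O (ProjUP.coord n _ l)) =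
        pullSec ((i ≫ h).fiberι s) (U := ⊤) (ProjUP.pullSec a O (ProjUP.coord n _ l)) :=
      (hc₂ ⊤ _ le_rfl).trans (resM_self _ _ _)
    rw [h1', h2]
    exact RelVALib.map_app_pullSec _ τ.hom ⊤ _
  exact IsClosedImmersion.of_comp i_s ψ

end Groth.Agent.Clifford24
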