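import Groth.Agent.Clifford24.SmoothFamily
import Groth.Agent.Clifford24.FibreEmb
import Groth.Agent.CurveRR24.VeryAmpleSpan
import Groth.Agent.H8Lim.ModSections
import Groth.Agent.RelVALib.VALocal

/-!
# Pluricanonical embeddings of families of smooth curves
-/

set_option autoImplicit false
set_option linter.style.haveILetI false
set_option linter.unusedSectionVars false
set_option backward.isDefEq.respectTransparency.types false
set_option maxHeartbeats 1000000

universe u

open CategoryTheory CategoryTheory.Limits AlgebraicGeometry Opposite TopologicalSpace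
open Groth.Agent.Coherent Groth.Agent.PicLib Groth.Agent.AmpleLib Groth.Agent.CohExch

namespace Groth.Agent.Clifford24

variable {X S : Scheme.{u}} (f : X ⟶ S)

/-- A global section restricted to a fibre. -/
noncomputable abbrev fibSec (L : X.Modules) (s : S) (σ : Γ(L, ⊤)) :
    Γ((Scheme.Modules.pullback (f.fiberι s)).obj L, ⊤) :=
  pullSec (f.fiberι s) (U := ⊤) σ

/-- Generators of the direct image span the sections on a fibre with bijective base change. -/
theorem exists_fibre_span [IsAffine S] (L : X.Modules) [Coh.IsQCoh ((Scheme.Modules.pushforward f).obj L)] (s : S)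
    [IsIso (CohBC.bc0 f (S.fromSpecResidueField s) (f.fiberToSpecResidueField s) (f.fiberι s) (f.fiber_fac s) L)]
    {N : ℕ} (m : Fin N → Γ((Scheme.Modules.pushforward f).obj L, ⊤))
    (hm : Submodule.span Γ(S, ⊤) (Set.range m) = ⊤)
    (z : Γ((Scheme.Modules.pullback (f.fiberι s)).obj L, ⊤)) :
    ∃ c : Fin N → S.residueField s, ∑ l, ProjUP.toGlobal
      (f.fiberToSpecResidueField s : f.fiber s ⟶ Spec (CommRingCat.of (S.residueField s))) (c l) •
        fibSec f L s (show Γ(L, ⊤) from m l) = z := by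
  let g := S.fromSpecResidueField s
  let π := f.fiberToSpecResidueField s
  let Φ := CohBC.bc0 f g π (f.fiberι s) (f.fiber_fac s) L
  haveI : IsIso Φ := ‹_›
  obtain ⟨w, hw⟩ := (ConcreteCategory.bijective_of_isIso (Φ.app (g ⁻¹ᵁ ⊤))).2
    (show Γ((Scheme.Modules.pushforward π).obj ((Scheme.Modules.pullback (f.fiberι s)).obj L), g ⁻¹ᵁ ⊤) from z)
  have hspan := H8Lim.span_pullSec_eq_top g (isAffineOpen_top S) (W := g ⁻¹ᵁ ⊤) (isAffineOpen_top _) le_rfl
    ((Scheme.Modules.pushforward f).obj L) _ hm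
  have hwmem : w ∈ Submodule.span Γ(Spec (S.residueField s), g ⁻¹ᵁ ⊤) _ := hspan ▸ Submodule.mem_top (x := w)
  rw [← Set.range_comp, Submodule.mem_span_range_iff_exists_fun] at hwmem
  obtain ⟨b, hb⟩ := hwmem
  refine ⟨fun l => (Scheme.ΓSpecIso (S.residueField s)).hom.hom (b l), ?_⟩
  refine Eq.trans ?_ hw
  rw [← hb, map_sum]
  refine Finset.sum_congr rfl fun l _ => ?_
  rw [Scheme.Modules.Hom.app_smul]
  have h1 : Φ.app (g ⁻¹ᵁ ⊤) (resM _ le_rfl (pullSec g (m l))) =
      (show Γ((Scheme.Modules.pushforward π).obj ((Scheme.Modules.pullback (f.fiberι s)).obj L), g ⁻¹ᵁ ⊤) from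
        fibSec f L s (show Γ(L, ⊤) from m l)) :=
    ((congrArg (Φ.app (g ⁻¹ᵁ ⊤)) (resM_self _ _ _)).trans (bc0_pullSec (f.fiber_fac s) L ⊤ (m l))).trans
      (resM_self _ _ _)
  refine Eq.trans ?_ (congrArg (fun t => b l • t) h1.symm)
  have hid : (Scheme.ΓSpecIso (S.residueField s)).inv.hom ((Scheme.ΓSpecIso (S.residueField s)).hom.hom (b l)) = b l :=
    ConcreteCategory.congr_hom (Scheme.ΓSpecIso (S.residueField s)).hom_inv_id (b l)
  show π.appTop.hom ((Scheme.ΓSpecIso (S.residueField s)).inv.hom ((Scheme.ΓSpecIso (S.residueField s)).hom.hom (b l))) • _ = _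
  rw [hid]
  rfl

variable [IsProper f] [Smooth f] [GeometricallyConnected f]

/-- Pluricanonical systems embed a family of curves over an affine base. -/
theorem isRelVeryAmplePn_tensorPow_omega [IsAffine S] (hdim : ∀ s : S, topologicalKrullDim ↥(f.fiber s) = 1) (g : ℕ)
    (hgen : ∀ s : S, letI := fibreOver f s; Curv2.genus (S.residueField s) (f.fiber s) = g)
    (hg : 2 ≤ g) (n : ℕ) (hn : 3 ≤ n) :
    RelAmple.IsRelVeryAmplePn f (CohB1.tensorPow (Omega.sheaf f) n) := by
  classical
  let L := CohB1.tensorPow (Omega.sheaf f) n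
  have hn2 : 2 ≤ n := by omega
  have hL : PicF.IsInvertible L := AmpleLib.isInvertible_tensorPow (isInvertible_omega_family f hdim) n
  let R := (Scheme.Modules.pushforward f).obj L
  have hRf : FlatMod.IsFinLocFree R := fun x =>
    let ⟨U, hx, e⟩ := isFinLocFreeOfRank_push_tensorPow_omega f hdim g hgen hg n hn2 x; ⟨U, _, hx, e⟩
  haveI hRq : Coh.IsQCoh R := (CohBC.isCoh_of_isFinLocFree hRf).1
  haveI : Module.Finite Γ(S, ⊤) Γ(R, ⊤) :=
    H8Lim.finite_sections_of_isFT (CohBC.isCoh_of_isFinLocFree hRf).2 (isAffineOpen_top S)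
  obtain ⟨N, m, hm⟩ := Module.Finite.exists_fin (R := Γ(S, ⊤)) (M := Γ(R, ⊤))
  let m' : Fin (N + 1) → Γ(R, ⊤) := Fin.cons 0 m
  have hm' : Submodule.span Γ(S, ⊤) (Set.range m') = ⊤ := by
    refine top_le_iff.1 (hm.ge.trans (Submodule.span_mono ?_))
    rintro _ ⟨l, rfl⟩
    exact ⟨l.succ, Fin.cons_succ _ _ _⟩
  let σ : Fin (N + 1) → Γ(L, ⊤) := fun l => m' l
  -- data on the fibres
  have hfibspan : ∀ (s : S) (z : Γ((Scheme.Modules.pullback (f.fiberι s)).obj L, ⊤)),
      ∃ c : Fin (N + 1) → S.residueField s, ∑ l, ProjUP.toGlobal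
        (f.fiberToSpecResidueField s : f.fiber s ⟶ Spec (CommRingCat.of (S.residueField s))) (c l) •
          fibSec f L s (σ l) = z := fun s z => by
    haveI : IsIso (CohBC.bc0 f (S.fromSpecResidueField s) (f.fiberToSpecResidueField s) (f.fiberι s) (f.fiber_fac s) L) :=
      isIso_bc0_tensorPow_omega f hdim g hgen hg n hn2 (IsPullback.of_hasPullback f (S.fromSpecResidueField s))
    exact exists_fibre_span f L s m' hm' z
  have hdeg : ∀ s : S, letI := fibreOver f s; 2 * (g : ℤ) + 1 ≤
      Curv2.deg (S.residueField s) (f.fiber s) ((Scheme.Modules.pullback (f.fiberι s)).obj L) 1 := fun s => by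
    let k := S.residueField s
    let _ := fibreOver f s
    haveI : IsProper (f.fiber s ↘ Spec (CommRingCat.of k)) := isProper_fibre f s
    haveI : Smooth (f.fiber s ↘ Spec (CommRingCat.of k)) := smooth_fibre f s
    haveI : GeometricallyIntegral (f.fiber s ↘ Spec (CommRingCat.of k)) := geomIntegral_fibre f s
    haveI := isIntegral_fibre f s
    obtain ⟨eω⟩ := nonempty_omega_fibre f s
    obtain ⟨e1⟩ := nonempty_pullback_tensorPow (f.fiberι s) (Omega.sheaf f) n
    obtain ⟨e2⟩ := nonempty_tensorPow_congr eω n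
    have hω : PicF.IsInvertible (Omega.sheaf (f.fiber s ↘ Spec (CommRingCat.of k))) :=
      OmegaDual24.isInvertible_omega (k := k) (hdim s)
    have hd := CurveRR24.deg_tensorPow k (hdim s).le hω n
    rw [OmegaDual24.deg_omega k (hdim s), show Curv2.genus k (f.fiber s) = g from hgen s] at hd
    have h2 : (2 : ℤ) ≤ g := by exact_mod_cast hg
    have h3 : (3 : ℤ) ≤ n := by exact_mod_cast hn
    have e : Curv2.deg k (f.fiber s) ((Scheme.Modules.pullback (f.fiberι s)).obj L) 1 =
        Curv2.deg k (f.fiber s) (CohB1.tensorPow (Omega.sheaf (f.fiber s ↘ Spec (CommRingCat.of k))) n) 1 :=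
      congrArg (fun t => t - _) (EulerLib.euler_congr k (f.fiber s) (e1 ≪≫ e2))
    refine le_of_le_of_eq ?_ (e.trans hd).symm
    nlinarith
  have hcov : ∀ x : X, ∃ l, x ∈ glocus L (σ l) := fun x => by
    by_contra hcon
    push Not at hcon
    obtain ⟨z, hz⟩ : x ∈ Set.range (f.fiberι (f x)) := (f.range_fiberι (f x)).ge rfl
    let k := S.residueField (f x)
    let Xs := f.fiber (f x)
    let _ := fibreOver f (f x)
    haveI : IsProper (Xs ↘ Spec (CommRingCat.of k)) := isProper_fibre f (f x)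
    haveI : GeometricallyIntegral (Xs ↘ Spec (CommRingCat.of k)) := geomIntegral_fibre f (f x)
    haveI := isIntegral_fibre f (f x)
    let L' := (Scheme.Modules.pullback (f.fiberι (f x))).obj L
    have hL' : PicF.IsInvertible L' := PicLoc.isInvertible_pullback _ hL
    have h0 := CurveRR24.h0_structure_of_geomIntegral k (X := Xs)
    have hd : 2 * (g : ℤ) + 1 ≤ Curv2.deg k Xs L' 1 := hdeg (f x)
    have hg' : Curv2.genus k Xs = g := hgen (f x)
    haveI h1 : Subsingleton (Coh.HH Xs L' 1) :=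
      CurveRR24.subsingleton_h1_of_deg k (hdim (f x)).le h0 hL' (lt_of_lt_of_le (by rw [hg']; omega) hd)
    have hrr := CurveRR24.riemann_roch k (hdim (f x)).le hL'
    rw [h0, Module.finrank_zero_of_subsingleton (M := Coh.HH Xs L' 1)] at hrr
    have hc := CurveRR24.isCoh_of_isInvertible k hL'
    haveI := EulerLib.isNoetherian_of_proper k (X := Xs)
    have hgen' := CurveRR24.span_germ_eq_top k (hdim (f x)).le hc hL' (𝟙 L') (by
      have : (Curv2.genus k Xs : ℤ) < (Module.finrank k (Coh.HH Xs L' 0) : ℤ) := by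
        rw [hg'] at hrr ⊢
        push_cast at hrr
        linarith
      exact_mod_cast this) z
    have hle : Submodule.span (Xs.presheaf.stalk z) (Set.range fun t : Γ(L', ⊤) => L'.presheaf.germ ⊤ z trivial t) ≤
        IsLocalRing.maximalIdeal (Xs.presheaf.stalk z) •
          (⊤ : Submodule (Xs.presheaf.stalk z) (L'.presheaf.stalk z)) := by
      refine Submodule.span_le.2 ?_
      rintro _ ⟨t, rfl⟩
      obtain ⟨c, rfl⟩ := hfibspan (f x) t
      rw [SetLike.mem_coe]
      show L'.presheaf.germ ⊤ z trivial (∑ i, _) ∈ _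
      rw [map_sum]
      refine Submodule.sum_mem _ fun i _ => ?_
      rw [QCohLoc.germ_smul']
      refine Submodule.smul_mem _ _ (not_not.1 ((CurveRR24.mem_glocus_iff_germ hL' _ z).not.1 ?_))
      rw [glocus_pullSec (f.fiberι (f x)) hL (σ i)]
      show f.fiberι (f x) z ∉ glocus L (σ i)
      rw [hz]
      exact hcon i
    rw [hgen'] at hle
    obtain ⟨U, hzU, e, he⟩ := exists_isGen hL' z
    have h3 := (EmbLib24.mem_smul_top_iff _ (EmbLib24.bijective_smul_germ he hzU) _ (1 : Xs.presheaf.stalk z)).1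
      (hle Submodule.mem_top)
    exact (IsLocalRing.maximalIdeal.isMaximal _).ne_top ((Ideal.eq_top_iff_one _).2 h3)
  obtain ⟨r, -, τ, hτ⟩ := UPLib.exists_hom_projSpace N (specULiftZIsTerminal.from X) hL σ hcov
  let i : X ⟶ CohB1.ProjSpaceOver N S := pullback.lift r f (specULiftZIsTerminal.hom_ext _ _)
  have hi1 : i ≫ pullback.fst _ _ = r := pullback.lift_fst _ _ _
  have hi2 : i ≫ pullback.snd _ _ = f := pullback.lift_snd _ _ _
  obtain ⟨τ', hτ'⟩ : ∃ τ' : (Scheme.Modules.pullback (i ≫ pullback.fst (CohB1.ProjSpace.toSpec N (ULift.{u} ℤ))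
      (specULiftZIsTerminal.from S))).obj (Twist.twistProjSpace N (ULift.{u} ℤ) 1) ≅ L,
      ∀ l, τ'.hom.app ⊤ (ProjUP.pullSec _ _ (ProjUP.coord N _ l)) = σ l := by
    rw [hi1]; exact ⟨τ, hτ⟩
  haveI : IsClosedImmersion i := isClosedImmersion_of_fibres f σ i hi2 τ' hτ' fun s r' hr' τr hτr => by
    let k := S.residueField s
    let _ := fibreOver f s
    haveI : IsProper (f.fiber s ↘ Spec (CommRingCat.of k)) := isProper_fibre f s
    haveI : GeometricallyIntegral (f.fiber s ↘ Spec (CommRingCat.of k)) := geomIntegral_fibre f s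
    haveI := isIntegral_fibre f s
    exact CurveRR24.isClosedImmersion_of_span k (hdim s) (CurveRR24.h0_structure_of_geomIntegral k)
      (PicLoc.isInvertible_pullback _ hL)
      (by rw [show Curv2.genus k (f.fiber s) = g from hgen s]; exact hdeg s)
      (fun l => fibSec f L s (σ l)) (hfibspan s) r' hr' τr hτr
  exact ⟨N, i, inferInstance, hi2,
    ⟨τ'.symm ≪≫ ((Scheme.Modules.pullbackComp i (pullback.fst _ _)).app _).symm⟩⟩

end Groth.Agent.Clifford24

namespace Groth.Agent.Clifford24

variable {X S : Scheme.{u}} (f : X ⟶ S) [IsProper f] [Smooth f] [GeometricallyConnected f]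

/-- Fibres over an open of the base. -/
theorem fibre_restrict (V : S.Opens) (v : V.toScheme) :
    Nonempty ((f ∣_ V).fiber v ≅ f.fiber (V.ι v)) ∧
      CohIII.fiberRank (f ∣_ V) (Coh.structureModule _) 1 v = CohIII.fiberRank f (Coh.structureModule X) 1 (V.ι v) := by
  have h := isPullback_morphismRestrict f V
  haveI := Coherent.isQCoh_structureModule (X := X)
  refine ⟨?_, ?_⟩
  · obtain ⟨t, ht, -, -, -, -⟩ := CohBC.exists_fibre_square h.flip (Coh.structureModule X) v
    haveI : IsIso (Spec.map (V.ι.residueFieldMap v)) := inferInstance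
    haveI : IsIso t := ht.isIso_fst_of_isIso
    exact ⟨asIso t⟩
  · rw [← CohBC.fiberRank_pullback h.flip (Coh.structureModule X) 1 v]
    exact (CohBC.finrank_HH_congr _
      ((Scheme.Modules.pullback ((f ∣_ V).fiberι v)).mapIso (PicLoc.pullbackStructureIso (f ⁻¹ᵁ V).ι)) 1).symm

/-- Pluricanonical systems are very ample relative to any family of curves. -/
theorem isRelVeryAmple_tensorPow_omega (hdim : ∀ s : S, topologicalKrullDim ↥(f.fiber s) = 1) (g : ℕ)
    (hgen : ∀ s : S, letI := fibreOver f s; Curv2.genus (S.residueField s) (f.fiber s) = g)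
    (hg : 2 ≤ g) (n : ℕ) (hn : 3 ≤ n) :
    RelProj.IsRelVeryAmple f (CohB1.tensorPow (Omega.sheaf f) n) := by
  have hL := AmpleLib.isInvertible_tensorPow (isInvertible_omega_family f hdim) n
  refine (RelVALib.isRelVeryAmple_iff_of_openCover f _ hL (fun V : S.affineOpens => V.1) (iSup_affineOpens_eq_top S)).2
    fun V => ?_
  let f' := f ∣_ V.1
  haveI : IsAffine (V.1 : Scheme.{u}) := V.2
  have hpb := (isPullback_morphismRestrict f V.1).flip
  haveI : IsProper f' := MorphismProperty.of_isPullback hpb inferInstance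
  haveI : Smooth f' := MorphismProperty.of_isPullback hpb inferInstance
  haveI : GeometricallyConnected f' := MorphismProperty.of_isPullback hpb inferInstance
  have hdim' : ∀ v, topologicalKrullDim ↥(f'.fiber v) = 1 := fun v => by
    obtain ⟨e⟩ := (fibre_restrict f V.1 v).1
    exact (IsHomeomorph.topologicalKrullDim_eq _ e.hom.homeomorph.isHomeomorph).trans (hdim _)
  have hgen' : ∀ v, letI := fibreOver f' v; Curv2.genus (V.1.toScheme.residueField v) (f'.fiber v) = g := fun v => by
    let _ := fibreOver f' v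
    refine ((CohBC.finrank_HH_congr _ (PicLoc.pullbackStructureIso (f'.fiberι v)).symm 1).trans
      (fibre_restrict f V.1 v).2).trans ?_
    let _ := fibreOver f (V.1.ι v)
    exact (CohBC.finrank_HH_congr _ (PicLoc.pullbackStructureIso (f.fiberι (V.1.ι v))) 1).trans (hgen _)
  obtain ⟨c, hc, -⟩ := Omega15.existsUnique_compat (f ⁻¹ᵁ V.1).ι V.1.ι hpb.w.symm
    (OmegaLib.isUniversal_dOmega f) (OmegaSh.dOmega f')
  haveI := Omega15.isIso_of_isPullback hpb (OmegaLib.isUniversal_dOmega f) (OmegaLib.isUniversal_dOmega f') hc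
  obtain ⟨e1⟩ := nonempty_pullback_tensorPow (f ⁻¹ᵁ V.1).ι (Omega.sheaf f) n
  obtain ⟨e2⟩ := nonempty_tensorPow_congr (asIso c) n
  let e : (CohB1.tensorPow (Omega.sheaf f) n).restrict (f ⁻¹ᵁ V.1).ι ≅ CohB1.tensorPow (Omega.sheaf f') n :=
    (Scheme.Modules.restrictFunctorIsoPullback (f ⁻¹ᵁ V.1).ι).app _ ≪≫ e1 ≪≫ e2
  obtain ⟨N, i, hi, hif, ⟨ei⟩⟩ := isRelVeryAmplePn_tensorPow_omega f' hdim' g hgen' hg n hn
  refine RelVALib.isRelVeryAmple_of_isRelVeryAmplePn f' _ ?_ ⟨N, i, hi, hif, ⟨e ≪≫ ei⟩⟩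
  exact AmpleLib.glocus_isInvertible_of_iso e.symm (AmpleLib.isInvertible_tensorPow (isInvertible_omega_family f' hdim') n)

end Groth.Agent.Clifford24
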