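import Groth.Agent.CohExch.ChartMain
import Groth.Agent.CohExch.ChartBC
import Groth.Agent.CohExch.Chart0
import Groth.Agent.OmegaDual24.Main
import Groth.Agent.CurveRR24.Ample
import Groth.Agent.Coherent.CohBC.HomSheaf

/-!
# Families of smooth curves: the fibres of powers of the relative differentials
-/

set_option autoImplicit false
set_option linter.style.haveILetI false
set_option linter.unusedSectionVars false
set_option backward.isDefEq.respectTransparency.types false
set_option maxHeartbeats 1000000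

universe u

open CategoryTheory CategoryTheory.Limits AlgebraicGeometry Opposite TopologicalSpace
open Groth.Agent.Coherent Groth.Agent.PicLib Groth.Agent.AmpleLib Groth.Agent.EulerLib Groth.Agent.CurveRR24

namespace Groth.Agent.Clifford24

variable {X Y : Scheme.{u}}

/-- Tensor powers commute with inverse images. -/
theorem nonempty_pullback_tensorPow (g : Y ⟶ X) (L : X.Modules) :
    ∀ n : ℕ, Nonempty ((Scheme.Modules.pullback g).obj (CohB1.tensorPow L n) ≅
      CohB1.tensorPow ((Scheme.Modules.pullback g).obj L) n)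
  | 0 => ⟨PicLoc.pullbackStructureIso g⟩
  | n + 1 =>
    let ⟨e⟩ := nonempty_pullback_tensorPow g L n
    ⟨DCat.PullTensor.pullTensorIso g (CohB1.tensorPow L n) L ≪≫ AmpleLib.tensorIso e (Iso.refl _)⟩

/-- Tensor powers of isomorphic modules. -/
theorem nonempty_tensorPow_congr {L L' : X.Modules} (e : L ≅ L') :
    ∀ n : ℕ, Nonempty (CohB1.tensorPow L n ≅ CohB1.tensorPow L' n)
  | 0 => ⟨Iso.refl _⟩
  | n + 1 => let ⟨e'⟩ := nonempty_tensorPow_congr e n; ⟨AmpleLib.tensorIso e' e⟩

variable {S : Scheme.{u}} (f : X ⟶ S)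

/-- The fibre of the relative differentials. -/
theorem nonempty_omega_fibre [QuasiSeparated f] (s : S) :
    Nonempty ((Scheme.Modules.pullback (f.fiberι s)).obj (Omega.sheaf f) ≅
      Omega.sheaf (f.fiberToSpecResidueField s)) := by
  haveI : QuasiSeparated (f.fiberToSpecResidueField s) :=
    MorphismProperty.pullback_snd (P := @QuasiSeparated) _ _ inferInstance
  have hpb : IsPullback (f.fiberι s) (f.fiberToSpecResidueField s) f (S.fromSpecResidueField s) :=
    IsPullback.of_hasPullback f (S.fromSpecResidueField s)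
  obtain ⟨c, hc, -⟩ := Omega15.existsUnique_compat (f.fiberι s) (S.fromSpecResidueField s) hpb.w.symm
    (OmegaLib.isUniversal_dOmega f) (OmegaSh.dOmega (f.fiberToSpecResidueField s))
  haveI := Omega15.isIso_of_isPullback hpb (OmegaLib.isUniversal_dOmega f)
    (OmegaLib.isUniversal_dOmega (f.fiberToSpecResidueField s)) hc
  exact ⟨asIso c⟩

/-- The instance-bearing structure map of a fibre. -/
noncomputable abbrev fibreOver (s : S) : (f.fiber s).Over (Spec (CommRingCat.of (S.residueField s))) :=
  ⟨f.fiberToSpecResidueField s⟩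

variable [IsProper f] [Smooth f] [GeometricallyConnected f]

theorem isProper_fibre (s : S) : IsProper (f.fiberToSpecResidueField s) :=
  MorphismProperty.pullback_snd (P := @IsProper) _ _ inferInstance

theorem smooth_fibre (s : S) : Smooth (f.fiberToSpecResidueField s) :=
  MorphismProperty.pullback_snd (P := @Smooth) _ _ inferInstance

theorem geomConnected_fibre (s : S) : GeometricallyConnected (f.fiberToSpecResidueField s) :=
  MorphismProperty.pullback_snd (P := @GeometricallyConnected) _ _ inferInstance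

theorem geomIntegral_fibre (s : S) : GeometricallyIntegral (f.fiberToSpecResidueField s) := by
  haveI := isProper_fibre f s
  haveI := smooth_fibre f s
  haveI := geomConnected_fibre f s
  exact AbVarLib.geometricallyIntegral_of_smooth _

theorem isIntegral_fibre (s : S) : IsIntegral (f.fiber s) := by
  haveI := geomIntegral_fibre f s
  exact GeometricallyIntegral.isIntegral_of_subsingleton (f.fiberToSpecResidueField s)

/-- `Ω` of a family of smooth curves is invertible. -/
theorem isInvertible_omega_family (hdim : ∀ s : S, topologicalKrullDim ↥(f.fiber s) = 1) :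
    PicF.IsInvertible (Omega.sheaf f) := by
  intro x
  obtain ⟨U, n, hxU, ⟨e⟩, hn⟩ := OmegaLib.exists_free_rank_fibreDimAt (OmegaLib.isUniversal_dOmega f) x
  have h1 : n = 1 := by
    haveI := isProper_fibre f (f x)
    haveI := isIntegral_fibre f (f x)
    haveI := smooth_fibre f (f x)
    let q : f.fiber (f x) ⟶ Spec (CommRingCat.of (S.residueField (f x))) := f.fiberToSpecResidueField (f x)
    haveI : Smooth q := smooth_fibre f (f x)
    haveI : LocallyOfFiniteType q := inferInstance
    rw [FlatMor.fibreDimAt,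
      GenSmoothLib.localDim_eq_topologicalKrullDim q, hdim] at hn
    exact_mod_cast hn.symm
  subst h1
  exact ⟨U, hxU, ⟨e ≪≫ freeModOneIso _⟩⟩

/-- Fibres of `O` have `h⁰ = 1`. -/
theorem fiberRank_structure (s : S) : CohIII.fiberRank f (Coh.structureModule X) 0 s = 1 := by
  let _ := fibreOver f s
  haveI : IsProper (f.fiber s ↘ Spec (CommRingCat.of (S.residueField s))) := isProper_fibre f s
  haveI : GeometricallyIntegral (f.fiber s ↘ Spec (CommRingCat.of (S.residueField s))) := geomIntegral_fibre f s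
  haveI := isIntegral_fibre f s
  exact (CohBC.finrank_HH_congr (S.residueField s) (PicLoc.pullbackStructureIso (f.fiberι s)) 0).trans
    (CurveRR24.h0_structure_of_geomIntegral (S.residueField s))

/-- Powers `n ≥ 2` of `Ω` have fibre ranks `((2n-1)(g-1), 0, 0, …)`. -/
theorem fiberRank_tensorPow_omega (hdim : ∀ s : S, topologicalKrullDim ↥(f.fiber s) = 1) (g : ℕ)
    (hgen : ∀ s : S, letI := fibreOver f s; Curv2.genus (S.residueField s) (f.fiber s) = g)
    (hg : 2 ≤ g) (n : ℕ) (hn : 2 ≤ n) (s : S) :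
    CohIII.fiberRank f (CohB1.tensorPow (Omega.sheaf f) n) 0 s = (2 * n - 1) * (g - 1) ∧
      CohIII.fiberRank f (CohB1.tensorPow (Omega.sheaf f) n) 1 s = 0 := by
  let k := S.residueField s
  let _ := fibreOver f s
  haveI : IsProper (f.fiber s ↘ Spec (CommRingCat.of k)) := isProper_fibre f s
  haveI : Smooth (f.fiber s ↘ Spec (CommRingCat.of k)) := smooth_fibre f s
  haveI : GeometricallyIntegral (f.fiber s ↘ Spec (CommRingCat.of k)) := geomIntegral_fibre f s
  haveI := isIntegral_fibre f s
  haveI := isLocallyNoetherian_of_proper k (X := f.fiber s)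
  obtain ⟨eω⟩ := nonempty_omega_fibre f s
  obtain ⟨e1⟩ := nonempty_pullback_tensorPow (f.fiberι s) (Omega.sheaf f) n
  obtain ⟨e2⟩ := nonempty_tensorPow_congr eω n
  let ω := Omega.sheaf (f.fiber s ↘ Spec (CommRingCat.of k))
  have hω : PicF.IsInvertible ω := OmegaDual24.isInvertible_omega (k := k) (hdim s)
  have hωn := AmpleLib.isInvertible_tensorPow hω n
  have hg' : Curv2.genus k (f.fiber s) = g := hgen s
  have hd : Curv2.deg k (f.fiber s) (CohB1.tensorPow ω n) 1 = (n : ℤ) * (2 * (g : ℤ) - 2) := by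
    rw [deg_tensorPow k (hdim s).le hω n, OmegaDual24.deg_omega k (hdim s), hg']
  have h0 := h0_structure_of_geomIntegral k (X := f.fiber s)
  haveI hs1 : Subsingleton (Coh.HH (f.fiber s) (CohB1.tensorPow ω n) 1) :=
    subsingleton_h1_of_deg k (hdim s).le h0 hωn (by
      rw [hd, hg']
      have h2 : (2 : ℤ) ≤ n := by exact_mod_cast hn
      have h3 : (2 : ℤ) ≤ g := by exact_mod_cast hg
      nlinarith)
  haveI : Subsingleton (Coh.HH (f.fiber s) (CohB1.tensorPow (Omega.sheaf (f.fiberToSpecResidueField s)) n) 1) :=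
    hs1
  have hr1 : CohIII.fiberRank f (CohB1.tensorPow (Omega.sheaf f) n) 1 s = 0 :=
    (CohBC.finrank_HH_congr k (e1 ≪≫ e2) 1).trans Module.finrank_zero_of_subsingleton
  refine ⟨?_, hr1⟩
  refine (CohBC.finrank_HH_congr k (e1 ≪≫ e2) 0).trans ?_
  have hE := euler_eq_h0_sub_h1 k (hdim s).le _ (isCoh_of_isInvertible k hωn).1
  have hO := euler_eq_h0_sub_h1 k (hdim s).le (Coh.structureModule (f.fiber s)) Coherent.isQCoh_structureModule
  rw [h0] at hO
  change Curv2.euler k (f.fiber s) (CohB1.tensorPow ω n) -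
    ((1 : ℕ) : ℤ) * Curv2.euler k (f.fiber s) (Coh.structureModule (f.fiber s)) = _ at hd
  change Module.finrank k (Coh.HH (f.fiber s) (CohB1.tensorPow ω n) 0) = _
  rw [Module.finrank_zero_of_subsingleton (R := k) (M := Coh.HH (f.fiber s) (CohB1.tensorPow ω n) 1)] at hE
  have hgg : (Module.finrank k (Coh.HH (f.fiber s) (Coh.structureModule (f.fiber s)) 1) : ℤ) = g :=
    congrArg Nat.cast hg'
  have key : (Module.finrank k (Coh.HH (f.fiber s) (CohB1.tensorPow ω n) 0) : ℤ) =
      (((2 * n - 1) * (g - 1) : ℕ) : ℤ) := by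
    push_cast [Nat.cast_sub (show 1 ≤ 2 * n by omega), Nat.cast_sub (show 1 ≤ g by omega)]
    rw [hE, hO, hgg] at hd
    push_cast at hd ⊢
    nlinarith
  exact_mod_cast key

end Groth.Agent.Clifford24

namespace Groth.Agent.Clifford24

open Groth.Agent.CohExch

variable {X S : Scheme.{u}} (f : X ⟶ S) [IsProper f] [Smooth f] [GeometricallyConnected f]
  (hdim : ∀ s : S, topologicalKrullDim ↥(f.fiber s) = 1) (g : ℕ)
  (hgen : ∀ s : S, letI := fibreOver f s; Curv2.genus (S.residueField s) (f.fiber s) = g)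
  (hg : 2 ≤ g) (n : ℕ) (hn : 2 ≤ n)

include hdim in
theorem locFree_tensorPow_omega :
    FlatMod.IsFinLocFree (CohB1.tensorPow (Omega.sheaf f) n) := fun x =>
  let ⟨U, hx, e⟩ := PicLib.isFinLocFreeOfRank_one
    (AmpleLib.isInvertible_tensorPow (isInvertible_omega_family f hdim) n) x
  ⟨U, 1, hx, e⟩

include hdim in
theorem isFP_tensorPow_omega : CohB1.IsFP (CohB1.tensorPow (Omega.sheaf f) n) :=
  have := (CohBC.isCoh_of_isFinLocFree (locFree_tensorPow_omega f hdim n)).1
  Props12.isFP_of_isFinLocFree _ (locFree_tensorPow_omega f hdim n)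

include hdim hgen hg hn in
theorem exists_chart_tensorPow_omega (s : S) :
    ∃ C : Chart f (CohB1.tensorPow (Omega.sheaf f) n), s ∈ C.U ∧ C.Flat ((0 : ℕ) : ℤ) := by
  have hfp := isFP_tensorPow_omega f hdim n
  haveI : Coh.IsQCoh (CohB1.tensorPow (Omega.sheaf f) n) := ConsPropLib.isQCoh_of_isFP hfp
  obtain ⟨C, hC, -, -, h0, -⟩ := exists_zero_chart hfp
    (CohBC.isFlatOver_of_isFinLocFree f (locFree_tensorPow_omega f hdim n)) (V := ⊤) (s := s) trivial 1
    ((subsingleton_fiberH_iff_rank hfp s 1).2 (fiberRank_tensorPow_omega f hdim g hgen hg n hn s).2)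
  exact ⟨C, hC, by simpa using h0⟩

include hdim hgen hg hn in
theorem isFinLocFreeOfRank_push_tensorPow_omega :
    FlatMod.IsFinLocFreeOfRank ((2 * n - 1) * (g - 1))
      ((Scheme.Modules.pushforward f).obj (CohB1.tensorPow (Omega.sheaf f) n)) := fun s => by
  have hfp := isFP_tensorPow_omega f hdim n
  haveI : Coh.IsQCoh (CohB1.tensorPow (Omega.sheaf f) n) := ConsPropLib.isQCoh_of_isFP hfp
  obtain ⟨C, hC, h0⟩ := exists_chart_tensorPow_omega f hdim g hgen hg n hn s
  obtain ⟨W, m, hW, ⟨e⟩⟩ := C.exists_trivial_nhd0 h0 hC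
  have hm := (C.fiberRank_eq_of_free (CohBC.isFlatOver_of_isFinLocFree f (locFree_tensorPow_omega f hdim n))
    h0 hC hW e).symm.trans (fiberRank_tensorPow_omega f hdim g hgen hg n hn s).1
  subst hm
  exact ⟨W, hW, ⟨e⟩⟩

include hdim hgen hg hn in
theorem isZero_rpush_tensorPow_omega [HasInjectiveResolutions X.Modules] (i : ℕ) (hi : 1 ≤ i) :
    IsZero ((Coh.Rpush f i).obj (CohB1.tensorPow (Omega.sheaf f) n)) := by
  have hfp := isFP_tensorPow_omega f hdim n
  haveI : Coh.IsQCoh (CohB1.tensorPow (Omega.sheaf f) n) := ConsPropLib.isQCoh_of_isFP hfp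
  refine isZero_rpush_of_fibres hfp (CohBC.isFlatOver_of_isFinLocFree f (locFree_tensorPow_omega f hdim n)) i
    fun s => ?_
  rcases eq_or_lt_of_le hi with rfl | hi2
  · exact (subsingleton_fiberH_iff_rank hfp s 1).2 (fiberRank_tensorPow_omega f hdim g hgen hg n hn s).2
  · exact subsingleton_fiberH_of_dim hfp 1 s (by rw [hdim]; rfl) i hi2

include hdim hgen hg hn in
theorem isIso_bc0_tensorPow_omega {T X' : Scheme.{u}} {b : T ⟶ S} {f' : X' ⟶ T} {b' : X' ⟶ X}
    (h : IsPullback b' f' f b) :
    IsIso (CohBC.bc0 f b f' b' h.w (CohB1.tensorPow (Omega.sheaf f) n)) := by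
  haveI : Coh.IsQCoh (CohB1.tensorPow (Omega.sheaf f) n) :=
    ConsPropLib.isQCoh_of_isFP (isFP_tensorPow_omega f hdim n)
  exact isIso_bc0_of_flat h fun z => exists_chart_tensorPow_omega f hdim g hgen hg n hn (b z)

end Groth.Agent.Clifford24
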