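import Groth.Agent.Clifford24.Canonical
import Groth.Agent.CurveRR24.RatPoint

/-!
# A line bundle of degree one with a section is `O(P)` for a rational point
-/

set_option autoImplicit false
set_option linter.style.haveILetI false
set_option linter.unusedSectionVars false
set_option backward.isDefEq.respectTransparency.types false

universe u

open CategoryTheory CategoryTheory.Limits AlgebraicGeometry Opposite TopologicalSpace
open Groth.Agent.Coherent Groth.Agent.PicLib Groth.Agent.AmpleLib Groth.Agent.EulerLib Groth.Agent.CurveRR24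

namespace Groth.Agent.Clifford24

variable {X : Scheme.{u}} (k : Type u) [Field k] [X.Over (Spec (CommRingCat.of k))]
  [IsProper (X ↘ Spec (CommRingCat.of k))] [IsIntegral X]

/-- `N` of degree one with exactly one section is `O(P)`, `P` rational. -/
theorem exists_ratPoint_of_deg_one (hdim : topologicalKrullDim X = 1)
    (hn : ∀ P : X, IsClosed ({P} : Set X) → IsIntegrallyClosed (X.presheaf.stalk P))
    {N : X.Modules} (hN : PicF.IsInvertible N) (hdN : Curv2.deg k X N 1 = 1)
    (h1 : Module.finrank k (Coh.HH X N 0) = 1) :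
    ∃ (P : X) (hP : IsClosed ({P} : Set X)), Function.Bijective (Curv2.resMap k X P) ∧
      Nonempty (CohB1.tensorMod N (ClSub.idealMod (ptIdeal P hP)) ≅ Coh.structureModule X) := by
  haveI := EulerLib.isNoetherian_of_proper k (X := X)
  obtain ⟨s, hs⟩ := exists_ne_zero_of_nontrivial k
    (Module.nontrivial_of_finrank_pos (R := k) (M := Coh.HH X N 0) (by omega))
  have hne : ∃ x, x ∉ glocus N s := by
    by_contra hall
    push Not at hall
    have hempty : CohB1.support (cokernel (unitDesc N s)) = ∅ :=
      Set.subset_empty_iff.1 fun x hx => support_cokernel_unitDesc s hx (hall x)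
    haveI := mono_unitDesc hN hs
    haveI : Epi (unitDesc N s) := Abelian.epi_of_cokernel_π_eq_zero _
      ((isZero_of_support_eq_empty hempty).eq_of_tgt _ _)
    haveI : IsIso (unitDesc N s) := isIso_of_mono_of_epi _
    rw [← deg_congr k (asIso (unitDesc N s)) 1, deg_structure] at hdN
    exact absurd hdN (by norm_num)
  obtain ⟨x, hx⟩ := hne
  obtain ⟨Q, hQx, hQ⟩ := (isClosed_closure (s := ({x} : Set X))).exists_closed_singleton ⟨x, subset_closure rfl⟩
  have hsQ : Q ∉ glocus N s := fun h' => hx ((specializes_iff_mem_closure.2 hQx).mem_open (glocus N s).2 h')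
  haveI := finite_HH_of_isCoh k (CurveRR24.isCoh_of_isInvertible k hN) 0
  haveI : Module.Finite k (GA (baseHom k X) N) := Module.Finite.equiv (hhZero k N)
  have hall : ∀ t : Γ(N, ⊤), Q ∉ glocus N t := by
    intro t ht
    let E := hhZero k N
    obtain ⟨c, hc⟩ := exists_smul_eq_of_finrank_eq_one h1
      (x := E.symm s) (fun h => hs (E.symm.map_eq_zero_iff.1 h)) (E.symm t)
    rw [← map_smul] at hc
    replace hc := E.symm.injective hc
    have hc' : baseHom k X c • s = t := hc
    refine (mem_glocus_iff_germ hN t Q).1 ht ?_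
    rw [← hc', QCohLoc.germ_smul']
    exact Submodule.smul_mem _ _ (not_not.1 ((mem_glocus_iff_germ hN s Q).not.1 hsQ))
  have h00 := h0_eq_of_all_vanish k hQ hN hall
  have hNQ := AmpleLib.isInvertible_tensorMod hN (isInvertible_ptIdeal_of_normal k hdim hQ (hn Q hQ))
  have hnn := deg_nonneg_of_section k hdim.le hNQ
    (Module.nontrivial_of_finrank_pos (R := k) (by rw [h00]; omega))
  haveI := finite_resField hQ k
  let _ := Curv2.resAlgebra k X Q
  have hpos : 0 < Module.finrank k (X.residueField Q) := Module.finrank_pos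
  have hdeg := deg_tensor_ptIdeal k hQ hN
  rw [hdN] at hdeg
  have hfr : Module.finrank k (X.residueField Q) = 1 := by have := hnn.1; omega
  obtain ⟨e⟩ := hnn.2.1 (by omega)
  refine ⟨Q, hQ, ⟨(algebraMap k (X.residueField Q)).injective, fun v => ?_⟩, ⟨e⟩⟩
  obtain ⟨c, hc⟩ := exists_smul_eq_of_finrank_eq_one hfr (x := (1 : X.residueField Q)) one_ne_zero v
  exact ⟨c, (Algebra.algebraMap_eq_smul_one c).trans hc⟩

/-- On a curve other than the line distinct rational points are inequivalent. -/
theorem eq_of_ptIdeal_iso {P Q : X} (hP : IsClosed ({P} : Set X)) (hQ : IsClosed ({Q} : Set X))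
    (hJ : ∃ J : X.Modules, PicF.IsInvertible J ∧
      Nonempty (CohB1.tensorMod (ClSub.idealMod (ptIdeal P hP)) J ≅ Coh.structureModule X) ∧
      Module.finrank k (Coh.HH X J 0) = Module.finrank k (Coh.HH X (Coh.structureModule X) 0))
    (φ : ClSub.idealMod (ptIdeal P hP) ≅ ClSub.idealMod (ptIdeal Q hQ)) : P = Q := by
  obtain ⟨L, hL, ⟨e⟩, h1⟩ := hJ
  by_contra hPQ
  let one : Γ(Coh.structureModule X, ⊤) := oneSec ⊤
  let z₁ := e.inv.app ⊤ one
  let s₁ := (twistMul (ptIdeal P hP) L).app ⊤ z₁
  have hone : ∀ w : X, w ∈ glocus (Coh.structureModule X) one := fun w => by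
    have h : (⊤ : X.Opens) ≤ glocus (Coh.structureModule X) one := by
      refine (le_glocus_iff one ⊤).2 ?_
      rw [resM_self]
      exact isGen_oneSec ⊤
    exact h trivial
  have h1Q : Q ∈ glocus L s₁ := by
    refine mem_glocus_twistMul hL z₁ (fun h => hPQ ((support_ptIdeal hP).le h).symm) ?_
    rw [show z₁ = e.symm.hom.app ⊤ one from rfl, glocus_map_iso]
    exact hone Q
  refine h0_ne_of_mem_glocus k hQ hL h1Q ?_
  rw [finrank_HH_congr k (tensorComm _ _ ≪≫ AmpleLib.tensorIso φ.symm (Iso.refl L) ≪≫ e) 0, h1]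

end Groth.Agent.Clifford24
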