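import Groth.Agent.Clifford24.SmoothFamily
import Groth.Agent.CubeLib.FibrewiseTriv
import Groth.Agent.AbSchLib.SmoothReduced
import Groth.Agent.CohExch.ChartApps

/-!
# Families of smooth curves: `f_* O = O` and `R¹ f_* O`
-/

set_option autoImplicit false
set_option linter.style.haveILetI false
set_option linter.unusedSectionVars false
set_option backward.isDefEq.respectTransparency false
set_option maxHeartbeats 1000000

universe u

open CategoryTheory CategoryTheory.Limits AlgebraicGeometry Opposite TopologicalSpace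
open Groth.Agent.Coherent Groth.Agent.PicLib Groth.Agent.AmpleLib Groth.Agent.CohExch

namespace Groth.Agent.Clifford24

variable {X S : Scheme.{u}} (f : X ⟶ S) [IsProper f]

/-- Scalar functions on the fibre make degree zero base change of `O` to the fibre surjective. -/
theorem epi_bc0_structure (s : S) (hs : Function.Bijective (algebraMap (S.residueField s) Γ(f.fiber s, ⊤))) :
    Epi (CohBC.bc0 f (S.fromSpecResidueField s) (f.fiberToSpecResidueField s) (f.fiberι s) (f.fiber_fac s)
      (Coh.structureModule X)) := by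
  have : Subsingleton ↥(Spec (S.residueField s)) :=
    inferInstanceAs (Subsingleton (PrimeSpectrum (S.residueField s)))
  rw [epi_iff_surjective_top]
  intro z
  let pi := f.fiberToSpecResidueField s
  have hgen := ((isGen_pullSec (f.fiberι s) (AmpleLib.isGen_oneSec (X := X) (f ⁻¹ᵁ ⊤))
    AmpleLib.isInvertible_structureModule).restrict
      (CohCmp.sqLE f (S.fromSpecResidueField s) pi (f.fiberι s) (f.fiber_fac s) ⊤))
  obtain ⟨a, ha⟩ := hs.2 (hgen.coef le_rfl z)
  refine ⟨(show Γ(Spec (S.residueField s), S.fromSpecResidueField s ⁻¹ᵁ ⊤) from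
      (Scheme.ΓSpecIso (S.residueField s)).inv.hom a) •
    pullSec (S.fromSpecResidueField s)
      (show Γ((Scheme.Modules.pushforward f).obj (Coh.structureModule X), ⊤) from AmpleLib.oneSec (f ⁻¹ᵁ ⊤)), ?_⟩
  rw [Scheme.Modules.Hom.app_smul]
  refine (congrArg (fun t => (show Γ(Spec (S.residueField s), S.fromSpecResidueField s ⁻¹ᵁ ⊤) from
      (Scheme.ΓSpecIso (S.residueField s)).inv.hom a) • t)
    (bc0_pullSec (f.fiber_fac s) (Coh.structureModule X) ⊤ (AmpleLib.oneSec (f ⁻¹ᵁ ⊤)))).trans ?_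
  have h1 := hgen.coef_spec le_rfl z
  rw [resM_self] at h1
  refine Eq.trans ?_ h1
  rw [← ha]
  rfl

variable [Flat f] [LocallyOfFinitePresentation f]
  (hy : ∀ y : S, Function.Bijective (algebraMap (S.residueField y) Γ(f.fiber y, ⊤)))

theorem isFP_structure : CohB1.IsFP (Coh.structureModule X) :=
  have := Coherent.isQCoh_structureModule (X := X)
  Props12.isFP_of_isFinLocFree _ fun x =>
    let ⟨U, hx, e⟩ := PicLib.isFinLocFreeOfRank_one (AmpleLib.isInvertible_structureModule (X := X)) x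
    ⟨U, 1, hx, e⟩

omit [IsProper f] [LocallyOfFinitePresentation f] in
theorem isFlatOver_structure : FlatMod.IsFlatOver f (Coh.structureModule X) :=
  CohBC.isFlatOver_of_isFinLocFree f fun x =>
    let ⟨U, hx, e⟩ := PicLib.isFinLocFreeOfRank_one (AmpleLib.isInvertible_structureModule (X := X)) x
    ⟨U, 1, hx, e⟩

include hy in
theorem exists_chart_structure (y : S) {p : ℕ} (hp : Subsingleton (CohIII.fiberH f (Coh.structureModule X) y p)) :
    ∃ C : Chart f (Coh.structureModule X), y ∈ C.U ∧ C.Flat ((0 : ℕ) : ℤ) ∧ C.Flat ((p : ℤ) - 1) := by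
  haveI := Coherent.isQCoh_structureModule (X := X)
  obtain ⟨C₁, h₁, -, -, hf₁, -⟩ :=
    exists_zero_chart (isFP_structure (X := X)) (isFlatOver_structure f) (V := ⊤) (s := y) trivial p hp
  obtain ⟨C₂, h₂, -, hf₂, hm⟩ := C₁.exists_flat_of_epi0 (isFlatOver_structure f) (epi_bc0_structure f y (hy y)) h₁
  exact ⟨C₂, h₂, hf₂, hm _ hf₁⟩

include hy in
/-- With scalar functions on all fibres, `O → f_* O` is an isomorphism. -/
theorem isIso_unitToPush : IsIso (ClSub.unitToPush f) := by
  haveI := Coherent.isQCoh_structureModule (X := X)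
  have hfl := isFlatOver_structure f
  have key : ∀ y : S, ∃ W : S.Opens, y ∈ W ∧
      Nonempty (((Scheme.Modules.pushforward f).obj (Coh.structureModule X)).restrict W.ι ≅
        FlatMod.freeMod W.toScheme 1) := fun y => by
    obtain ⟨C₀, h₀, -⟩ := exists_chart (isFP_structure (X := X)) hfl (V := ⊤) (s := y) trivial
    obtain ⟨C, hC, -, h0, -⟩ := C₀.exists_flat_of_epi0 hfl (epi_bc0_structure f y (hy y)) h₀
    obtain ⟨W, m, hW, ⟨e⟩⟩ := C.exists_trivial_nhd0 h0 hC
    have hm : m = 1 :=
      (C.fiberRank_eq_of_free hfl h0 hC hW e).symm.trans (CohBC.fiberRank_structureModule_eq_one f y (hy y))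
    subst hm
    exact ⟨W, hW, ⟨e⟩⟩
  have hrange : ∀ y : S, y ∈ Set.range f := fun y => by
    have : Nontrivial Γ(f.fiber y, ⊤) := (hy y).1.nontrivial
    obtain ⟨x⟩ : Nonempty (f.fiber y) := by
      by_contra h
      rw [not_nonempty_iff] at h
      exact not_subsingleton Γ(f.fiber y, ⊤) inferInstance
    exact ⟨f.fiberι y x, (f.range_fiberι y).le ⟨x, rfl⟩⟩
  refine TwistLib.G.isIso_of_bijective_on_basis _ (fun W => ∃ U : S.Opens, W ≤ U ∧
    Nonempty (((Scheme.Modules.pushforward f).obj (Coh.structureModule X)).restrict U.ι ≅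
        FlatMod.freeMod U.toScheme 1)) (fun V y hyV => ?_) fun W ⟨U, hWU, ⟨e⟩⟩ => ?_
  · obtain ⟨U, hyU, e⟩ := key y
    exact ⟨V ⊓ U, ⟨U, inf_le_right, e⟩, ⟨hyV, hyU⟩, inf_le_left⟩
  obtain ⟨b⟩ := Props12.exists_basis_sections e hWU
  let g : Γ(X, f ⁻¹ᵁ W) := show Γ(Coh.structureModule X, f ⁻¹ᵁ W) from b 0
  have hexp : ∀ z : Γ(X, f ⁻¹ᵁ W), ∃ r : Γ(S, W), (f.app W) r * g = z := fun z => by
    refine ⟨b.repr (show Γ((Scheme.Modules.pushforward f).obj (Coh.structureModule X), W) from z) 0, ?_⟩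
    have h := b.sum_repr (show Γ((Scheme.Modules.pushforward f).obj (Coh.structureModule X), W) from z)
    rw [Fin.sum_univ_one] at h
    exact h
  have hinj : ∀ r : Γ(S, W), (f.app W) r * g = 0 → r = 0 := fun r hr => by
    have h : r • b 0 = 0 := hr
    have h' := congrArg (fun v => b.repr v 0) h
    simpa using h'
  obtain ⟨s, hs⟩ := hexp 1
  have hsu : IsUnit s := by
    refine S.toRingedSpace.isUnit_of_isUnit_germ W s fun z hz => ?_
    obtain ⟨x, rfl⟩ := hrange z
    have hu : IsUnit (X.presheaf.germ (f ⁻¹ᵁ W) x hz (f.app W s)) :=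
      (IsUnit.of_mul_eq_one _ hs).map _
    have e' := ConcreteCategory.congr_hom (f.germ_stalkMap W x hz) s
    exact (isUnit_map_iff (f.stalkMap x).hom _).1 (by
      refine Eq.subst (motive := IsUnit) ?_ hu
      exact e'.symm)
  have hbij : Function.Bijective (f.app W) := by
    refine ⟨(injective_iff_map_eq_zero (f.app W).hom).2 fun r hr => ?_, fun z => ?_⟩
    · have h0 : (f.app W) (r * s) * g = 0 := by
        rw [map_mul, mul_assoc, hs, mul_one]; exact hr
      exact hsu.mul_left_eq_zero.1 (hinj _ h0)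
    · obtain ⟨r, hr⟩ := hexp z
      obtain ⟨t, ht⟩ := hsu.exists_left_inv
      refine ⟨r * t, ?_⟩
      rw [map_mul, ← hr]
      have : f.app W t = g := by
        have h1 : f.app W t * (f.app W s * g) = f.app W t := by rw [hs, mul_one]
        rw [← h1, ← mul_assoc, ← map_mul, ht, map_one, one_mul]
      rw [this]
  exact hbij

end Groth.Agent.Clifford24

namespace Groth.Agent.Clifford24

open Groth.Agent.FlatCxLib

/-- With a flat cokernel out of degree `p` the fibre dimension is the rank of the higher direct image. -/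
theorem fiberRank_eq_of_free_rpush {X S : Scheme.{u}} {f : X ⟶ S} {F : X.Modules} [IsSeparated f] [QuasiCompact f]
    [HasInjectiveResolutions X.Modules] [Coh.IsQCoh F] (hfl : FlatMod.IsFlatOver f F) (C : Chart f F) (p : ℕ)
    (h : C.Flat p) {s : S} (hs : s ∈ C.U) {W : S.Opens} {n : ℕ} (hsW : s ∈ W)
    (e : ((Coh.Rpush f p).obj F).restrict W.ι ≅ FlatMod.freeMod W.toScheme n) :
    CohIII.fiberRank f F p s = n := by
  obtain ⟨a, haW, hsa⟩ := C.hU.exists_basicOpen_le (V := W) ⟨s, hsW⟩ hs
  obtain ⟨C', hU', hflat, -⟩ := C.exists_away hfl a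
  have h' := hflat _ h
  have hs' : s ∈ C'.U := hU' ▸ hsa
  have hle : C'.U ≤ W := hU' ▸ haW
  haveI := isQCoh_rpush f F p
  obtain ⟨b⟩ := Props12.exists_basis_sections e hle
  obtain ⟨eH⟩ := C'.nonempty_sectionsEquiv p
  have : Nontrivial Γ(S, C'.U) := (C'.pt hs').nontrivial
  let bH := b.map eH
  have : Module.Free Γ(S, C'.U) (C'.P.homology (-(p : ℤ))) := Module.Free.of_basis bH
  have : Module.Finite Γ(S, C'.U) (C'.P.homology (-(p : ℤ))) := Module.Finite.of_basis bH
  have hP : ∀ i, Module.Flat Γ(S, C'.U) (C'.P.X i) := fun i => by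
    have := (C'.finite_free i).2
    infer_instance
  have : Module.Flat Γ(S, C'.U)
      (C'.P.X (-(p : ℤ) - 1) ⧸ LinearMap.range (C'.P.d (-(p : ℤ)) (-(p : ℤ) - 1)).hom) := h'
  rw [C'.fiberRank_eq hfl hs' p,
    FlatCx12.dRank_eq_fibreRank hP (-(p : ℤ) + 1) _ (-(p : ℤ) - 1) rfl (by omega),
    fibreRank, (LinearEquiv.baseChange Γ(S, C'.U) (C'.pt hs').asIdeal.ResidueField _ _
      (homologyQuotEquiv C'.P (-(p : ℤ) + 1) _ (-(p : ℤ) - 1) rfl (by omega))).finrank_eq,
    Module.finrank_baseChange, Module.finrank_eq_card_basis bH, Fintype.card_fin]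

variable {X S : Scheme.{u}} (f : X ⟶ S) [IsProper f] [Smooth f] [GeometricallyConnected f]

theorem bijective_algebraMap_smooth_fibre (y : S) :
    Function.Bijective (algebraMap (S.residueField y) Γ(f.fiber y, ⊤)) :=
  haveI := AbSchLib.geometricallyReduced_of_smooth f
  CubeLib.bijective_algebraMap_fibre f y

/-- `R¹ f_* O` of a family of curves of genus `g` is locally free of rank `g`. -/
theorem isFinLocFreeOfRank_R1push_structure (hdim : ∀ s : S, topologicalKrullDim ↥(f.fiber s) = 1) (g : ℕ)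
    (hgen : ∀ s : S, letI := fibreOver f s; Curv2.genus (S.residueField s) (f.fiber s) = g)
    [HasInjectiveResolutions X.Modules] :
    FlatMod.IsFinLocFreeOfRank g ((Coh.Rpush f 1).obj (Coh.structureModule X)) := fun y => by
  haveI := Coherent.isQCoh_structureModule (X := X)
  obtain ⟨C, hC, h0, h1⟩ := exists_chart_structure f (bijective_algebraMap_smooth_fibre f) y (p := 2)
    (subsingleton_fiberH_of_dim (isFP_structure (X := X)) 1 y (by rw [hdim]; rfl) 2 one_lt_two)
  have h1' : C.Flat ((1 : ℕ) : ℤ) := by simpa using h1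
  obtain ⟨W, n, hW, ⟨e⟩⟩ := C.exists_trivial_nhd 1 h1' (by simpa using h0) hC
  have hn : n = g := by
    rw [← fiberRank_eq_of_free_rpush (isFlatOver_structure f) C 1 h1' hC hW e, ← hgen y]
    exact CohBC.finrank_HH_congr (S.residueField y) (PicLoc.pullbackStructureIso (f.fiberι y)) 1
  subst hn
  exact ⟨W, hW, ⟨e⟩⟩

end Groth.Agent.Clifford24
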