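import Groth.Agent.Clifford24.Main
import Groth.Agent.SerreDual.HomLinear
import Groth.Agent.SplitP1.Split

/-!
# Invertible submodules of invertible modules on curves
-/

set_option autoImplicit false
set_option linter.style.haveILetI false
set_option linter.unusedSectionVars false
set_option backward.isDefEq.respectTransparency.types false

universe u

open CategoryTheory CategoryTheory.Limits AlgebraicGeometry Opposite TopologicalSpace
open Groth.Agent.Coherent Groth.Agent.PicLib Groth.Agent.AmpleLib Groth.Agent.EulerLib Groth.Agent.CurveRR24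

namespace Groth.Agent.Clifford24

variable {X : Scheme.{u}} (k : Type u) [Field k] [X.Over (Spec (CommRingCat.of k))]
  [IsProper (X ↘ Spec (CommRingCat.of k))] [IsIntegral X]

/-- Maps out of an invertible module as sections. -/
theorem hom_equiv_h0 {M L N : X.Modules} (hM : PicF.IsInvertible M) (hL : PicF.IsInvertible L)
    (hN : PicF.IsInvertible N) (e : CohB1.tensorMod M N ≅ Coh.structureModule X) :
    Module.Finite k (M ⟶ L) ∧
      Module.finrank k (M ⟶ L) = Module.finrank k (Coh.HH X (CohB1.tensorMod L N) 0) := by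
  haveI := EulerLib.isNoetherian_of_proper k (X := X)
  haveI := finite_HH_of_isCoh k (CurveRR24.isCoh_of_isInvertible k (AmpleLib.isInvertible_tensorMod hL hN)) 0
  let fwd : (M ⟶ L) →ₗ[k] Coh.HH X (CohB1.tensorMod L N) 0 :=
    ((Linear.homCongr k e (Iso.refl _)).trans (SerreDual.homUnitHH k _)).toLinearMap ∘ₗ
      SerreDual.tensorRightHom k M L N
  have hf : Function.Injective fwd := fun x y h =>
    SerreDual.tensorRightHom_injective k M L hN
      (((Linear.homCongr k e (Iso.refl _)).trans (SerreDual.homUnitHH k _)).injective h)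
  haveI : Module.Finite k (M ⟶ L) := Module.Finite.of_injective fwd hf
  exact ⟨inferInstance, ((SerreDual.finrank_hom_eq (k := k) L hM hN e).2).symm⟩

include k in
/-- A nonzero map between invertible modules is a monomorphism. -/
theorem mono_of_ne_zero {M L : X.Modules} (hM : PicF.IsInvertible M) (hL : PicF.IsInvertible L)
    (φ : M ⟶ L) (hφ : φ ≠ 0) : Mono φ := by
  haveI := EulerLib.isNoetherian_of_proper k (X := X)
  exact SplitP1.mono_of_ne_zero' (CurveRR24.isCoh_of_isInvertible k hL)
    (fun x => (SplitP1.nonempty_basis_stalk (PicLib.isFinLocFreeOfRank_one hL) x).elim fun b =>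
      Module.Free.of_basis b) hM φ hφ

variable [Smooth (X ↘ Spec (CommRingCat.of k))] [GeometricallyIntegral (X ↘ Spec (CommRingCat.of k))]

/-- A nonzero map which is not an isomorphism strictly raises the degree. -/
theorem deg_lt_of_hom (hdim : topologicalKrullDim X = 1) {M L : X.Modules} (hM : PicF.IsInvertible M)
    (hL : PicF.IsInvertible L) (ι : M ⟶ L) (hι0 : ι ≠ 0) (hι : ¬ IsIso ι) :
    Curv2.deg k X M 1 < Curv2.deg k X L 1 := by
  haveI := EulerLib.isNoetherian_of_proper k (X := X)
  obtain ⟨N, hN, ⟨e⟩⟩ := CurveRR24.exists_inverse k hM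
  obtain ⟨hfin, hr⟩ := hom_equiv_h0 k hM hL hN e
  haveI := hfin
  have hT := AmpleLib.isInvertible_tensorMod hL hN
  have hpos : 0 < Module.finrank k (M ⟶ L) := Module.finrank_pos_iff_exists_ne_zero.2 ⟨ι, hι0⟩
  obtain ⟨h1, h2, -⟩ := deg_nonneg_of_section k hdim.le hT
    (Module.nontrivial_of_finrank_pos (R := k) (by rw [← hr]; exact hpos))
  have hd : Curv2.deg k X (CohB1.tensorMod L N) 1 = Curv2.deg k X L 1 - Curv2.deg k X M 1 := by
    rw [deg_tensor k hdim.le hL hN]
    have h := deg_tensor k hdim.le hM hN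
    rw [deg_congr k e, deg_structure] at h
    omega
  rcases (h1.lt_or_eq) with h | h
  · omega
  · exfalso
    obtain ⟨e'⟩ := h2 h.symm
    obtain ⟨a⟩ := exists_assocIso' L hN hM
    let E : M ≅ L := (unitTensorIso M).symm ≪≫ AmpleLib.tensorIso e'.symm (Iso.refl _) ≪≫ a ≪≫
      AmpleLib.tensorIso (Iso.refl L) (tensorComm N M ≪≫ e) ≪≫ tensorComm _ _ ≪≫ unitTensorIso L
    have hr1 : Module.finrank k (M ⟶ L) = 1 := by
      rw [hr, CurveRR24.finrank_HH_congr k e' 0]
      exact CurveRR24.h0_structure_of_geomIntegral k (X := X)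
    have hE0 : E.hom ≠ 0 := fun h0 => hι0 (by
      rw [← Category.id_comp ι, ← E.hom_inv_id, h0, Limits.zero_comp, Limits.zero_comp])
    obtain ⟨c, hc⟩ := exists_smul_eq_of_finrank_eq_one hr1 hE0 ι
    have hc0 : c ≠ 0 := fun h0 => hι0 (by rw [← hc, h0, zero_smul])
    refine hι ⟨⟨c⁻¹ • E.inv, ?_, ?_⟩⟩
    · rw [← hc, Linear.smul_comp, Linear.comp_smul, smul_smul, mul_inv_cancel₀ hc0, one_smul, E.hom_inv_id]
    · rw [← hc, Linear.smul_comp, Linear.comp_smul, smul_smul, inv_mul_cancel₀ hc0, one_smul, E.inv_hom_id]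

/-- Riemann–Roch alternative: nonspecial, or Clifford applies. -/
theorem nonspecial_or_clifford [IsAlgClosed k] (hdim : topologicalKrullDim X = 1) {M : X.Modules}
    (hM : PicF.IsInvertible M) (hs : Nontrivial (Coh.HH X M 0)) :
    (Module.finrank k (Coh.HH X M 0) : ℤ) = Curv2.deg k X M 1 + 1 - (Curv2.genus k X : ℤ) ∨
      2 * (Module.finrank k (Coh.HH X M 0) : ℤ) ≤ Curv2.deg k X M 1 + 2 := by
  obtain ⟨N, hN, ⟨e⟩⟩ := CurveRR24.exists_inverse k hM
  have hrr := riemann_roch_omega k hdim hM hN e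
  by_cases h : Module.finrank k (Coh.HH X (CohB1.tensorMod (Omega.sheaf (X ↘ Spec (CommRingCat.of k))) N) 0) = 0
  · left; rw [h] at hrr; simpa using hrr
  · exact Or.inr (clifford k hdim hM hN e hs (Module.nontrivial_of_finrank_pos (R := k) (Nat.pos_of_ne_zero h)))

/-- Above degree `2g - 2` a module is nonspecial. -/
theorem h0_eq_of_deg (hdim : topologicalKrullDim X = 1) {L : X.Modules} (hL : PicF.IsInvertible L)
    (hd : 2 * (Curv2.genus k X : ℤ) - 2 < Curv2.deg k X L 1) :
    (Module.finrank k (Coh.HH X L 0) : ℤ) = Curv2.deg k X L 1 + 1 - (Curv2.genus k X : ℤ) := by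
  haveI := EulerLib.isNoetherian_of_proper k (X := X)
  obtain ⟨N, hN, ⟨e⟩⟩ := CurveRR24.exists_inverse k hL
  let Ω := Omega.sheaf (X ↘ Spec (CommRingCat.of k))
  have hΩ : PicF.IsInvertible Ω := OmegaDual24.isInvertible_omega (k := k) hdim
  have hrr := riemann_roch_omega k hdim hL hN e
  have hd' : Curv2.deg k X (CohB1.tensorMod Ω N) 1 < 0 := by
    rw [deg_tensor k hdim.le hΩ hN]
    have h := deg_tensor k hdim.le hL hN
    rw [deg_congr k e, deg_structure] at h
    have hdΩ : Curv2.deg k X Ω 1 = 2 * (Curv2.genus k X : ℤ) - 2 := OmegaDual24.deg_omega k hdim (X := X)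
    omega
  haveI := subsingleton_h0_of_deg_neg k hdim.le (AmpleLib.isInvertible_tensorMod hΩ hN) hd'
  rw [Module.finrank_zero_of_subsingleton (M := Coh.HH X (CohB1.tensorMod (Omega.sheaf (X ↘ Spec (CommRingCat.of k))) N) 0)] at hrr
  simpa using hrr

end Groth.Agent.Clifford24
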