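import Groth.Agent.AbCubeLib.ExistsAmple
import Groth.Agent.CurvesLib24.Basic

/-!
# Ideals of finite subschemes of normal curves are invertible
-/

set_option autoImplicit false
set_option linter.style.haveILetI false
set_option backward.isDefEq.respectTransparency.types false

universe u

open CategoryTheory CategoryTheory.Limits AlgebraicGeometry Opposite TopologicalSpace

namespace Groth.Agent.Clifford24

variable {X : Scheme.{u}} [IsIntegral X] [IsLocallyNoetherian X]

/-- On a normal curve an ideal missing the generic point is effective Cartier. -/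
theorem isEffCartierIdeal_of_normal (h1 : topologicalKrullDim X ≤ 1)
    (hn : ∀ x : X, IsIntegrallyClosed (X.presheaf.stalk x)) (I : X.IdealSheafData)
    (hη : genericPoint X ∉ (I.support : Set X)) : BlowUp.IsEffCartierIdeal I := by
  classical
  intro x
  obtain ⟨U, hU, hxU, -⟩ := exists_isAffineOpen_mem_and_subset (x := x) (U := (⊤ : X.Opens)) trivial
  haveI : Nonempty U := ⟨⟨x, hxU⟩⟩
  let A := Γ(X, U)
  let J : Ideal A := I.ideal ⟨U, hU⟩
  let O := X.presheaf.stalk x
  let _ : Algebra A O := (X.presheaf.germ U x hxU).hom.toAlgebra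
  haveI : IsLocalization.AtPrime O (hU.primeIdealOf ⟨x, hxU⟩).asIdeal := hU.isLocalization_stalk ⟨x, hxU⟩
  haveI := CurvesLib24.isPrincipalIdealRing_stalk h1 x (hn x)
  haveI : IsNoetherianRing A := IsLocallyNoetherian.component_noetherian ⟨U, hU⟩
  have hηU : genericPoint X ∈ U := ((genericPoint_spec X).mem_open_set_iff U.2).2 ⟨x, trivial, hxU⟩
  have hJ : J ≠ ⊥ := fun hb => hη <| by
    rw [SetLike.mem_coe, Scheme.IdealSheafData.mem_support_iff_of_mem (U := ⟨U, hU⟩) hηU,
      Scheme.mem_zeroLocus_iff]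
    intro a ha
    have ha' : a = 0 := by
      have : a ∈ (⊥ : Ideal A) := hb ▸ ha
      exact this
    rw [ha', Scheme.basicOpen_zero]
    exact id
  let p := (hU.primeIdealOf ⟨x, hxU⟩).asIdeal
  have hinj : Function.Injective (algebraMap A O) :=
    IsLocalization.injective O (M := p.primeCompl) p.primeCompl_le_nonZeroDivisors
  obtain ⟨z, hz⟩ := (IsPrincipalIdealRing.principal (J.map (algebraMap A O))).principal
  have hzmem : z ∈ J.map (algebraMap A O) := by rw [hz]; exact Submodule.mem_span_singleton_self z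
  obtain ⟨⟨⟨a, ha⟩, s⟩, has⟩ := (IsLocalization.mem_map_algebraMap_iff p.primeCompl O).1 hzmem
  change z * algebraMap A O (s : A) = algebraMap A O a at has
  have ha0 : a ≠ 0 := fun h0 => hJ <| by
    rw [h0, map_zero] at has
    have hs : IsUnit (algebraMap A O (s : A)) := IsLocalization.map_units O s
    rw [hs.mul_left_eq_zero] at has
    rw [eq_bot_iff]
    intro b hb
    have hb' : algebraMap A O b ∈ J.map (algebraMap A O) := Ideal.mem_map_of_mem _ hb
    rw [hz] at hb'
    change algebraMap A O b ∈ Ideal.span {z} at hb'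
    rw [has, Ideal.mem_span_singleton, zero_dvd_iff] at hb'
    exact hinj (hb'.trans (map_zero _).symm)
  have hloc : ∀ b ∈ J, ∃ t : A, t ∉ p ∧ t * b ∈ Ideal.span {a} := by
    intro b hb
    have h1 : algebraMap A O b ∈ J.map (algebraMap A O) := Ideal.mem_map_of_mem _ hb
    rw [hz] at h1
    change algebraMap A O b ∈ Ideal.span {z} at h1
    obtain ⟨c, hc⟩ := Ideal.mem_span_singleton'.1 h1
    obtain ⟨⟨d, t⟩, hd⟩ := IsLocalization.surj p.primeCompl c
    refine ⟨(t : A) * (s : A), p.primeCompl.mul_mem t.2 s.2, Ideal.mem_span_singleton'.2 ⟨d, hinj ?_⟩⟩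
    rw [map_mul, map_mul, map_mul, ← hd, ← hc, ← has]
    ring
  obtain ⟨T, hT⟩ := IsNoetherian.noetherian J
  choose! t ht htb using hloc
  let g : A := ∏ b ∈ T, t b
  have hmem : ∀ b ∈ T, b ∈ J := fun b hb => hT ▸ Ideal.subset_span hb
  have hg : g ∉ p := fun h => by
    obtain ⟨b, hb, hb'⟩ := Ideal.IsPrime.prod_mem_iff.1 h
    exact ht b (hmem b hb) hb'
  have hgJ : ∀ b ∈ J, g * b ∈ Ideal.span {a} := by
    intro b hb
    have hle : J ≤ (Ideal.span {a}).colon (Ideal.span {g} : Set A) := by
      rw [← hT, Ideal.span_le]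
      intro c hc
      refine Submodule.mem_colon.2 fun w hw => ?_
      obtain ⟨r, rfl⟩ := Ideal.mem_span_singleton'.1 hw
      have : g * c ∈ Ideal.span {a} := by
        rw [show g = t c * ∏ b ∈ T.erase c, t b from (Finset.mul_prod_erase T t hc).symm,
          mul_comm (t c), mul_assoc]
        exact Ideal.mul_mem_left _ _ (htb c (hmem c hc))
      rw [smul_eq_mul, show c * (r * g) = r * (g * c) by ring]
      exact Ideal.mul_mem_left _ _ this
    have h2 : b * g ∈ Ideal.span {a} := Submodule.mem_colon.1 (hle hb) g (Ideal.mem_span_singleton_self g)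
    rwa [mul_comm] at h2
  have hxg : x ∈ X.basicOpen g := by
    rw [X.mem_basicOpen g x hxU]
    exact IsLocalization.map_units O (⟨g, hg⟩ : p.primeCompl)
  haveI := hU.isLocalization_basicOpen g
  haveI : Nonempty (X.basicOpen g) := ⟨⟨x, hxg⟩⟩
  refine ⟨X.affineBasicOpen (U := ⟨U, hU⟩) g, hxg, algebraMap A Γ(X, X.basicOpen g) a, ?_, ?_⟩
  · haveI : IsDomain Γ(X, X.basicOpen g) := inferInstance
    show (algebraMap A Γ(X, X.basicOpen g) a : Γ(X, X.basicOpen g)) ∈ nonZeroDivisors Γ(X, X.basicOpen g)
    refine mem_nonZeroDivisors_of_ne_zero fun h0 => ha0 (hinj (Eq.trans ?_ (map_zero _).symm))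
    have h1 : X.presheaf.germ (X.basicOpen g) x hxg (algebraMap A Γ(X, X.basicOpen g) a) = 0 := by
      rw [h0]; exact map_zero _
    refine Eq.trans ?_ h1
    exact (TopCat.Presheaf.germ_res_apply X.presheaf (homOfLE (X.basicOpen_le g)) x hxg a).symm
  · rw [← I.map_ideal_basicOpen ⟨U, hU⟩ g]
    change Ideal.map (algebraMap A Γ(X, X.basicOpen g)) J = _
    refine le_antisymm ?_ ((Ideal.span_singleton_le_iff_mem _).2 (Ideal.mem_map_of_mem _ ha))
    rw [Ideal.map_le_iff_le_comap]
    intro b hb
    obtain ⟨c, hc⟩ := Ideal.mem_span_singleton'.1 (hgJ b hb)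
    obtain ⟨u, hu⟩ := (IsLocalization.Away.algebraMap_isUnit g : IsUnit (algebraMap A Γ(X, X.basicOpen g) g)).exists_left_inv
    let R := Γ(X, X.basicOpen g)
    have h2 : (algebraMap A R c) * algebraMap A R a = algebraMap A R g * algebraMap A R b :=
      ((map_mul (algebraMap A R) c a).symm.trans (congrArg (algebraMap A R) hc)).trans (map_mul (algebraMap A R) g b)
    have h3 : (u : R) * algebraMap A R c * algebraMap A R a = algebraMap A R b := by
      rw [mul_assoc, h2, ← mul_assoc]
      exact (congrArg (· * algebraMap A R b) hu).trans (one_mul _)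
    exact Ideal.mem_comap.2 (Ideal.mem_span_singleton'.2 ⟨u * algebraMap A R c, h3⟩)

/-- Hence invertible. -/
theorem isInvertible_idealMod_of_normal (h1 : topologicalKrullDim X ≤ 1)
    (hn : ∀ x : X, IsIntegrallyClosed (X.presheaf.stalk x)) (I : X.IdealSheafData)
    (hη : genericPoint X ∉ (I.support : Set X)) : PicF.IsInvertible (ClSub.idealMod I) :=
  AbCubeLib.isInvertible_idealMod I (isEffCartierIdeal_of_normal h1 hn I hη)

end Groth.Agent.Clifford24
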