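import Groth.Agent.MeroLib.Noeth
import Groth.Agent.SDiv28.KmodNoeth
import Groth.Agent.AssSch12.Ass
import Groth.Prelude.Def_MeroDiv
import Mathlib

/-! Divisors on absolute curves. -/

set_option autoImplicit false
set_option backward.isDefEq.respectTransparency.types false
universe u
open CategoryTheory AlgebraicGeometry Opposite TopologicalSpace IsLocalRing
open Groth.Agent.AssSch12 Groth.Agent.MeroLib

namespace Groth.Agent.Clifford24.AbsCurveDiv

variable {C : Scheme.{u}}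

theorem height_eq_dim {W : C.Opens} (hW : IsAffineOpen W) {x : C} (hx : x ∈ W) :
    haveI : (primeAt hW hx).IsPrime := (hW.primeIdealOf ⟨x, hx⟩).2
    ((primeAt hW hx).height : WithBot ℕ∞) = ringKrullDim (C.presheaf.stalk x) := by
  letI := TopCat.Presheaf.algebra_section_stalk C.presheaf (⟨x, hx⟩ : W)
  haveI := hW.isLocalization_stalk ⟨x, hx⟩
  haveI : (primeAt hW hx).IsPrime := (hW.primeIdealOf ⟨x, hx⟩).2
  exact (IsLocalization.AtPrime.ringKrullDim_eq_height (primeAt hW hx) (C.presheaf.stalk x)).symm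

variable [IsNoetherian C]
  (hC : ∀ x : C, IsClosed ({x} : Set C) → ringKrullDim (C.presheaf.stalk x) = 1)

include hC in
theorem isMax_of_not_isClosed {x : C} (hx : ¬ IsClosed ({x} : Set C)) :
    ∀ z : C, z ⤳ x → z = x := by
  intro z hzx
  by_contra hne
  obtain ⟨y, hy, hyc⟩ := IsClosed.exists_closed_singleton (isClosed_closure (s := ({x} : Set C)))
    (Set.singleton_nonempty x).closure
  have hxy : x ⤳ y := specializes_iff_mem_closure.mpr hy
  have hxy' : x ≠ y := fun e => hx (e ▸ hyc)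
  obtain ⟨W, hW, hyW, -⟩ := exists_isAffineOpen_mem_and_subset (x := y) (U := ⊤) trivial
  have hxW : x ∈ W := hxy.mem_open W.isOpen hyW
  have hzW : z ∈ W := hzx.mem_open W.isOpen hxW
  haveI := isNoetherianRing_of_isAffineOpen hW
  haveI : (primeAt hW hzW).IsPrime := (hW.primeIdealOf ⟨z, hzW⟩).2
  haveI : (primeAt hW hxW).IsPrime := (hW.primeIdealOf ⟨x, hxW⟩).2
  haveI : (primeAt hW hyW).IsPrime := (hW.primeIdealOf ⟨y, hyW⟩).2
  have h1 : primeAt hW hzW < primeAt hW hxW := lt_of_le_of_ne ((specializes_iff hW hzW hxW).1 hzx)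
    fun h => hne (SDiv28.eq_of_primeAt_eq hW hzW hxW h)
  have h2 : primeAt hW hxW < primeAt hW hyW := lt_of_le_of_ne ((specializes_iff hW hxW hyW).1 hxy)
    fun h => hxy' (SDiv28.eq_of_primeAt_eq hW hxW hyW h)
  have hA := Ideal.height_strict_mono_of_isPrime h1
  have hB := Ideal.height_strict_mono_of_isPrime h2
  have hy1 : (primeAt hW hyW).height = 1 := by
    have h := height_eq_dim hW hyW
    rw [hC y hyc] at h
    exact_mod_cast h
  rw [hy1] at hB
  exact not_lt_bot (lt_of_lt_of_le hA (le_of_eq (Order.lt_one_iff.1 hB)))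

theorem no_nzd_of_isMax {x : C} (hx : ∀ z : C, z ⤳ x → z = x) {a : C.presheaf.stalk x}
    (ha : a ∈ nonZeroDivisors (C.presheaf.stalk x)) : IsUnit a := by
  by_contra hu
  have h1 := one_le_ringKrullDim_of_nzd (show a ∈ maximalIdeal _ from hu) ha
  obtain ⟨W, hW, hxW, -⟩ := exists_isAffineOpen_mem_and_subset (x := x) (U := ⊤) trivial
  haveI : (primeAt hW hxW).IsPrime := (hW.primeIdealOf ⟨x, hxW⟩).2
  have hmin : primeAt hW hxW ∈ minimalPrimes Γ(C, W) := by
    refine ⟨⟨inferInstance, bot_le⟩, fun q hq hle => ?_⟩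
    haveI := hq.1
    obtain ⟨z, hzW, rfl⟩ := exists_point hW q
    obtain rfl := hx z ((specializes_iff hW hzW hxW).2 hle)
    exact le_rfl
  rw [← height_eq_dim hW hxW, Ideal.height_eq_zero_iff.2 hmin] at h1
  exact absurd (by exact_mod_cast h1 : (1 : ℕ∞) ≤ 0) (by simp)

include hC in
theorem isClosed_of_nonunit_nzd {x : C} {a : C.presheaf.stalk x}
    (ha : a ∈ nonZeroDivisors (C.presheaf.stalk x)) (hu : ¬ IsUnit a) : IsClosed ({x} : Set C) := by
  by_contra hx
  exact hu (no_nzd_of_isMax (isMax_of_not_isClosed hC hx) ha)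

theorem finite_of_isClosed_inter {W : C.Opens} {S : Set C} (hS : S ⊆ W)
    (hSc : ∃ T : Set C, IsClosed T ∧ S = T ∩ W) (hpts : ∀ y ∈ S, IsClosed ({y} : Set C)) :
    S.Finite := by
  obtain ⟨T, hT, rfl⟩ := hSc
  have hcl : IsClosed ((Subtype.val : W → C) ⁻¹' T) := hT.preimage continuous_subtype_val
  haveI : NoetherianSpace ((W : Set C) : Set C) := NoetherianSpace.set (W : Set C)
  obtain ⟨F, hFfin, hFc, hFi, hF⟩ := NoetherianSpace.exists_finite_set_isClosed_irreducible hcl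
  have hsub : ∀ Z ∈ F, ((Subtype.val : W → C) '' Z).Subsingleton := by
    intro Z hZ
    have hirr : IsIrreducible ((Subtype.val : W → C) '' Z) :=
      (hFi Z hZ).image _ continuous_subtype_val.continuousOn
    obtain ⟨g, hg⟩ := QuasiSober.sober hirr.closure isClosed_closure
    have hgW : ∃ p ∈ Z, True := ⟨(hFi Z hZ).nonempty.some, (hFi Z hZ).nonempty.some_mem, trivial⟩
    obtain ⟨p, hp, -⟩ := hgW
    have hgp : g ⤳ p.1 := hg.specializes (subset_closure ⟨p, hp, rfl⟩)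
    have hgW' : g ∈ W := hgp.mem_open W.isOpen p.2
    obtain ⟨T', hT', hTZ⟩ := isClosed_induced_iff.1 (hFc Z hZ)
    have hgZ : (⟨g, hgW'⟩ : W) ∈ Z := by
      rw [← hTZ]
      show g ∈ T'
      refine closure_minimal ?_ hT' hg.mem
      rintro _ ⟨q, hq, rfl⟩
      rw [← hTZ] at hq
      exact hq
    have hgS : g ∈ T ∩ W := ⟨(hF ▸ Set.subset_sUnion_of_mem hZ : Z ⊆ Subtype.val ⁻¹' T) hgZ, hgW'⟩
    have hgc := hpts g hgS
    intro a ha b hb
    have key : ∀ c ∈ (Subtype.val : W → C) '' Z, c = g := fun c hc =>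
      (hgc.closure_eq ▸ hg.def.symm ▸ subset_closure hc : c ∈ ({g} : Set C))
    rw [key a ha, key b hb]
  have : T ∩ (W : Set C) = ⋃ Z ∈ F, (Subtype.val : W → C) '' Z := by
    have h0 : T ∩ (W : Set C) = (Subtype.val : W → C) '' (Subtype.val ⁻¹' T) := by
      rw [Set.image_preimage_eq_inter_range, Subtype.range_coe]
    rw [h0, hF, Set.sUnion_eq_biUnion, Set.image_iUnion₂]
  rw [this]
  exact hFfin.biUnion fun Z hZ => (hsub Z hZ).finite

include hC in
theorem germ_eq_one_of_not_isClosed {x : C} (hx : ¬ IsClosed ({x} : Set C)) (g : Mero.Germ C x) :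
    g = 1 := by
  obtain ⟨g, rfl⟩ := QuotientGroup.mk_surjective g
  have hunit : ∀ s : Mero.regStalk C x, IsUnit (s : C.presheaf.stalk x) := fun s =>
    no_nzd_of_isMax (isMax_of_not_isClosed hC hx) (Mero.regStalk_le_nonZeroDivisors x s.2)
  obtain ⟨⟨a, s⟩, h⟩ := IsLocalization.surj (Mero.regStalk C x) (g : Mero.KStalk C x)
  have ha : IsUnit a := by
    have hua : IsUnit (algebraMap (C.presheaf.stalk x) (Mero.KStalk C x) a) := by
      rw [← h]; exact g.isUnit.mul ((hunit s).map _)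
    haveI : IsLocalHom (algebraMap (C.presheaf.stalk x) (Mero.KStalk C x)) :=
      ⟨fun r hr => by
        obtain ⟨⟨b, t⟩, hb⟩ := IsLocalization.surj (Mero.regStalk C x) (↑hr.unit⁻¹ : Mero.KStalk C x)
        refine isUnit_of_mul_isUnit_left (y := b) ?_
        have : r * b = t := Mero.algebraMap_KStalk_injective x (by
          rw [map_mul, ← hb, ← mul_assoc, IsUnit.mul_val_inv, one_mul])
        rw [this]; exact hunit t⟩
    exact isUnit_of_map_unit _ _ hua
  refine germ_eq_one_of_isUnit (ha.mul ((hunit s).unit⁻¹).isUnit) ?_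
  rw [map_mul, ← h, mul_assoc, ← map_mul, IsUnit.mul_val_inv, map_one, mul_one]

include hC in
theorem finite_supp (D : Mero.Divisor C) : {x : C | D.1 x ≠ 1}.Finite := by
  classical
  have hloc : ∀ x : C, ∃ W : C.Opens, x ∈ W ∧ ({y : C | D.1 y ≠ 1} ∩ W).Finite := by
    intro x
    obtain ⟨W, -, hxW, a, b, hab⟩ := exists_divisor_fraction D x
    refine ⟨W, hxW, Set.Finite.subset (finite_of_isClosed_inter (C := C) (W := W)
      (S := ((C.basicOpen (a.1 * b.1) : Set C)ᶜ) ∩ W) Set.inter_subset_right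
      ⟨_, (C.basicOpen (a.1 * b.1)).isOpen.isClosed_compl, rfl⟩ ?_) ?_⟩
    · rintro y ⟨hy, hyW⟩
      refine isClosed_of_nonunit_nzd hC ((a * b).2 ⟨y, hyW⟩) fun hu => hy ?_
      exact (C.mem_basicOpen _ y hyW).2 hu
    · rintro y ⟨hy, hyW⟩
      refine ⟨fun hmem => hy ?_, hyW⟩
      have hu := (C.mem_basicOpen _ y hyW).1 hmem
      rw [map_mul, IsUnit.mul_iff] at hu
      rw [hab y hyW]
      exact (germ_eq_one_iff_fracUnit a b ⟨y, hyW⟩).2 ⟨hu.1.unit * hu.2.unit⁻¹, by
        rw [Units.val_mul, IsUnit.unit_spec, mul_assoc, IsUnit.val_inv_mul, mul_one]⟩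
  choose W hxW hfin using hloc
  obtain ⟨t, ht⟩ := CompactSpace.elim_nhds_subcover (fun x => (W x : Set C))
    fun x => (W x).isOpen.mem_nhds (hxW x)
  refine (t.finite_toSet.biUnion fun x _ => hfin x).subset fun y hy => ?_
  obtain ⟨x, hx, hyx⟩ : ∃ x ∈ t, y ∈ (W x : Set C) := by
    have : y ∈ ⋃ x ∈ t, (W x : Set C) := by rw [Set.top_eq_univ] at ht; rw [ht]; trivial
    simpa using this
  exact Set.mem_biUnion hx ⟨hy, hyx⟩

include hC in
theorem mem_divisorGroup_of_finite (g : ∀ x : C, Mero.Germ C x) (hfin : {x : C | g x ≠ 1}.Finite) :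
    g ∈ Mero.divisorGroup C := by
  classical
  intro x
  have hclosed : ∀ y, g y ≠ 1 → IsClosed ({y} : Set C) := fun y hy => by
    by_contra h
    exact hy (germ_eq_one_of_not_isClosed hC h (g y))
  let bad : Set C := {y | g y ≠ 1 ∧ y ≠ x}
  have hbadc : IsClosed bad := by
    rw [← Set.biUnion_of_singleton bad]
    exact (hfin.subset fun y hy => hy.1).isClosed_biUnion fun y hy => hclosed y hy.1
  let U : C.Opens := ⟨badᶜ, hbadc.isOpen_compl⟩
  have hxU : x ∈ U := fun h => h.2 rfl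
  by_cases hgx : g x = 1
  · refine ⟨U, hxU, 1, fun y => ?_⟩
    rw [show Mero.germOf (1 : (Γ(Mero.kmod C, U))ˣ) y = 1 by rw [Mero.germOf, map_one, QuotientGroup.mk_one]]
    by_contra h
    exact y.2 ⟨h, fun e => h (e ▸ hgx)⟩
  obtain ⟨u, hu⟩ := QuotientGroup.mk_surjective (g x)
  obtain ⟨⟨a, b⟩, hb⟩ := IsLocalization.surj (Mero.regStalk C x) (u : Mero.KStalk C x)
  have ha : a ∈ nonZeroDivisors (C.presheaf.stalk x) := by
    rw [mem_nonZeroDivisors_iff_right]
    intro z hz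
    refine (map_eq_zero_iff _ (Mero.algebraMap_KStalk_injective x)).1 ?_
    refine (u.isUnit.mul (IsLocalization.map_units (Mero.KStalk C x) b)).mul_left_eq_zero.1 ?_
    show _ * ((u : Mero.KStalk C x) * _) = 0
    rw [hb, ← map_mul, hz, map_zero]
  obtain ⟨Va, hxa, a', ha', rfl⟩ : a ∈ Mero.regStalk C x := (SDiv28.Noeth.regStalk_eq x).symm ▸ ha
  obtain ⟨Vb, hxb, b', hb', hbe⟩ := b.2
  let V0 : C.Opens := U ⊓ (Va ⊓ Vb)
  let A : Mero.regSub C V0 := ⟨C.presheaf.map (homOfLE (inf_le_right.trans inf_le_left)).op a',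
    Mero.regSub_res _ ha'⟩
  let B : Mero.regSub C V0 := ⟨C.presheaf.map (homOfLE (inf_le_right.trans inf_le_right)).op b',
    Mero.regSub_res _ hb'⟩
  let bad2 : Set C := ((C.basicOpen (A.1 * B.1) : Set C)ᶜ ∩ V0) \ {x}
  have hpts : ∀ y ∈ (C.basicOpen (A.1 * B.1) : Set C)ᶜ ∩ V0, IsClosed ({y} : Set C) := by
    rintro y ⟨hy, hyW⟩
    refine isClosed_of_nonunit_nzd hC ((A * B).2 ⟨y, hyW⟩) fun hu => hy ?_
    exact (C.mem_basicOpen _ y hyW).2 hu
  have hbad2 : IsClosed bad2 := by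
    rw [← Set.biUnion_of_singleton bad2]
    refine Set.Finite.isClosed_biUnion ?_ fun y hy => hpts y hy.1
    exact ((finite_of_isClosed_inter (C := C) (W := V0) Set.inter_subset_right
      ⟨_, (C.basicOpen (A.1 * B.1)).isOpen.isClosed_compl, rfl⟩ hpts).subset Set.diff_subset)
  let V : C.Opens := V0 ⊓ ⟨bad2ᶜ, hbad2.isOpen_compl⟩
  have hxV : x ∈ V := ⟨⟨hxU, hxa, hxb⟩, fun h => h.2 rfl⟩
  let A' : Mero.regSub C V := ⟨C.presheaf.map (homOfLE inf_le_left).op A.1, Mero.regSub_res _ A.2⟩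
  let B' : Mero.regSub C V := ⟨C.presheaf.map (homOfLE inf_le_left).op B.1, Mero.regSub_res _ B.2⟩
  refine ⟨V, hxV, fracUnit A' B', fun y => ?_⟩
  by_cases hy : y.1 = x
  · have hyx : y = ⟨x, hxV⟩ := Subtype.ext hy
    rw [hyx]
    show g x = _
    rw [← hu]
    refine congrArg _ (Units.ext ?_)
    show (u : Mero.KStalk C x) = (frac A'.1 B').1 ⟨x, hxV⟩
    refine (isUnit_algebraMap_germ B' ⟨x, hxV⟩).mul_left_injective ?_
    simp only
    rw [frac_val_mul]
    simp only [A', B', A, B, TopCat.Presheaf.germ_res_apply]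
    rw [hbe]
    exact hb
  · have h1 : g y.1 = 1 := by
      by_contra h
      exact y.2.1.1 ⟨h, hy⟩
    rw [h1, eq_comm, germ_eq_one_iff_fracUnit]
    have hu' : IsUnit (C.presheaf.germ V0 y.1 y.2.1 (A.1 * B.1)) := by
      by_contra h
      exact y.2.2 ⟨⟨fun hm => h ((C.mem_basicOpen _ _ y.2.1).1 hm), y.2.1⟩, hy⟩
    rw [map_mul, IsUnit.mul_iff] at hu'
    refine ⟨hu'.1.unit * hu'.2.unit⁻¹, ?_⟩
    simp only [A', B', TopCat.Presheaf.germ_res_apply]
    rw [Units.val_mul, IsUnit.unit_spec, mul_assoc, IsUnit.val_inv_mul, mul_one]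

end Groth.Agent.Clifford24.AbsCurveDiv
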