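import Groth.Agent.Clifford24.AbsCurveDiv

/-! Effective divisors on absolute curves. -/

set_option autoImplicit false
set_option backward.isDefEq.respectTransparency.types false
universe u
open CategoryTheory AlgebraicGeometry Opposite TopologicalSpace IsLocalRing
open Groth.Agent.AssSch12 Groth.Agent.MeroLib

noncomputable section

namespace Groth.Agent.Clifford24.AbsCurveDiv

variable {C : Scheme.{u}} [IsNoetherian C]
  (hC : ∀ x : C, IsClosed ({x} : Set C) → ringKrullDim (C.presheaf.stalk x) = 1)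

/-- The germ of an element of the stalk which is not a zero divisor. -/
def regUnit {x : C} (a : Mero.regStalk C x) : (Mero.KStalk C x)ˣ := (IsLocalization.map_units (Mero.KStalk C x) a).unit

theorem exists_germ_eq_div {x : C} (g : Mero.Germ C x) :
    ∃ a b : Mero.regStalk C x, g = QuotientGroup.mk (regUnit a) * (QuotientGroup.mk (regUnit b))⁻¹ := by
  obtain ⟨u, rfl⟩ := QuotientGroup.mk_surjective g
  obtain ⟨⟨a, b⟩, hb⟩ := IsLocalization.surj (Mero.regStalk C x) (u : Mero.KStalk C x)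
  have ha : a ∈ nonZeroDivisors (C.presheaf.stalk x) := by
    rw [mem_nonZeroDivisors_iff_right]
    intro z hz
    refine (map_eq_zero_iff _ (Mero.algebraMap_KStalk_injective x)).1 ?_
    refine (u.isUnit.mul (IsLocalization.map_units (Mero.KStalk C x) b)).mul_left_eq_zero.1 ?_
    show _ * ((u : Mero.KStalk C x) * _) = 0
    rw [hb, ← map_mul, hz, map_zero]
  refine ⟨⟨a, (SDiv28.Noeth.regStalk_eq x).symm ▸ ha⟩, b, ?_⟩
  rw [← QuotientGroup.mk_inv, ← QuotientGroup.mk_mul]
  refine congrArg _ (eq_mul_inv_iff_mul_eq.2 (Units.ext ?_))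
  exact hb

theorem finite_not_exists_nzd_of_affine {W : C.Opens} (hW : IsAffineOpen W) :
    {x : C | x ∈ W ∧ maximalIdeal (C.presheaf.stalk x) ∈ associatedPrimes (C.presheaf.stalk x) (C.presheaf.stalk x)}.Finite := by
  haveI := isNoetherianRing_of_isAffineOpen hW
  have hfin : (associatedPrimes Γ(C, W) Γ(C, W)).Finite := associatedPrimes.finite Γ(C, W) Γ(C, W)
  have hsub : Set.Finite {x : W | primeAt hW x.2 ∈ associatedPrimes Γ(C, W) Γ(C, W)} :=
    hfin.preimage fun x _ y _ h => Subtype.ext (SDiv28.eq_of_primeAt_eq hW x.2 y.2 h)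
  refine (hsub.image Subtype.val).subset ?_
  rintro x ⟨hx, hm⟩
  refine ⟨⟨x, hx⟩, ?_, rfl⟩
  letI := TopCat.Presheaf.algebra_section_stalk C.presheaf (⟨x, hx⟩ : W)
  haveI := hW.isLocalization_stalk ⟨x, hx⟩
  haveI : IsLocalizedModule (primeAt hW hx).primeCompl (Algebra.linearMap Γ(C, W) (C.presheaf.stalk x)) :=
    (isLocalizedModule_iff_isLocalization' (primeAt hW hx).primeCompl (C.presheaf.stalk x)).2 inferInstance
  have hc : Ideal.comap (algebraMap Γ(C, W) (C.presheaf.stalk x)) (maximalIdeal (C.presheaf.stalk x)) = primeAt hW hx := by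
    ext r; exact germ_mem_maximalIdeal_iff hW hx r
  show primeAt hW hx ∈ associatedPrimes Γ(C, W) Γ(C, W)
  rw [← hc]
  rw [← Module.associatedPrimes.preimage_comap_associatedPrimes_eq_associatedPrimes_of_isLocalizedModule
    (primeAt hW hx).primeCompl (C.presheaf.stalk x) (Algebra.linearMap Γ(C, W) (C.presheaf.stalk x))] at hm
  exact hm

theorem finite_not_exists_nzd :
    {x : C | maximalIdeal (C.presheaf.stalk x) ∈ associatedPrimes (C.presheaf.stalk x) (C.presheaf.stalk x)}.Finite := by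
  haveI : Finite C.affineCover.finiteSubcover.I₀ := Finite.of_fintype _
  refine (Set.finite_iUnion fun i : C.affineCover.finiteSubcover.I₀ =>
    finite_not_exists_nzd_of_affine (isAffineOpen_opensRange (C.affineCover.finiteSubcover.f i))).subset ?_
  intro x hx
  obtain ⟨i, hi⟩ := Set.mem_iUnion.1 ((C.affineCover.finiteSubcover).iUnion_range.symm ▸ Set.mem_univ x :
    x ∈ ⋃ i, Set.range (C.affineCover.finiteSubcover.f i))
  exact Set.mem_iUnion.2 ⟨i, hi, hx⟩

theorem exists_nonunit_reg {x : C}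
    (hx : maximalIdeal (C.presheaf.stalk x) ∉ associatedPrimes (C.presheaf.stalk x) (C.presheaf.stalk x)) :
    ∃ a : Mero.regStalk C x, ¬ IsUnit (a : C.presheaf.stalk x) := by
  by_contra hno
  apply hx
  have hsub : (maximalIdeal (C.presheaf.stalk x) : Set (C.presheaf.stalk x)) ⊆
      ⋃ p ∈ ((associatedPrimes.finite (C.presheaf.stalk x) (C.presheaf.stalk x)).toFinset : Set (Ideal (C.presheaf.stalk x))), ((p : Ideal (C.presheaf.stalk x)) : Set (C.presheaf.stalk x)) := by
    intro a ha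
    simp only [Set.Finite.coe_toFinset]
    rw [biUnion_associatedPrimes_eq_compl_nonZeroDivisors]
    intro hnz
    exact hno ⟨⟨a, (SDiv28.Noeth.regStalk_eq x).symm ▸ hnz⟩, ha⟩
  obtain ⟨p, hp, hle⟩ := (Ideal.subset_union_prime ⊥ ⊥ (fun p hp _ _ => (Set.Finite.mem_toFinset _).1 hp |>.isPrime)).1 hsub
  have hp' := (Set.Finite.mem_toFinset _).1 hp
  exact ((maximalIdeal.isMaximal _).eq_of_le hp'.isPrime.ne_top hle).symm ▸ hp'

theorem germ_regUnit_ne_one {x : C} {a : Mero.regStalk C x} (ha : ¬ IsUnit (a : C.presheaf.stalk x)) :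
    (QuotientGroup.mk (regUnit a) : Mero.Germ C x) ≠ 1 := by
  intro h
  apply ha
  obtain ⟨v, hv⟩ := (QuotientGroup.eq_one_iff _).1 h
  have : (a : C.presheaf.stalk x) = v := Mero.algebraMap_KStalk_injective x (congrArg Units.val hv).symm
  rw [this]
  exact v.isUnit

include hC in
theorem exists_closed_mem (hpt : ∀ x : C, ¬ IsOpen ({x} : Set C)) {U : C.Opens} (hU : Dense (U : Set C))
    {B : Set C} (hB : B.Finite) {Z : Set C} (hZ : Z ∈ irreducibleComponents (C : Type u)) :
    ∃ x, IsClosed ({x} : Set C) ∧ x ∈ U ∧ x ∈ Z ∧ x ∉ B := by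
  have hfin := TopologicalSpace.NoetherianSpace.finite_irreducibleComponents (α := C)
  let T : Set C := ⋃ Z' ∈ irreducibleComponents (C : Type u) \ {Z}, Z'
  have hT : IsClosed T := (hfin.subset Set.diff_subset).isClosed_biUnion fun Z' h =>
    isClosed_of_mem_irreducibleComponents Z' h.1
  have hTZ : ∀ x, x ∈ T ∨ x ∈ Z := fun x => by
    obtain ⟨Z', hZ', hxZ'⟩ : ∃ Z' ∈ irreducibleComponents (C : Type u), x ∈ Z' :=
      ⟨irreducibleComponent x, irreducibleComponent_mem_irreducibleComponents x, mem_irreducibleComponent⟩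
    by_cases h : Z' = Z
    · exact Or.inr (h ▸ hxZ')
    · exact Or.inl (Set.mem_biUnion (⟨hZ', h⟩ : Z' ∈ irreducibleComponents (C : Type u) \ {Z}) hxZ')
  obtain ⟨η, hη⟩ := QuasiSober.sober hZ.1 (isClosed_of_mem_irreducibleComponents Z hZ)
  have hηT : η ∉ T := by
    intro h
    obtain ⟨Z', hZ', hη'⟩ := Set.mem_iUnion₂.1 h
    have hle : Z ⊆ Z' :=
      hη.def ▸ closure_minimal (Set.singleton_subset_iff.2 hη') (isClosed_of_mem_irreducibleComponents Z' hZ'.1)
    exact hZ'.2 (Set.Subset.antisymm (hZ.2 hZ'.1.1 hle) hle)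
  obtain ⟨y, hyT, hyU⟩ := hU.inter_open_nonempty Tᶜ hT.isOpen_compl ⟨η, hηT⟩
  have hyZ : y ∈ Z := (hTZ y).resolve_left hyT
  have hηU : η ∈ U := (hη.specializes hyZ).mem_open U.isOpen hyU
  by_contra hno
  have hother : ∀ z, z ∉ T → z ∈ U → z ≠ η → z ∈ {b ∈ B | IsClosed ({b} : Set C)} := by
    intro z hzT hzU hz
    have hzZ := (hTZ z).resolve_left hzT
    have hc : IsClosed ({z} : Set C) := by
      by_contra hc
      exact hz (isMax_of_not_isClosed hC hc η (hη.specializes hzZ)).symm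
    exact ⟨by_contra fun hzB => hno ⟨z, hc, hzU, hzZ, hzB⟩, hc⟩
  let B' : Set C := {b ∈ B | IsClosed ({b} : Set C)} \ {η}
  have hB' : IsClosed B' := by
    rw [← Set.biUnion_of_singleton B']
    exact (hB.subset fun b hb => hb.1.1).isClosed_biUnion fun b hb => hb.1.2
  apply hpt η
  have : ({η} : Set C) = (U : Set C) ∩ Tᶜ ∩ B'ᶜ := by
    refine Set.Subset.antisymm (Set.singleton_subset_iff.2 ⟨⟨hηU, hηT⟩, fun h => h.2 rfl⟩) ?_
    rintro z ⟨⟨hzU, hzT⟩, hzB⟩
    by_contra hz
    exact hzB ⟨hother z hzT hzU hz, hz⟩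
  rw [this]
  exact (U.isOpen.inter hT.isOpen_compl).inter hB'.isOpen_compl

end Groth.Agent.Clifford24.AbsCurveDiv
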