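import Groth.Agent.Clifford24.G12
import Groth.Agent.CurveRR24.VeryAmple
import Groth.Prelude.Def_LinSer

/-!
# Uniqueness of the `g¹₂`; the canonical sheaf is very ample iff there is no `g¹₂`
-/

set_option autoImplicit false
set_option linter.style.haveILetI false
set_option linter.unusedSectionVars false
set_option backward.isDefEq.respectTransparency.types false

universe u

open CategoryTheory CategoryTheory.Limits AlgebraicGeometry Opposite TopologicalSpace
open Groth.Agent.Coherent Groth.Agent.PicLib Groth.Agent.AmpleLib Groth.Agent.EulerLib Groth.Agent.CurveRR24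

namespace Groth.Agent.Clifford24

variable {X : Scheme.{u}} (k : Type u) [Field k] [X.Over (Spec (CommRingCat.of k))]
  [IsProper (X ↘ Spec (CommRingCat.of k))] [IsIntegral X]

/-- Independent sections bound `h⁰` from below. -/
theorem le_h0_of_linIndep {L : X.Modules} (hL : PicF.IsInvertible L) {n : ℕ} (s : Fin n → LinSer.Sect X L)
    (hs : LinSer.LinIndep k X L s) : n ≤ Module.finrank k (Coh.HH X L 0) := by
  haveI := EulerLib.isNoetherian_of_proper k (X := X)
  haveI := finite_HH_of_isCoh k (CurveRR24.isCoh_of_isInvertible k hL) 0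
  haveI : Module.Finite k (GA (baseHom k X) L) := Module.Finite.equiv (hhZero k L)
  let v : Fin n → GA (baseHom k X) L := fun i => (show GA (baseHom k X) L from s i)
  have hind : LinearIndependent k v :=
    Fintype.linearIndependent_iff.2 fun c hc => congrFun (hs c hc)
  have h := hind.fintype_card_le_finrank
  rwa [Fintype.card_fin, ← (hhZero k L).finrank_eq] at h

/-- Independent sections from a bound on `h⁰`. -/
theorem exists_linIndep_of_le {L : X.Modules} (hL : PicF.IsInvertible L) {n : ℕ}
    (h : n ≤ Module.finrank k (Coh.HH X L 0)) :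
    ∃ s : Fin n → LinSer.Sect X L, LinSer.LinIndep k X L s := by
  haveI := EulerLib.isNoetherian_of_proper k (X := X)
  haveI := finite_HH_of_isCoh k (CurveRR24.isCoh_of_isInvertible k hL) 0
  haveI : Module.Finite k (GA (baseHom k X) L) := Module.Finite.equiv (hhZero k L)
  rw [(hhZero k L).finrank_eq] at h
  let b := Module.finBasis k (GA (baseHom k X) L)
  refine ⟨fun i => (show Γ(L, ⊤) from b (Fin.castLE h i)), fun c hc => funext ?_⟩
  exact Fintype.linearIndependent_iff.1 (b.linearIndependent.comp _ (Fin.castLE_injective h)) c hc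

variable [Smooth (X ↘ Spec (CommRingCat.of k))] [GeometricallyIntegral (X ↘ Spec (CommRingCat.of k))]

/-- Degree `2g - 2` and at least `g` sections: the canonical sheaf. -/
theorem nonempty_iso_omega_of_deg (hdim : topologicalKrullDim X = 1) {L : X.Modules}
    (hL : PicF.IsInvertible L) (hd : Curv2.deg k X L 1 = 2 * (Curv2.genus k X : ℤ) - 2)
    (h0 : Curv2.genus k X ≤ Module.finrank k (Coh.HH X L 0)) :
    Nonempty (L ≅ Omega.sheaf (X ↘ Spec (CommRingCat.of k))) := by
  haveI := EulerLib.isNoetherian_of_proper k (X := X)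
  let Ω := Omega.sheaf (X ↘ Spec (CommRingCat.of k))
  have hΩ : PicF.IsInvertible Ω := OmegaDual24.isInvertible_omega (k := k) hdim
  obtain ⟨N, hN, ⟨e⟩⟩ := CurveRR24.exists_inverse k hL
  have hrr := riemann_roch_omega k hdim hL hN e
  change _ - (Module.finrank k (Coh.HH X (CohB1.tensorMod Ω N) 0) : ℤ) = _ at hrr
  have hT := AmpleLib.isInvertible_tensorMod hΩ hN
  have hdT : Curv2.deg k X (CohB1.tensorMod Ω N) 1 = 0 := by
    rw [deg_tensor k hdim.le hΩ hN]
    have h := deg_tensor k hdim.le hL hN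
    rw [deg_congr k e, deg_structure, hd] at h
    have hd' : Curv2.deg k X Ω 1 = 2 * (Curv2.genus k X : ℤ) - 2 := OmegaDual24.deg_omega k hdim (X := X)
    omega
  obtain ⟨e'⟩ := (deg_nonneg_of_section k hdim.le hT
    (Module.nontrivial_of_finrank_pos (R := k) (by omega))).2.1 hdT
  obtain ⟨a⟩ := exists_assocIso' Ω hN hL
  exact ⟨(unitTensorIso L).symm ≪≫ AmpleLib.tensorIso e'.symm (Iso.refl _) ≪≫ a ≪≫
    AmpleLib.tensorIso (Iso.refl Ω) (tensorComm N _ ≪≫ e) ≪≫ tensorComm _ _ ≪≫ unitTensorIso Ω⟩

include k in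
/-- Cancellation of an invertible factor. -/
theorem nonempty_iso_of_tensor_iso {P A B : X.Modules} (hP : PicF.IsInvertible P) (hA : PicF.IsInvertible A)
    (hB : PicF.IsInvertible B) (e : CohB1.tensorMod P A ≅ CohB1.tensorMod P B) : Nonempty (A ≅ B) := by
  obtain ⟨N, hN, ⟨eN⟩⟩ := CurveRR24.exists_inverse k hP
  obtain ⟨aA⟩ := exists_assocIso' N hP hA
  obtain ⟨aB⟩ := exists_assocIso' N hP hB
  exact ⟨(unitTensorIso A).symm ≪≫ AmpleLib.tensorIso (eN.symm ≪≫ tensorComm P N) (Iso.refl _) ≪≫ aA ≪≫
    AmpleLib.tensorIso (Iso.refl N) e ≪≫ aB.symm ≪≫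
    AmpleLib.tensorIso (tensorComm N P ≪≫ eN) (Iso.refl _) ≪≫ unitTensorIso B⟩

/-- The `g¹₂` is unique in genus at least two. -/
theorem g12_unique [IsAlgClosed k] (hdim : topologicalKrullDim X = 1) (hg : 2 ≤ Curv2.genus k X)
    {M M' : X.Modules} (hM : PicF.IsInvertible M) (hM' : PicF.IsInvertible M')
    (hd : Curv2.deg k X M 1 = 2) (hd' : Curv2.deg k X M' 1 = 2)
    (h2 : 2 ≤ Module.finrank k (Coh.HH X M 0)) (h2' : 2 ≤ Module.finrank k (Coh.HH X M' 0)) :
    Nonempty (M ≅ M') := by
  haveI := EulerLib.isNoetherian_of_proper k (X := X)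
  let n := Curv2.genus k X - 2
  have hp := AmpleLib.isInvertible_tensorPow hM n
  have hn := h0_tensorPow k hdim hM hd h2 n (by omega)
  have hdn : Curv2.deg k X (CohB1.tensorPow M n) 1 = 2 * (n : ℤ) := by
    rw [deg_tensorPow k hdim.le hM, hd]; ring
  have key : ∀ {A : X.Modules}, PicF.IsInvertible A → Curv2.deg k X A 1 = 2 →
      2 ≤ Module.finrank k (Coh.HH X A 0) →
      Nonempty (CohB1.tensorMod (CohB1.tensorPow M n) A ≅ Omega.sheaf (X ↘ Spec (CommRingCat.of k))) := by
    intro A hA hdA h2A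
    refine nonempty_iso_omega_of_deg k hdim (AmpleLib.isInvertible_tensorMod hp hA) ?_ ?_
    · rw [deg_tensor k hdim.le hp hA, hdn, hdA]; omega
    · have h := h0_add_h0_le k hdim (fun P _ => isIntegrallyClosed_stalk_of_smooth k P) hp hA
        (Module.nontrivial_of_finrank_pos (R := k) (by omega))
        (Module.nontrivial_of_finrank_pos (R := k) (by omega))
      omega
  obtain ⟨e⟩ := key hM hd h2
  obtain ⟨e'⟩ := key hM' hd' h2'
  exact nonempty_iso_of_tensor_iso k hp hM hM' (e ≪≫ e'.symm)

/-- Either a `g¹₂` or the canonical sheaf separates points and tangents. -/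
theorem omega_drop_iff [IsAlgClosed k] (hdim : topologicalKrullDim X = 1) (hg : 2 ≤ Curv2.genus k X) :
    (∀ (P Q : X) (hP : IsClosed ({P} : Set X)) (hQ : IsClosed ({Q} : Set X)),
      Module.finrank k (Coh.HH X (CohB1.tensorMod (Omega.sheaf (X ↘ Spec (CommRingCat.of k)))
        (CohB1.tensorMod (ClSub.idealMod (ptIdeal P hP)) (ClSub.idealMod (ptIdeal Q hQ)))) 0) + 2 =
        Module.finrank k (Coh.HH X (Omega.sheaf (X ↘ Spec (CommRingCat.of k))) 0)) ↔
      ¬ ∃ M : X.Modules, PicF.IsInvertible M ∧ Curv2.deg k X M 1 = 2 ∧ 2 ≤ Module.finrank k (Coh.HH X M 0) := by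
  haveI := EulerLib.isNoetherian_of_proper k (X := X)
  let Ω := Omega.sheaf (X ↘ Spec (CommRingCat.of k))
  have hΩ : PicF.IsInvertible Ω := OmegaDual24.isInvertible_omega (k := k) hdim
  have hgΩ : Module.finrank k (Coh.HH X Ω 0) = Curv2.genus k X := (OmegaDual24.finrank_omega k hdim).1
  have hI : ∀ {P : X} (hP : IsClosed ({P} : Set X)), PicF.IsInvertible (ClSub.idealMod (ptIdeal P hP)) :=
    fun {P} hP => isInvertible_ptIdeal_of_normal k hdim hP (isIntegrallyClosed_stalk_of_smooth k P)
  constructor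
  · rintro h ⟨M, hM, hd, h2⟩
    haveI := LocallyOfFiniteType.jacobsonSpace (X ↘ Spec (CommRingCat.of k))
    obtain ⟨P, -, hP⟩ := nonempty_inter_closedPoints (X := X) Set.univ_nonempty isClosed_univ.isLocallyClosed
    have hIP := hI hP
    let N := CohB1.tensorMod M (ClSub.idealMod (ptIdeal P hP))
    have hN : PicF.IsInvertible N := AmpleLib.isInvertible_tensorMod hM hIP
    have hdN : Curv2.deg k X N 1 = 1 := by
      rw [deg_tensor_ptIdeal k hP hM, hd, finrank_resField k hP]; norm_num
    obtain ⟨-, hge⟩ := h0_tensor_ptIdeal k hP hM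
    rw [finrank_resField k hP] at hge
    change _ ≤ Module.finrank k (Coh.HH X N 0) + 1 at hge
    have hN1 : (Module.finrank k (Coh.HH X N 0) : ℤ) ≤ 1 := by
      have := CurveRR24.h0_le_deg k hdim.le (by omega) hN (by omega)
      rwa [hdN] at this
    obtain ⟨s, hs⟩ := exists_ne_zero_of_nontrivial k
      (Module.nontrivial_of_finrank_pos (R := k) (M := Coh.HH X N 0) (by omega))
    have hne : ∃ x, x ∉ glocus N s := by
      by_contra hall
      push Not at hall
      have hempty : CohB1.support (cokernel (unitDesc N s)) = ∅ :=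
        Set.subset_empty_iff.1 fun x hx => support_cokernel_unitDesc s hx (hall x)
      haveI := mono_unitDesc hN hs
      haveI : Epi (unitDesc N s) := Abelian.epi_of_cokernel_π_eq_zero _
        ((isZero_of_support_eq_empty hempty).eq_of_tgt _ _)
      haveI : IsIso (unitDesc N s) := isIso_of_mono_of_epi _
      rw [← deg_congr k (asIso (unitDesc N s)) 1, deg_structure] at hdN
      exact absurd hdN (by norm_num)
    obtain ⟨x, hx⟩ := hne
    obtain ⟨Q, hQx, hQ⟩ := (isClosed_closure (s := ({x} : Set X))).exists_closed_singleton ⟨x, subset_closure rfl⟩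
    have hsQ : Q ∉ glocus N s := fun h' => hx ((specializes_iff_mem_closure.2 hQx).mem_open (glocus N s).2 h')
    haveI := finite_HH_of_isCoh k (CurveRR24.isCoh_of_isInvertible k hN) 0
    haveI : Module.Finite k (GA (baseHom k X) N) := Module.Finite.equiv (hhZero k N)
    have hall : ∀ t : Γ(N, ⊤), Q ∉ glocus N t := by
      intro t ht
      let E := hhZero k N
      obtain ⟨c, hc⟩ := exists_smul_eq_of_finrank_eq_one (show Module.finrank k (Coh.HH X N 0) = 1 by omega)
        (x := E.symm s) (fun h => hs (E.symm.map_eq_zero_iff.1 h)) (E.symm t)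
      rw [← map_smul] at hc
      replace hc := E.symm.injective hc
      have hc' : baseHom k X c • s = t := hc
      refine (mem_glocus_iff_germ hN t Q).1 ht ?_
      rw [← hc', QCohLoc.germ_smul']
      exact Submodule.smul_mem _ _ (not_not.1 ((mem_glocus_iff_germ hN s Q).not.1 hsQ))
    have h00 := h0_eq_of_all_vanish k hQ hN hall
    have hIQ := hI hQ
    have hNQ := AmpleLib.isInvertible_tensorMod hN hIQ
    obtain ⟨e⟩ := (deg_nonneg_of_section k hdim.le hNQ
      (Module.nontrivial_of_finrank_pos (R := k) (by rw [h00]; omega))).2.1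
      (by rw [deg_tensor_ptIdeal k hQ hN, hdN, finrank_resField k hQ]; norm_num)
    obtain ⟨a⟩ := exists_assocIso' M hIP hIQ
    have hrr := riemann_roch_omega k hdim hM (AmpleLib.isInvertible_tensorMod hIP hIQ) (a.symm ≪≫ e)
    have := h P Q hP hQ
    rw [hd] at hrr
    change _ + 2 = Module.finrank k (Coh.HH X Ω 0) at this
    omega
  · intro h P Q hP hQ
    have hII := AmpleLib.isInvertible_tensorMod (hI hP) (hI hQ)
    obtain ⟨L, hL, ⟨e⟩⟩ := CurveRR24.exists_inverse k hII
    have hd : Curv2.deg k X L 1 = 2 := by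
      have h1 := deg_tensor k hdim.le hII hL
      rw [deg_congr k e, deg_structure, deg_tensor k hdim.le (hI hP) (hI hQ), deg_ptIdeal k hP, deg_ptIdeal k hQ,
        finrank_resField k hP, finrank_resField k hQ] at h1
      omega
    have hle : Module.finrank k (Coh.HH X L 0) ≤ 1 := by
      by_contra hlt
      exact h ⟨L, hL, hd, by omega⟩
    have hrr := riemann_roch_omega k hdim hL hII (tensorComm _ _ ≪≫ e)
    rw [hd] at hrr
    obtain ⟨-, h1⟩ := h0_tensor_ptIdeal k hP hΩ
    obtain ⟨-, h2⟩ := h0_tensor_ptIdeal k hQ (AmpleLib.isInvertible_tensorMod hΩ (hI hP))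
    rw [finrank_resField k hP] at h1
    obtain ⟨a⟩ := exists_assocIso' Ω (hI hP) (hI hQ)
    rw [finrank_resField k hQ, finrank_HH_congr k a 0] at h2
    show Module.finrank k (Coh.HH X (CohB1.tensorMod Ω _) 0) + 2 = Module.finrank k (Coh.HH X Ω 0)
    change _ - (Module.finrank k (Coh.HH X (CohB1.tensorMod Ω _) 0) : ℤ) = _ at hrr
    omega

end Groth.Agent.Clifford24
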