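import Groth.Agent.Clifford24.Sub
import Groth.Agent.CurveRR24.Degree

/-!
# Closed subschemes of small length
-/

set_option autoImplicit false
set_option linter.style.haveILetI false
set_option linter.unusedSectionVars false
set_option backward.isDefEq.respectTransparency.types false

universe u

open CategoryTheory CategoryTheory.Limits AlgebraicGeometry Opposite TopologicalSpace
open Groth.Agent.Coherent Groth.Agent.PicLib Groth.Agent.AmpleLib Groth.Agent.EulerLib Groth.Agent.CurveRR24

namespace Groth.Agent.Clifford24

variable {X : Scheme.{u}} (k : Type u) [Field k] [X.Over (Spec (CommRingCat.of k))]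
  [IsProper (X ↘ Spec (CommRingCat.of k))] [IsIntegral X]

include k in
/-- An ideal whose quotient has more sections than `O` misses the generic point. -/
theorem genericPoint_notMem_support (I : X.IdealSheafData)
    (h : Module.finrank k (Coh.HH X (ClSub.quotMod I) 0) ≠ Module.finrank k (Coh.HH X (Coh.structureModule X) 0)) :
    genericPoint X ∉ (I.support : Set X) := by
  intro hη
  refine h ?_
  haveI := EulerLib.isNoetherian_of_proper k (X := X)
  have htop : I.support = ⊤ := by
    refine top_le_iff.1 fun x _ => ?_
    exact (genericPoint_specializes x).mem_closed I.support.2 hη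
  obtain rfl := Scheme.IdealSheafData.support_eq_top_iff.1 htop
  let g := (⊥ : X.IdealSheafData).subschemeι
  let Z := (⊥ : X.IdealSheafData).subscheme
  let _ : Z.Over (Spec (CommRingCat.of k)) := ⟨g ≫ (X ↘ Spec (CommRingCat.of k))⟩
  have hpb : IsPullback g (Z ↘ Spec (CommRingCat.of k)) (X ↘ Spec (CommRingCat.of k))
      (Spec.map (CommRingCat.ofHom (algebraMap k k))) := by
    rw [show CommRingCat.ofHom (algebraMap k k) = 𝟙 _ from rfl, Spec.map_id]
    exact IsPullback.of_horiz_isIso ⟨by rw [Category.comp_id]; rfl⟩
  haveI : Coh.IsQCoh (Coh.structureModule Z) := Coherent.isQCoh_structureModule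
  rw [← finrank_HH_structure_bc hpb 0]
  exact (SerreDual.hpush g k rfl (Coh.structureModule Z) 0).finrank_eq.symm

end Groth.Agent.Clifford24
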