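import Groth.Prelude.Def_W4c5m1nsnscurvesC
import Mathlib

/-! The monomial basis of the curve algebra for three marked points. -/

set_option autoImplicit false
universe u
open W4c5m1nsnscurves MvPolynomial

namespace Groth.Agent.Clifford24.Curve3

variable {R : Type u} [CommRing R] (a b c d : R)

abbrev Idx : Type := Option (ℕ ⊕ (Fin 2 × ℕ))

/-- normal form of the monomial `x^i y^j` -/
noncomputable def N : ℕ → ℕ → (Idx →₀ R)
  | 0, 0 => Finsupp.single none 1
  | 0, j + 1 => Finsupp.single (some (Sum.inr (1, j))) 1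
  | i + 1, 0 => Finsupp.single (some (Sum.inr (0, i))) 1
  | i + 1, 1 => Finsupp.single (some (Sum.inl i)) 1
  | i + 1, j + 2 => N (i + 2) (j + 1) + a • N (i + 1) (j + 1) + b • N (i + 1) j + c • N i (j + 1) + d • N i j
termination_by i j => (j, i)

noncomputable def L : MvPolynomial (Fin 2) R →ₗ[R] (Idx →₀ R) :=
  (MvPolynomial.basisMonomials (Fin 2) R).constr R fun e => N a b c d (e 0) (e 1)

theorem L_monomial (e : Fin 2 →₀ ℕ) : L a b c d (monomial e 1) = N a b c d (e 0) (e 1) := by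
  have h := (MvPolynomial.basisMonomials (Fin 2) R).constr_basis R
    (fun e : Fin 2 →₀ ℕ => N a b c d (e 0) (e 1)) e
  rwa [coe_basisMonomials] at h

theorem L_pow (i j : ℕ) : L a b c d (X 0 ^ i * X 1 ^ j) = N a b c d i j := by
  rw [X_pow_eq_monomial, X_pow_eq_monomial, monomial_mul, one_mul, L_monomial]
  congr 1 <;> simp

local notation "f₀" => (X 0 * X 1 ^ 2 - X 0 ^ 2 * X 1 -
    (C a * X 0 * X 1 + C b * X 0 + C c * X 1 + C d) : MvPolynomial (Fin 2) R)

theorem L_mul_rel (i j : ℕ) : L a b c d (X 0 ^ i * X 1 ^ j * f₀) = 0 := by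
  have h : X 0 ^ i * X 1 ^ j * f₀ = X 0 ^ (i + 1) * X 1 ^ (j + 2) - X 0 ^ (i + 2) * X 1 ^ (j + 1) -
      (a • (X 0 ^ (i + 1) * X 1 ^ (j + 1)) + b • (X 0 ^ (i + 1) * X 1 ^ j) +
        c • (X 0 ^ i * X 1 ^ (j + 1)) + d • (X 0 ^ i * X 1 ^ j)) := by
    simp only [smul_eq_C_mul]; ring
  rw [h]
  simp only [map_sub, map_add, map_smul, L_pow]
  conv_lhs => arg 1; arg 1; rw [N]
  abel

theorem L_ideal {p : MvPolynomial (Fin 2) R} (hp : p ∈ Ideal.span {f₀}) : L a b c d p = 0 := by
  obtain ⟨q, rfl⟩ := Ideal.mem_span_singleton'.mp hp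
  clear hp
  induction q using MvPolynomial.induction_on' with
  | monomial e r =>
    have he : (monomial e r : MvPolynomial (Fin 2) R) = r • (X 0 ^ e 0 * X 1 ^ e 1) := by
      rw [monomial_eq, Finsupp.prod_fintype _ _ (fun i => pow_zero _), Fin.prod_univ_two, smul_eq_C_mul]
    rw [he, smul_mul_assoc, map_smul, L_mul_rel, smul_zero]
  | add p q hp hq =>
    rw [add_mul, map_add, hp, hq, add_zero]

noncomputable def Lq : CurveAlg3 R a b c d →ₗ[R] (Idx →₀ R) :=
  (Submodule.liftQ ((Ideal.span {f₀}).restrictScalars R) (L a b c d)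
    (fun p hp => LinearMap.mem_ker.mpr (L_ideal a b c d hp))).comp
    (Submodule.Quotient.restrictScalarsEquiv R (Ideal.span {f₀})).symm.toLinearMap

theorem Lq_mk (p : MvPolynomial (Fin 2) R) :
    Lq a b c d (Ideal.Quotient.mk _ p) = L a b c d p := rfl

theorem Lq_cmon (t : Idx) : Lq a b c d (cmon3 R a b c d t) = Finsupp.single t 1 := by
  rcases t with _ | (k | ⟨y, k⟩)
  · show Lq a b c d (Ideal.Quotient.mk _ 1) = _
    rw [Lq_mk, show (1 : MvPolynomial (Fin 2) R) = X 0 ^ 0 * X 1 ^ 0 by simp, L_pow, N]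
  · show Lq a b c d (Ideal.Quotient.mk _ (X 0 ^ (k + 1) * X 1)) = _
    rw [Lq_mk, show (X 0 ^ (k + 1) * X 1 : MvPolynomial (Fin 2) R) = X 0 ^ (k + 1) * X 1 ^ 1 by simp,
      L_pow, N]
  · show Lq a b c d (Ideal.Quotient.mk _ (X y ^ (k + 1))) = _
    rw [Lq_mk]
    match y with
    | 0 =>
      rw [show (X 0 ^ (k + 1) : MvPolynomial (Fin 2) R) = X 0 ^ (k + 1) * X 1 ^ 0 by simp, L_pow, N]
    | 1 =>
      rw [show (X 1 ^ (k + 1) : MvPolynomial (Fin 2) R) = X 0 ^ 0 * X 1 ^ (k + 1) by simp, L_pow, N]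

theorem linearIndependent_cmon : LinearIndependent R (cmon3 R a b c d) := by
  refine LinearIndependent.of_comp (Lq a b c d) ?_
  rw [show (Lq a b c d : _ → _) ∘ cmon3 R a b c d = fun t => Finsupp.single t (1 : R) from
    funext (Lq_cmon a b c d)]
  exact Finsupp.linearIndependent_single_one R Idx

theorem mem_span_pow (i j : ℕ) :
    Ideal.Quotient.mk (Ideal.span {f₀}) (X 0 ^ i * X 1 ^ j) ∈
      Submodule.span R (Set.range (cmon3 R a b c d)) := by
  induction j using Nat.strong_induction_on generalizing i with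
  | _ j ih =>
    match i, j with
    | 0, 0 => exact Submodule.subset_span ⟨none, by simp [cmon3]⟩
    | 0, j + 1 => exact Submodule.subset_span ⟨some (Sum.inr (1, j)), by simp [cmon3]⟩
    | i + 1, 0 => exact Submodule.subset_span ⟨some (Sum.inr (0, i)), by simp [cmon3]⟩
    | i + 1, 1 => exact Submodule.subset_span ⟨some (Sum.inl i), by simp [cmon3]⟩
    | i + 1, j + 2 =>
      have h : Ideal.Quotient.mk (Ideal.span {f₀}) (X 0 ^ (i + 1) * X 1 ^ (j + 2)) =
          Ideal.Quotient.mk (Ideal.span {f₀}) (X 0 ^ (i + 2) * X 1 ^ (j + 1) +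
            (a • (X 0 ^ (i + 1) * X 1 ^ (j + 1)) + b • (X 0 ^ (i + 1) * X 1 ^ j) +
              c • (X 0 ^ i * X 1 ^ (j + 1)) + d • (X 0 ^ i * X 1 ^ j))) := by
        rw [Ideal.Quotient.mk_eq_mk_iff_sub_mem]
        refine Ideal.mem_span_singleton'.mpr ⟨X 0 ^ i * X 1 ^ j, ?_⟩
        simp only [smul_eq_C_mul]; ring
      rw [h]
      rw [← Ideal.Quotient.mkₐ_eq_mk R]
      simp only [map_add, map_smul, Ideal.Quotient.mkₐ_eq_mk]
      exact add_mem (ih (j + 1) (by omega) _) (add_mem (add_mem (add_mem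
        (Submodule.smul_mem _ _ (ih (j + 1) (by omega) _)) (Submodule.smul_mem _ _ (ih j (by omega) _)))
        (Submodule.smul_mem _ _ (ih (j + 1) (by omega) _))) (Submodule.smul_mem _ _ (ih j (by omega) _)))

theorem span_cmon : Submodule.span R (Set.range (cmon3 R a b c d)) = ⊤ := by
  refine eq_top_iff.mpr fun x _ => ?_
  obtain ⟨p, rfl⟩ := Ideal.Quotient.mk_surjective x
  induction p using MvPolynomial.induction_on' with
  | monomial e r =>
    have he : (monomial e r : MvPolynomial (Fin 2) R) = r • (X 0 ^ e 0 * X 1 ^ e 1) := by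
      rw [monomial_eq, Finsupp.prod_fintype _ _ (fun i => pow_zero _), Fin.prod_univ_two, smul_eq_C_mul]
    rw [he, ← Ideal.Quotient.mkₐ_eq_mk R, map_smul]
    exact Submodule.smul_mem _ _ (mem_span_pow a b c d _ _)
  | add p q hp hq => rw [map_add]; exact add_mem (hp trivial) (hq trivial)

end Groth.Agent.Clifford24.Curve3
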