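import Groth.Agent.Clifford24.AbsCurveDiv
import Groth.Agent.MeroLib.ZeroSch
import Groth.Agent.CAlgH3.EN.Support
import Groth.Agent.Coherent.FibreVanish
import Groth.Agent.CurveRR24.RR
import Groth.Agent.VarCurve23.RegularCompletion
import Groth.Agent.DualLib.RelDualizingModule
import Groth.Agent.Surf15.LMBN

/-! Inclusions of modules of divisors. -/

set_option autoImplicit false
set_option linter.style.haveILetI false
set_option backward.isDefEq.respectTransparency.types false
universe u
open CategoryTheory CategoryTheory.Limits AlgebraicGeometry Opposite TopologicalSpace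
open Groth.Agent.Coherent Groth.Agent.MeroLib Groth.Agent.EulerLib Groth.Agent.PicLib Groth.Agent.CurveRR24

noncomputable section

namespace Groth.Agent.Clifford24.DivLE

variable {X : Scheme.{u}}

theorem divCond_of_le {D D' : Mero.Divisor X} (h : Mero.DivLE D' D) (y : X) (t : Mero.KStalk X y)
    (ht : Mero.DivCond D' y t) : Mero.DivCond D y t := by
  obtain ⟨c, hc⟩ := h y
  obtain ⟨g', hg'⟩ := QuotientGroup.mk_surjective (D'.1 y)
  have hg : D.1 y = QuotientGroup.mk ((IsLocalization.map_units (Mero.KStalk X y) c).unit * g') := by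
    rw [QuotientGroup.mk_mul, ← hc, hg']
    show D.1 y = D.1 y * (D'.1 y)⁻¹ * D'.1 y
    rw [inv_mul_cancel_right]
  refine (divCond_iff D hg _).2 ?_
  obtain ⟨r, hr⟩ := (divCond_iff D' hg'.symm _).1 ht
  refine ⟨r * c, ?_⟩
  rw [map_mul, hr, Units.val_mul, IsUnit.unit_spec]; ring

/-- The inclusion `O(D') ⊆ O(D)` for `D' ≤ D`. -/
def incl {D D' : Mero.Divisor X} (h : Mero.DivLE D' D) : Mero.divMod D' ⟶ Mero.divMod D :=
  ⟨PresheafOfModules.homMk (M₁ := (Mero.divMod D').val) (M₂ := (Mero.divMod D).val)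
    { app := fun U => AddCommGrpCat.ofHom
        { toFun := fun (f : Γ(Mero.divMod D', U.unop)) =>
            (⟨f.1, f.2.1, fun y => divCond_of_le h y.1 _ (f.2.2 y)⟩ : Γ(Mero.divMod D, U.unop))
          map_zero' := rfl
          map_add' := fun _ _ => rfl }
      naturality := by intros; rfl }
    (fun _ _ _ => rfl)⟩

theorem incl_app_injective {D D' : Mero.Divisor X} (h : Mero.DivLE D' D) (U : X.Opens) :
    Function.Injective ((incl h).app U) := fun a b hab => by
  have h1 := congrArg (fun z : Γ(Mero.divMod D, U) => z.1) hab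
  exact Subtype.ext h1

instance mono_incl {D D' : Mero.Divisor X} (h : Mero.DivLE D' D) : Mono (incl h) where
  right_cancellation {Z} a b hab := Scheme.Modules.hom_ext _ _ fun U => by
    ext s
    refine incl_app_injective h U ?_
    exact ConcreteCategory.congr_hom (congrArg (fun φ => Scheme.Modules.Hom.app φ U) hab) s

theorem notMem_support {D D' : Mero.Divisor X} (h : Mero.DivLE D' D)
    (hc : IsClosed (Mero.supp (D * D'⁻¹))) {y : X} (hy : y ∉ Mero.supp (D * D'⁻¹)) :
    y ∉ CohB1.support (cokernel (incl h)) := by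
  refine CAlgH3.EN.notMem_support_cokernel _ fun V hV b => ?_
  let W : X.Opens := V ⊓ ⟨(Mero.supp (D * D'⁻¹))ᶜ, hc.isOpen_compl⟩
  refine ⟨W, inf_le_left, ⟨hV, hy⟩, ?_⟩
  let b' : Γ(Mero.divMod D, W) := resM _ inf_le_left b
  refine ⟨(⟨b'.1, b'.2.1, fun z g hg => b'.2.2 z g ?_⟩ : Γ(Mero.divMod D', W)), Subtype.ext rfl⟩
  have h1 : D.1 z.1 * (D'.1 z.1)⁻¹ = 1 := not_not.1 (show ¬ (D * D'⁻¹).1 z.1 ≠ 1 from z.2.2)
  rw [mul_inv_eq_one.1 h1]
  exact hg

variable (k : Type u) [Field k] [X.Over (Spec (CommRingCat.of k))] [IsProper (X ↘ Spec (CommRingCat.of k))]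

theorem h0_le [IsNoetherian X] (hequi : ∀ Z ∈ irreducibleComponents (X : Type u), topologicalKrullDim Z = 1)
    (D D' : Mero.Divisor X) (hle : Mero.DivLE D' D) :
    Module.finrank k (Coh.HH X (Mero.divMod D') 0) ≤ Module.finrank k (Coh.HH X (Mero.divMod D) 0) ∧
      (Module.finrank k (Coh.HH X (Mero.divMod D) 0) : ℤ) ≤
        (Module.finrank k (Coh.HH X (Mero.divMod D') 0) : ℤ) + Curv2.deg k X (Mero.divMod (D * D'⁻¹)) 1 := by
  have hX1 : topologicalKrullDim X ≤ 1 := DualLib.RelMod.dim_le_of_components (r := 1) (n := 1) rfl hequi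
  have hC : ∀ x : X, IsClosed ({x} : Set X) → ringKrullDim (X.presheaf.stalk x) = 1 := by
    intro x hx
    obtain ⟨η, hη⟩ := QuasiSober.sober (isIrreducible_irreducibleComponent (x := x)) isClosed_irreducibleComponent
    refine VarCurve23.ringKrullDim_stalk_eq_one hX1 (hη.specializes mem_irreducibleComponent) ?_
    intro h
    subst h
    have h1 := hequi _ (irreducibleComponent_mem_irreducibleComponents η)
    rw [← hη.def, hx.closure_eq] at h1
    have h0 := topologicalKrullDim_zero_of_discreteTopology ({η} : Set X)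
    rw [h1] at h0
    exact absurd h0 (by decide)
  have hfin : (Mero.supp (D * D'⁻¹)).Finite := AbsCurveDiv.finite_supp hC _
  have hpts : ∀ z ∈ Mero.supp (D * D'⁻¹), IsClosed ({z} : Set X) := fun z hz => by
    by_contra hcl
    exact hz (AbsCurveDiv.germ_eq_one_of_not_isClosed hC hcl _)
  have hcl : IsClosed (Mero.supp (D * D'⁻¹)) := by
    rw [← Set.biUnion_of_singleton (Mero.supp (D * D'⁻¹))]
    exact hfin.isClosed_biUnion hpts
  let S : ShortComplex X.Modules := ShortComplex.mk (incl hle) (cokernel.π _) (cokernel.condition _)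
  have hS : S.ShortExact :=
    { exact := ShortComplex.exact_cokernel _
      mono_f := mono_incl hle
      epi_g := inferInstanceAs (Epi (cokernel.π (incl hle))) }
  have h₁ : Coh.IsCoh S.X₁ := CurveRR24.isCoh_of_isInvertible k (isInvertible_divMod D')
  have h₂ : Coh.IsCoh S.X₂ := CurveRR24.isCoh_of_isInvertible k (isInvertible_divMod D)
  have h₃ : Coh.IsCoh S.X₃ := isCoh_cokernel (incl hle) h₁.1 h₂
  have hv : ∀ q, 0 < q → Subsingleton (Coh.HH X S.X₃ q) := fun q hq =>
    subsingleton_HH_of_support_finite _ _ hfin hpts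
      (fun y hy => by_contra fun h => notMem_support hle hcl h hy) q hq
  haveI := CurveRR24.finite_HH_of_isCoh k h₁ 0
  haveI := CurveRR24.finite_HH_of_isCoh k h₂ 0
  haveI := CurveRR24.finite_HH_of_isCoh k h₃ 0
  have hinj : Function.Injective (SerreDual.hmap k S.f 0) := fun a b hab => by
    apply (hhZero k S.X₁).injective
    apply incl_app_injective hle ⊤
    exact (Surf15.hhZero_natural k S.f a).symm.trans ((congrArg (hhZero k S.X₂) hab).trans (Surf15.hhZero_natural k S.f b))
  have he := euler_additive k X S hS h₁ h₂ h₃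
  rw [euler_eq_sum k X S.X₃ 0 fun q hq => hv q hq] at he
  simp only [Finset.range_one, Finset.sum_singleton, pow_zero, one_mul, zero_add] at he
  have hdeg : Curv2.deg k X (Mero.divMod (D * D'⁻¹)) 1 = Curv2.euler k X S.X₂ - Curv2.euler k X S.X₁ := by
    obtain ⟨μ, -, hμ⟩ := exists_tensor_iso (D * D'⁻¹) D'
    haveI := hμ
    have h1 := CurveRR24.deg_tensor k hX1 (isInvertible_divMod (D * D'⁻¹)) (isInvertible_divMod D')
    rw [CurveRR24.deg_congr k (asIso μ) 1, inv_mul_cancel_right] at h1
    simp only [Curv2.deg, Nat.cast_one, one_mul] at h1 ⊢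
    show _ = Curv2.euler k X (Mero.divMod D) - Curv2.euler k X (Mero.divMod D')
    linarith
  refine ⟨LinearMap.finrank_le_finrank_of_injective hinj, ?_⟩
  have hrn := (SerreDual.hmap k S.g 0).finrank_range_add_finrank_ker
  rw [LinearMap.exact_iff.1 (SerreDual.exact_hmap k hS 0)] at hrn
  have h4 := LinearMap.finrank_range_le (SerreDual.hmap k S.f 0)
  have h5 := Submodule.finrank_le (LinearMap.range (SerreDual.hmap k S.g 0))
  change Module.finrank k _ + _ = Module.finrank k (Coh.HH X (Mero.divMod D) 0) at hrn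
  change _ ≤ Module.finrank k (Coh.HH X (Mero.divMod D') 0) at h4
  rw [hdeg]
  omega

end Groth.Agent.Clifford24.DivLE
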