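import Groth.Agent.Clifford24.Ord
import Groth.Agent.CurveRR24.AlgClosed
import Groth.Agent.CurveRR24.VeryAmple
import Groth.Agent.CurveRR24.DegGroup
import Groth.Agent.CurveRR24.Section

/-!
# `h⁰(L) + h⁰(M) ≤ h⁰(L ⊗ M) + 1` on a curve over an algebraically closed field
-/

set_option autoImplicit false
set_option linter.style.haveILetI false
set_option linter.unusedSectionVars false
set_option backward.isDefEq.respectTransparency.types false

universe u

open CategoryTheory CategoryTheory.Limits AlgebraicGeometry Opposite TopologicalSpace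
open Groth.Agent.Coherent Groth.Agent.PicLib Groth.Agent.EulerLib Groth.Agent.CurveRR24

namespace Groth.Agent.Clifford24

variable {X : Scheme.{u}} (k : Type u) [Field k] [X.Over (Spec (CommRingCat.of k))]
  [IsProper (X ↘ Spec (CommRingCat.of k))] [IsIntegral X]

/-- The germ at `P` of the coordinate of a global section. -/
noncomputable def coordGerm {L : X.Modules} {U : X.Opens} {g : Γ(L, U)} (hg : IsGen L U g) {P : X} (hP : P ∈ U)
    (s : Γ(L, ⊤)) : X.presheaf.stalk P :=
  X.presheaf.germ U P hP (hg.coef le_rfl (resM L le_top s))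

theorem coordGerm_add {L : X.Modules} {U : X.Opens} {g : Γ(L, U)} (hg : IsGen L U g) {P : X} (hP : P ∈ U)
    (s t : Γ(L, ⊤)) : coordGerm hg hP (s + t) = coordGerm hg hP s + coordGerm hg hP t := by
  simp only [coordGerm, map_add, hg.coef_add]

theorem coordGerm_smul {L : X.Modules} {U : X.Opens} {g : Γ(L, U)} (hg : IsGen L U g) {P : X} (hP : P ∈ U)
    (a : Γ(X, ⊤)) (s : Γ(L, ⊤)) :
    coordGerm hg hP (a • s) = X.presheaf.germ ⊤ P trivial a * coordGerm hg hP s := by
  simp only [coordGerm]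
  rw [resM_smul, hg.coef_smul, map_mul]
  congr 1
  exact TopCat.Presheaf.germ_res_apply X.presheaf (homOfLE (le_top (a := U))) P hP a

theorem coordGerm_injective {L : X.Modules} (hL : PicF.IsInvertible L) {U : X.Opens} {g : Γ(L, U)}
    (hg : IsGen L U g) {P : X} (hP : P ∈ U) {s : Γ(L, ⊤)} (h : coordGerm hg hP s = 0) : s = 0 := by
  by_contra hs
  have hη := genericPoint_mem_glocus hL hs
  haveI : Nonempty U := ⟨⟨P, hP⟩⟩
  have hηU : genericPoint X ∈ U := (genericPoint_spec X).mem_open_set_iff U.2 |>.2 ⟨P, trivial, hP⟩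
  have h1 : genericPoint X ∈ X.basicOpen (hg.coef le_rfl (resM L le_top s)) := (AmpleLib.glocus_inf s hg).le ⟨hη, hηU⟩
  have h0 : hg.coef le_rfl (resM L le_top s) = 0 := by
    apply germ_injective_of_isIntegral X P hP
    rw [map_zero]; exact h
  rw [h0, Scheme.basicOpen_zero] at h1
  exact h1

theorem coordGerm_tmul {L M : X.Modules} {U : X.Opens} {g : Γ(L, U)} {g' : Γ(M, U)} (hg : IsGen L U g)
    (hg' : IsGen M U g') {P : X} (hP : P ∈ U) (s : Γ(L, ⊤)) (t : Γ(M, ⊤)) :
    coordGerm (AmpleLib.isGen_tmul hg hg') hP (AmpleLib.tmul s t) = coordGerm hg hP s * coordGerm hg' hP t := by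
  simp only [coordGerm, ← map_mul]
  congr 1
  refine (AmpleLib.isGen_tmul hg hg').coef_eq le_rfl ?_
  rw [resM_self, AmpleLib.resM_tmul]
  refine (AmpleLib.tmul_smul_smul _ _ _ _).symm.trans (congrArg₂ AmpleLib.tmul ?_ ?_)
  · have hs := hg.coef_spec le_rfl (resM L (le_top : U ≤ ⊤) s)
    rwa [resM_self] at hs
  · have ht := hg'.coef_spec le_rfl (resM M (le_top : U ≤ ⊤) t)
    rwa [resM_self] at ht

/-- `h⁰(L) + h⁰(M) ≤ h⁰(L ⊗ M) + 1` for effective invertible modules. -/
theorem h0_add_h0_le [IsAlgClosed k] (hdim : topologicalKrullDim X = 1)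
    (hn : ∀ P : X, IsClosed ({P} : Set X) → IsIntegrallyClosed (X.presheaf.stalk P))
    {L M : X.Modules} (hL : PicF.IsInvertible L) (hM : PicF.IsInvertible M)
    (hs : Nontrivial (Coh.HH X L 0)) (ht : Nontrivial (Coh.HH X M 0)) :
    Module.finrank k (Coh.HH X L 0) + Module.finrank k (Coh.HH X M 0) ≤
      Module.finrank k (Coh.HH X (CohB1.tensorMod L M) 0) + 1 := by
  haveI := EulerLib.isNoetherian_of_proper k (X := X)
  haveI : CompactSpace X := inferInstance
  haveI := LocallyOfFiniteType.jacobsonSpace (X ↘ Spec (CommRingCat.of k))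
  obtain ⟨P, -, hP⟩ := nonempty_inter_closedPoints (X := X) Set.univ_nonempty isClosed_univ.isLocallyClosed
  haveI := CurvesLib24.isPrincipalIdealRing_stalk hdim.le P (hn P hP)
  haveI : IsDiscreteValuationRing (X.presheaf.stalk P) :=
    { not_a_field' := fun h => by
        have h1 := stalk_dim_eq_one hdim hP
        rw [ringKrullDim_eq_zero_of_isField (IsLocalRing.isField_iff_maximalIdeal_eq.2 h)] at h1
        exact zero_ne_one h1 }
  obtain ⟨U₁, hP₁, g₁, hg₁⟩ := exists_isGen hL P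
  obtain ⟨U₂, hP₂, g₂, hg₂⟩ := exists_isGen hM P
  have hg := hg₁.restrict (inf_le_left : U₁ ⊓ U₂ ≤ U₁)
  have hg' := hg₂.restrict (inf_le_right : U₁ ⊓ U₂ ≤ U₂)
  have hPU : P ∈ U₁ ⊓ U₂ := ⟨hP₁, hP₂⟩
  let φ : k →+* X.presheaf.stalk P := (X.presheaf.germ ⊤ P trivial).hom.comp (baseHom k X)
  let _ : Algebra k (X.presheaf.stalk P) := φ.toAlgebra
  have hres : ∀ x : X.presheaf.stalk P, ∃ c : k,
      x - algebraMap k (X.presheaf.stalk P) c ∈ IsLocalRing.maximalIdeal (X.presheaf.stalk P) := by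
    intro x
    let _ := Curv2.resAlgebra k X P
    haveI := finite_resField hP k
    obtain ⟨c, hc⟩ := (IsAlgClosed.algebraMap_bijective_of_isIntegral (k := k) (K := X.residueField P)).2
      (IsLocalRing.residue _ x)
    refine ⟨c, (IsLocalRing.residue_eq_zero_iff _).1 ?_⟩
    rw [map_sub, sub_eq_zero, ← hc]
    rfl
  let lin : ∀ {N : X.Modules} {g : Γ(N, U₁ ⊓ U₂)}, IsGen N (U₁ ⊓ U₂) g →
      (GA (baseHom k X) N →ₗ[k] X.presheaf.stalk P) := fun {N} {g} h =>
    { toFun := fun s => coordGerm h hPU s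
      map_add' := fun s t => coordGerm_add h hPU s t
      map_smul' := fun c s => coordGerm_smul h hPU (baseHom k X c) s }
  have hinj : ∀ {N : X.Modules} {g : Γ(N, U₁ ⊓ U₂)} (_ : PicF.IsInvertible N) (h : IsGen N (U₁ ⊓ U₂) g),
      Function.Injective (lin h) := fun hN h =>
    (injective_iff_map_eq_zero _).2 fun s hs => coordGerm_injective hN h hPU hs
  have hLM := AmpleLib.isInvertible_tensorMod hL hM
  have hfin : ∀ N : X.Modules, PicF.IsInvertible N → Module.Finite k (GA (baseHom k X) N) := fun N hN =>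
    haveI := CurveRR24.finite_HH_of_isCoh k (isCoh_of_isInvertible k hN) 0
    Module.Finite.equiv (hhZero k N)
  haveI := hfin _ hL
  haveI := hfin _ hM
  haveI := hfin _ hLM
  have hfr : ∀ {N : X.Modules} {g : Γ(N, U₁ ⊓ U₂)} (_ : PicF.IsInvertible N) (h : IsGen N (U₁ ⊓ U₂) g),
      Module.finrank k (Coh.HH X N 0) = Module.finrank k (LinearMap.range (lin h)) := fun hN h =>
    (hhZero k _).finrank_eq.trans (LinearMap.finrank_range_of_inj (hinj hN h)).symm
  have hne : ∀ {N : X.Modules} {g : Γ(N, U₁ ⊓ U₂)} (_ : PicF.IsInvertible N) (h : IsGen N (U₁ ⊓ U₂) g),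
      Nontrivial (Coh.HH X N 0) → LinearMap.range (lin h) ≠ ⊥ := by
    intro N g hN h hnt e
    obtain ⟨s, hs0⟩ := exists_ne_zero_of_nontrivial k hnt
    exact hs0 (hinj hN h (((Submodule.eq_bot_iff _).1 e _ ⟨s, rfl⟩).trans (map_zero _).symm))
  rw [hfr hL hg, hfr hM hg', hfr hLM (AmpleLib.isGen_tmul hg hg')]
  refine finrank_add_finrank_le hres _ _ _ (hne hL hg hs) (hne hM hg' ht) ?_
  rintro _ ⟨s, rfl⟩ _ ⟨t, rfl⟩
  exact ⟨AmpleLib.tmul s t, coordGerm_tmul hg hg' hPU s t⟩

end Groth.Agent.Clifford24
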