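import Groth.Agent.Clifford24.Gcd
import Groth.Agent.Clifford24.Mul
import Groth.Agent.CurveRR24.VeryAmple

/-!
# Equality in Clifford's theorem forces a `g¹₂`
-/

set_option autoImplicit false
set_option linter.style.haveILetI false
set_option linter.unusedSectionVars false
set_option backward.isDefEq.respectTransparency.types false
set_option maxHeartbeats 1000000

universe u

open CategoryTheory CategoryTheory.Limits AlgebraicGeometry Opposite TopologicalSpace
open Groth.Agent.Coherent Groth.Agent.PicLib Groth.Agent.AmpleLib Groth.Agent.EulerLib Groth.Agent.CurveRR24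

namespace Groth.Agent.Clifford24

variable {X : Scheme.{u}}

local notation "St" => DerSch.stalkFunctor X

theorem sections_biprod_total {A B : X.Modules} (U : X.Opens) (z : Γ(A ⊞ B, U)) :
    (biprod.inl : A ⟶ A ⊞ B).app U ((biprod.fst : A ⊞ B ⟶ A).app U z) +
      (biprod.inr : B ⟶ A ⊞ B).app U ((biprod.snd : A ⊞ B ⟶ B).app U z) = z :=
  congrArg (fun φ : A ⊞ B ⟶ A ⊞ B => φ.app U z) (biprod.total (X := A) (Y := B))

/-- A sum of coherent modules is coherent. -/
theorem isCoh_biprod [IsLocallyNoetherian X] {A B : X.Modules} (hA : Coh.IsCoh A) (hB : Coh.IsCoh B) :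
    Coh.IsCoh (A ⊞ B) := by
  haveI := hA.1
  haveI := hB.1
  refine (isCoh_iff_finite_sections _).2 ⟨isQCoh_biprod A B, fun U hU => ?_⟩
  haveI := ((isCoh_iff_finite_sections A).1 hA).2 U hU
  haveI := ((isCoh_iff_finite_sections B).1 hB).2 U hU
  let f : Γ(A, U) × Γ(B, U) →ₗ[Γ(X, U)] Γ(A ⊞ B, U) :=
    { toFun := fun w => (biprod.inl : A ⟶ A ⊞ B).app U w.1 + (biprod.inr : B ⟶ A ⊞ B).app U w.2
      map_add' := fun w w' => by
        simp only [Prod.fst_add, Prod.snd_add, map_add]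
        abel
      map_smul' := fun r w => by
        simp only [Prod.smul_fst, Prod.smul_snd, Scheme.Modules.Hom.app_smul, smul_add, RingHom.id_apply] }
  exact Module.Finite.of_surjective f fun z => ⟨(_, _), sections_biprod_total U z⟩

variable (k : Type u) [Field k] [X.Over (Spec (CommRingCat.of k))]
  [IsProper (X ↘ Spec (CommRingCat.of k))] [IsIntegral X]

omit [IsIntegral X] in
theorem euler_biprod {A B : X.Modules} (hA : Coh.IsCoh A) (hB : Coh.IsCoh B) :
    Curv2.euler k X (A ⊞ B) = Curv2.euler k X A + Curv2.euler k X B := by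
  haveI := EulerLib.isNoetherian_of_proper k (X := X)
  let S := ShortComplex.mk (biprod.inl : A ⟶ A ⊞ B) (biprod.snd : A ⊞ B ⟶ B) (by simp)
  have hS : S.ShortExact := (ShortComplex.Splitting.ofHasBinaryBiproduct A B).shortExact
  exact euler_additive k X S hS hA (isCoh_biprod hA hB) hB

omit [IsIntegral X] in
theorem h0_add_le_biprod {A B : X.Modules} (hA : Coh.IsCoh A) (hB : Coh.IsCoh B) :
    Module.finrank k (Coh.HH X A 0) + Module.finrank k (Coh.HH X B 0) ≤
      Module.finrank k (Coh.HH X (A ⊞ B) 0) := by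
  haveI := EulerLib.isNoetherian_of_proper k (X := X)
  haveI := CurveRR24.finite_HH_of_isCoh k (isCoh_biprod hA hB) 0
  haveI := CurveRR24.finite_HH_of_isCoh k hA 0
  haveI := CurveRR24.finite_HH_of_isCoh k hB 0
  let O := Coh.structureModule X
  haveI : Module.Finite k (O ⟶ A ⊞ B) := Module.Finite.equiv (SerreDual.homUnitHH k _).symm
  haveI : Module.Finite k (O ⟶ A) := Module.Finite.equiv (SerreDual.homUnitHH k _).symm
  haveI : Module.Finite k (O ⟶ B) := Module.Finite.equiv (SerreDual.homUnitHH k _).symm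
  rw [← (SerreDual.homUnitHH k A).finrank_eq, ← (SerreDual.homUnitHH k B).finrank_eq,
    ← (SerreDual.homUnitHH k (A ⊞ B)).finrank_eq, ← Module.finrank_prod]
  let f : (O ⟶ A) × (O ⟶ B) →ₗ[k] (O ⟶ A ⊞ B) :=
    (Linear.rightComp k O biprod.inl).coprod (Linear.rightComp k O biprod.inr)
  refine LinearMap.finrank_le_finrank_of_injective (f := f) ((injective_iff_map_eq_zero _).2 ?_)
  rintro ⟨a, b⟩ h
  change a ≫ biprod.inl + b ≫ biprod.inr = 0 at h
  have h1 := congrArg (· ≫ biprod.fst) h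
  have h2 := congrArg (· ≫ biprod.snd) h
  simp only [Preadditive.add_comp, Category.assoc, biprod.inl_fst, biprod.inr_fst, biprod.inl_snd,
    biprod.inr_snd, Category.comp_id, Limits.comp_zero, add_zero, zero_add, Limits.zero_comp] at h1 h2
  exact Prod.ext h1 h2

/-- The kernel of a surjection bounds the sections of the middle term. -/
theorem h0_le_kernel_add {A B : X.Modules} (hA : Coh.IsCoh A) (hB : Coh.IsCoh B) (π : A ⟶ B) :
    Module.finrank k (Coh.HH X A 0) ≤
      Module.finrank k (Coh.HH X (kernel π) 0) + Module.finrank k (Coh.HH X B 0) := by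
  haveI := EulerLib.isNoetherian_of_proper k (X := X)
  have hK : Coh.IsCoh (kernel π) := isCoh_kernel π hA hB.1
  haveI := CurveRR24.finite_HH_of_isCoh k hA 0
  haveI := CurveRR24.finite_HH_of_isCoh k hB 0
  haveI := CurveRR24.finite_HH_of_isCoh k hK 0
  let O := Coh.structureModule X
  haveI : Module.Finite k (O ⟶ A) := Module.Finite.equiv (SerreDual.homUnitHH k _).symm
  haveI : Module.Finite k (O ⟶ B) := Module.Finite.equiv (SerreDual.homUnitHH k _).symm
  haveI : Module.Finite k (O ⟶ kernel π) := Module.Finite.equiv (SerreDual.homUnitHH k _).symm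
  rw [← (SerreDual.homUnitHH k A).finrank_eq, ← (SerreDual.homUnitHH k B).finrank_eq,
    ← (SerreDual.homUnitHH k (kernel π)).finrank_eq]
  let g : (O ⟶ A) →ₗ[k] (O ⟶ B) := Linear.rightComp k O π
  let j : (O ⟶ kernel π) →ₗ[k] (O ⟶ A) := Linear.rightComp k O (kernel.ι π)
  have hker : LinearMap.ker g ≤ LinearMap.range j := fun a ha =>
    ⟨kernel.lift π a ha, kernel.lift_ι π a ha⟩
  rw [← g.finrank_range_add_finrank_ker, add_comm]
  exact add_le_add ((Submodule.finrank_mono hker).trans (LinearMap.finrank_range_le j))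
    (Submodule.finrank_le (LinearMap.range g))

/-- A map of invertible modules cannot create nonvanishing. -/
theorem notMem_glocus_map {A B : X.Modules} (hA : PicF.IsInvertible A) (hB : PicF.IsInvertible B) (φ : A ⟶ B)
    {u : Γ(A, ⊤)} {P : X} (h : P ∉ glocus A u) : P ∉ glocus B (φ.app ⊤ u) := by
  intro hmem
  refine (mem_glocus_iff_germ hB _ P).1 hmem ?_
  let ψ : A.presheaf.stalk P →ₗ[X.presheaf.stalk P] B.presheaf.stalk P := ((St P).map φ).hom
  have h1 : ψ (A.presheaf.germ ⊤ P trivial u) = B.presheaf.germ ⊤ P trivial (φ.app ⊤ u) :=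
    Coherent.stalk_map_germ φ (W := ⊤) trivial u
  have h2 := Submodule.mem_map_of_mem (f := ψ) (not_not.1 ((mem_glocus_iff_germ hA u P).not.1 h))
  have h2' := (Submodule.map_smul'' (IsLocalRing.maximalIdeal (X.presheaf.stalk P))
    (⊤ : Submodule (X.presheaf.stalk P) (A.presheaf.stalk P)) ψ).le h2
  have h3 : ψ (A.presheaf.germ ⊤ P trivial u) ∈ IsLocalRing.maximalIdeal (X.presheaf.stalk P) •
      (⊤ : Submodule (X.presheaf.stalk P) (B.presheaf.stalk P)) :=
    (Submodule.smul_mono le_rfl le_top) h2'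
  rwa [h1] at h3

include k in
/-- A coherent submodule of an invertible module meeting every stalk is invertible on a normal curve. -/
theorem isInvertible_of_mono' (hdim : topologicalKrullDim X ≤ 1)
    (hn : ∀ x : X, IsIntegrallyClosed (X.presheaf.stalk x)) {J M : X.Modules} (hM : PicF.IsInvertible M)
    (hJ : Coh.IsCoh J) (ι : J ⟶ M) [Mono ι] (hne : ∀ x : X, Nontrivial (J.presheaf.stalk x)) :
    PicF.IsInvertible J := by
  haveI := EulerLib.isNoetherian_of_proper k (X := X)
  obtain ⟨N, hN, ⟨e⟩⟩ := CurveRR24.exists_inverse k hM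
  haveI : Mono (tensorMap ι (𝟙 N)) := mono_tensorMap hN ι
  have hJT : Coh.IsCoh (CohB1.tensorMod J N) := EulerLib.isCoh_twist hN hJ
  refine PicLib.PicM.isInvertible_of_tensor hN ?_
  have := isInvertible_of_mono k hdim hn hJT (tensorMap ι (𝟙 N) ≫ e.hom) fun x => by
    have hx : x ∈ CohB1.support (CohB1.tensorMod J N) := by
      rw [support_twist hN]
      exact fun h => (not_subsingleton_iff_nontrivial.2 (hne x)) h
    exact not_subsingleton_iff_nontrivial.1 hx
  intro z
  obtain ⟨W, hz, ⟨w⟩⟩ := this z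
  exact ⟨W, hz, ⟨(Scheme.Modules.restrictFunctor W.ι).mapIso (tensorComm N J) ≪≫ w⟩⟩

include k in
/-- The kernel of a map from a sum of two lines to a line, injective on the second, is a line. -/
theorem isInvertible_kernel (hdim : topologicalKrullDim X ≤ 1)
    (hn : ∀ x : X, IsIntegrallyClosed (X.presheaf.stalk x)) {A B J : X.Modules} (hA : PicF.IsInvertible A)
    (hB : PicF.IsInvertible B) (hJ : PicF.IsInvertible J) (hS : Coh.IsCoh (A ⊞ B)) (hJc : Coh.IsCoh J)
    (π : A ⊞ B ⟶ J) (hmono : Mono (biprod.inr ≫ π)) : PicF.IsInvertible (kernel π) := by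
  haveI := EulerLib.isNoetherian_of_proper k (X := X)
  haveI := hmono
  have hK : Coh.IsCoh (kernel π) := isCoh_kernel π hS hJc.1
  haveI : Mono (kernel.ι π ≫ biprod.fst) := Preadditive.mono_of_cancel_zero _ fun {T} w hw => by
    have h1 : w ≫ kernel.ι π = (w ≫ kernel.ι π ≫ biprod.snd) ≫ biprod.inr := by
      refine biprod.hom_ext _ _ ?_ ?_
      · simp [hw]
      · simp
    have h2 : (w ≫ kernel.ι π ≫ biprod.snd) ≫ (biprod.inr ≫ π) = 0 := by
      rw [← Category.assoc, ← h1, Category.assoc, kernel.condition, Limits.comp_zero]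
    have h3 : w ≫ kernel.ι π ≫ biprod.snd = 0 := (cancel_mono (biprod.inr ≫ π)).1 (h2.trans Limits.zero_comp.symm)
    rw [h3, Limits.zero_comp] at h1
    exact (cancel_mono (kernel.ι π)).1 (h1.trans Limits.zero_comp.symm)
  refine isInvertible_of_mono' k hdim hn hA hK (kernel.ι π ≫ biprod.fst) fun x => ?_
  let R := X.presheaf.stalk x
  obtain ⟨bA⟩ := SplitP1.nonempty_basis_stalk (PicLib.isFinLocFreeOfRank_one hA) x
  obtain ⟨bB⟩ := SplitP1.nonempty_basis_stalk (PicLib.isFinLocFreeOfRank_one hB) x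
  obtain ⟨bJ⟩ := SplitP1.nonempty_basis_stalk (PicLib.isFinLocFreeOfRank_one hJ) x
  let gA : A.presheaf.stalk x →ₗ[R] J.presheaf.stalk x := ((St x).map (biprod.inl ≫ π)).hom
  let gB : B.presheaf.stalk x →ₗ[R] J.presheaf.stalk x := ((St x).map (biprod.inr ≫ π)).hom
  let a := bJ.repr (gA (bA 0)) 0
  let b := bJ.repr (gB (bB 0)) 0
  have hgB : Function.Injective gB := (ModuleCat.mono_iff_injective ((St x).map (biprod.inr ≫ π))).1 inferInstance
  have h00 : ∀ v v', bJ.repr v 0 = bJ.repr v' 0 → v = v' := fun v v' h =>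
    bJ.repr.injective (Finsupp.ext fun i => by rw [Subsingleton.elim i 0]; exact h)
  have hb : b ≠ 0 := fun h0 => bB.ne_zero (0 : Fin 1)
    (hgB ((h00 _ 0 (by rw [bJ.repr.map_zero]; exact h0)).trans gB.map_zero.symm))
  let iA : A.presheaf.stalk x →ₗ[R] (A ⊞ B).presheaf.stalk x := ((St x).map biprod.inl).hom
  let iB : B.presheaf.stalk x →ₗ[R] (A ⊞ B).presheaf.stalk x := ((St x).map biprod.inr).hom
  let pA : (A ⊞ B).presheaf.stalk x →ₗ[R] A.presheaf.stalk x := ((St x).map biprod.fst).hom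
  let pπ : (A ⊞ B).presheaf.stalk x →ₗ[R] J.presheaf.stalk x := ((St x).map π).hom
  let z := b • iA (bA 0) - a • iB (bB 0)
  have hπA : ∀ u, pπ (iA u) = gA u := fun u => by
    show _ = ((St x).map (biprod.inl ≫ π)).hom u
    rw [Functor.map_comp]; rfl
  have hπB : ∀ u, pπ (iB u) = gB u := fun u => by
    show _ = ((St x).map (biprod.inr ≫ π)).hom u
    rw [Functor.map_comp]; rfl
  have hz : pπ z = 0 := by
    simp only [z, map_sub, map_smul, hπA, hπB]
    refine h00 _ _ ?_
    simp only [bJ.repr.map_zero, Finsupp.zero_apply, map_sub, map_smul, Finsupp.sub_apply, Finsupp.smul_apply, smul_eq_mul]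
    exact sub_eq_zero.2 (mul_comm b a)
  have hex : (ShortComplex.mk (kernel.ι π) π (kernel.condition π)).Exact :=
    ShortComplex.exact_of_f_is_kernel _ (kernelIsKernel π)
  obtain ⟨w, hw⟩ := (ShortComplex.moduleCat_exact_iff _).1 (hex.map (St x)) z hz
  refine ⟨w, 0, fun h0 => ?_⟩
  have hz0 : pA z = 0 := by
    rw [← hw, h0]
    exact (congrArg pA (map_zero ((St x).map (kernel.ι π)).hom)).trans (map_zero _)
  have hpA : ∀ u, pA (iA u) = u := fun u => by
    show (((St x).map biprod.inl) ≫ ((St x).map biprod.fst)).hom u = u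
    rw [← Functor.map_comp, biprod.inl_fst, CategoryTheory.Functor.map_id]; rfl
  have hpB : ∀ u, pA (iB u) = 0 := fun u => by
    show (((St x).map biprod.inr) ≫ ((St x).map biprod.fst)).hom u = 0
    rw [← Functor.map_comp, biprod.inr_fst, Functor.map_zero]; rfl
  simp only [z, map_sub, map_smul, hpA, hpB, smul_zero, sub_zero] at hz0
  have := congrArg (fun v => bA.repr v 0) hz0
  simp at this
  exact hb this

/-- Twisting preserves landing in the maximal ideal. -/
theorem stalk_twist_mem {A M : X.Modules} (hA : PicF.IsInvertible A) (hM : PicF.IsInvertible M)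
    (f : A ⟶ Coh.structureModule X) {p : X}
    (h : ∀ w : A.presheaf.stalk p, (St p).map f w ∈ (IsLocalRing.maximalIdeal (X.presheaf.stalk p) •
        (⊤ : Submodule (X.presheaf.stalk p) ((Coh.structureModule X).presheaf.stalk p))))
    (u : (CohB1.tensorMod A M).presheaf.stalk p) :
    (St p).map (tensorMap f (𝟙 M) ≫ (unitTensorIso M).hom) u ∈
      (IsLocalRing.maximalIdeal (X.presheaf.stalk p) • (⊤ : Submodule (X.presheaf.stalk p) (M.presheaf.stalk p))) := by
  obtain ⟨U₁, h₁, a₁, ha₁⟩ := exists_isGen hA p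
  obtain ⟨U₂, h₂, m₁, hm₁⟩ := exists_isGen hM p
  let U := U₁ ⊓ U₂
  have hp : p ∈ U := ⟨h₁, h₂⟩
  have ha := ha₁.restrict (inf_le_left : U ≤ U₁)
  have hm := hm₁.restrict (inf_le_right : U ≤ U₂)
  let a := resM A (inf_le_left : U ≤ U₁) a₁
  let m := resM M (inf_le_right : U ≤ U₂) m₁
  obtain ⟨r, rfl⟩ := (EmbLib24.bijective_smul_germ (isGen_tmul ha hm) hp).2 u
  let φ : (CohB1.tensorMod A M).presheaf.stalk p →ₗ[X.presheaf.stalk p] M.presheaf.stalk p :=
    ((St p).map (tensorMap f (𝟙 M) ≫ (unitTensorIso M).hom)).hom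
  have h1 : φ ((CohB1.tensorMod A M).presheaf.germ U p hp (tmul a m)) =
      X.presheaf.germ U p hp (show Γ(X, U) from f.app U a) • M.presheaf.germ U p hp m := by
    refine (Coherent.stalk_map_germ (tensorMap f (𝟙 M) ≫ (unitTensorIso M).hom) hp _).trans ?_
    show M.presheaf.germ U p hp ((unitTensorIso M).hom.app U ((tensorMap f (𝟙 M)).app U (tmul a m))) = _
    rw [tensorMap_tmul]
    show M.presheaf.germ U p hp ((unitBilin M).desc.app U (tmul (f.app U a) m)) = _
    rw [Bilin.desc_tmul]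
    exact QCohLoc.germ_smul' (M := M) hp _ _
  have h2 : X.presheaf.germ U p hp (show Γ(X, U) from f.app U a) ∈ IsLocalRing.maximalIdeal (X.presheaf.stalk p) := by
    have h3 := h (A.presheaf.germ U p hp a)
    refine (EmbLib24.mem_smul_top_iff _ (EmbLib24.bijective_smul_germ (isGen_oneSec U) hp) _ _).1 ?_
    refine (congrArg (· ∈ _) ?_).mp h3
    refine (Coherent.stalk_map_germ f hp a).trans (Eq.trans ?_ (QCohLoc.germ_smul' (M := Coh.structureModule X) hp _ _))
    exact congrArg ((Coh.structureModule X).presheaf.germ U p hp) (mul_one (show Γ(X, U) from f.app U a)).symm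
  show φ (r • _) ∈ _
  rw [φ.map_smul, h1]
  exact Submodule.smul_mem _ r (Submodule.smul_mem_smul h2 Submodule.mem_top)

/-- Conversely. -/
theorem stalk_untwist_mem {A M : X.Modules} (hA : PicF.IsInvertible A) (hM : PicF.IsInvertible M)
    (f : A ⟶ Coh.structureModule X) {p : X}
    (h : ∀ u : (CohB1.tensorMod A M).presheaf.stalk p, (St p).map (tensorMap f (𝟙 M) ≫ (unitTensorIso M).hom) u ∈
      (IsLocalRing.maximalIdeal (X.presheaf.stalk p) • (⊤ : Submodule (X.presheaf.stalk p) (M.presheaf.stalk p))))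
    (w : A.presheaf.stalk p) : (St p).map f w ∈ (IsLocalRing.maximalIdeal (X.presheaf.stalk p) •
        (⊤ : Submodule (X.presheaf.stalk p) ((Coh.structureModule X).presheaf.stalk p))) := by
  obtain ⟨U₁, h₁, a₁, ha₁⟩ := exists_isGen hA p
  obtain ⟨U₂, h₂, m₁, hm₁⟩ := exists_isGen hM p
  let U := U₁ ⊓ U₂
  have hp : p ∈ U := ⟨h₁, h₂⟩
  have ha := ha₁.restrict (inf_le_left : U ≤ U₁)
  have hm := hm₁.restrict (inf_le_right : U ≤ U₂)
  let a := resM A (inf_le_left : U ≤ U₁) a₁
  let m := resM M (inf_le_right : U ≤ U₂) m₁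
  have h1 := h ((CohB1.tensorMod A M).presheaf.germ U p hp (tmul a m))
  have h2 : X.presheaf.germ U p hp (show Γ(X, U) from f.app U a) ∈ IsLocalRing.maximalIdeal (X.presheaf.stalk p) := by
    refine (EmbLib24.mem_smul_top_iff _ (EmbLib24.bijective_smul_germ hm hp) _ _).1 ?_
    refine (congrArg (· ∈ _) ?_).mp h1
    refine (Coherent.stalk_map_germ (tensorMap f (𝟙 M) ≫ (unitTensorIso M).hom) hp _).trans ?_
    show M.presheaf.germ U p hp ((unitTensorIso M).hom.app U ((tensorMap f (𝟙 M)).app U (tmul a m))) = _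
    rw [tensorMap_tmul]
    show M.presheaf.germ U p hp ((unitBilin M).desc.app U (tmul (f.app U a) m)) = _
    rw [Bilin.desc_tmul]
    exact QCohLoc.germ_smul' (M := M) hp _ _
  obtain ⟨r, rfl⟩ := (EmbLib24.bijective_smul_germ ha hp).2 w
  let φ : A.presheaf.stalk p →ₗ[X.presheaf.stalk p] (Coh.structureModule X).presheaf.stalk p := ((St p).map f).hom
  show φ (r • _) ∈ _
  rw [φ.map_smul]
  refine Submodule.smul_mem _ r ((congrArg (· ∈ _) ?_).mpr
    ((EmbLib24.mem_smul_top_iff _ (EmbLib24.bijective_smul_germ (isGen_oneSec U) hp) _ _).2 h2))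
  refine (Coherent.stalk_map_germ f hp a).trans (Eq.trans ?_ (QCohLoc.germ_smul' (M := Coh.structureModule X) hp _ _))
  exact congrArg ((Coh.structureModule X).presheaf.germ U p hp) (mul_one (show Γ(X, U) from f.app U a)).symm

variable [IsAlgClosed k]

/-- A section vanishing at a given point, as soon as there are two sections. -/
theorem exists_vanishing (hdim : topologicalKrullDim X = 1)
    (hn : ∀ x : X, IsIntegrallyClosed (X.presheaf.stalk x)) {L : X.Modules} (hL : PicF.IsInvertible L)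
    {P : X} (hP : IsClosed ({P} : Set X)) (h : 2 ≤ Module.finrank k (Coh.HH X L 0)) :
    ∃ s : Γ(L, ⊤), s ≠ 0 ∧ P ∉ glocus L s := by
  haveI := EulerLib.isNoetherian_of_proper k (X := X)
  obtain ⟨-, hge⟩ := h0_tensor_ptIdeal k hP hL
  rw [finrank_resField k hP, CurveRR24.finrank_HH_congr k (tensorComm L (ClSub.idealMod (ptIdeal P hP))) 0] at hge
  obtain ⟨z, hz⟩ := exists_ne_zero_of_nontrivial k
    (Module.nontrivial_of_finrank_pos (R := k)
      (M := Coh.HH X (CohB1.tensorMod (ClSub.idealMod (ptIdeal P hP)) L) 0) (by omega))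
  haveI := CurveRR24.mono_twistMul (ptIdeal P hP) hL
  refine ⟨(twistMul (ptIdeal P hP) L).app ⊤ z, fun h0 => hz ?_, fun hmem => ?_⟩
  · exact app_injective_of_mono (twistMul (ptIdeal P hP) L) ⊤ (h0.trans (map_zero _).symm)
  · exact (glocus_twistMul_le (ptIdeal P hP) hL z hmem) ((support_ptIdeal hP).ge rfl)

/-- A section vanishing at two given points, as soon as there are three sections. -/
theorem exists_vanishing₂ (hdim : topologicalKrullDim X = 1)
    (hn : ∀ x : X, IsIntegrallyClosed (X.presheaf.stalk x)) {L : X.Modules} (hL : PicF.IsInvertible L)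
    {P Q : X} (hP : IsClosed ({P} : Set X)) (hQ : IsClosed ({Q} : Set X))
    (h : 3 ≤ Module.finrank k (Coh.HH X L 0)) :
    ∃ s : Γ(L, ⊤), s ≠ 0 ∧ P ∉ glocus L s ∧ Q ∉ glocus L s := by
  haveI := EulerLib.isNoetherian_of_proper k (X := X)
  obtain ⟨-, hge⟩ := h0_tensor_ptIdeal k hQ hL
  rw [finrank_resField k hQ, CurveRR24.finrank_HH_congr k (tensorComm L (ClSub.idealMod (ptIdeal Q hQ))) 0] at hge
  have hL₁ : PicF.IsInvertible (CohB1.tensorMod (ClSub.idealMod (ptIdeal Q hQ)) L) :=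
    AmpleLib.isInvertible_tensorMod (isInvertible_ptIdeal_of_normal k hdim hQ (hn Q)) hL
  obtain ⟨u, hu, huP⟩ := exists_vanishing k hdim hn hL₁ hP (by omega)
  haveI := CurveRR24.mono_twistMul (ptIdeal Q hQ) hL
  refine ⟨(twistMul (ptIdeal Q hQ) L).app ⊤ u, fun h0 => hu ?_, notMem_glocus_map hL₁ hL _ huP, fun hmem => ?_⟩
  · exact app_injective_of_mono (twistMul (ptIdeal Q hQ) L) ⊤ (h0.trans (map_zero _).symm)
  · exact (glocus_twistMul_le (ptIdeal Q hQ) hL u hmem) ((support_ptIdeal hQ).ge rfl)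

variable [Smooth (X ↘ Spec (CommRingCat.of k))] [GeometricallyIntegral (X ↘ Spec (CommRingCat.of k))]

/-- The descent step: equality in degree `2r`, `2 ≤ r`, gives equality in a smaller positive degree. -/
theorem exists_smaller_equality (hdim : topologicalKrullDim X = 1) {L : X.Modules} (hL : PicF.IsInvertible L)
    {a : ℕ} (ha : Module.finrank k (Coh.HH X L 0) = a) (ha3 : 3 ≤ a)
    (hd : Curv2.deg k X L 1 = 2 * (a : ℤ) - 2) (hlt : Curv2.deg k X L 1 < 2 * (Curv2.genus k X : ℤ) - 2) :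
    ∃ M : X.Modules, PicF.IsInvertible M ∧ 2 ≤ Module.finrank k (Coh.HH X M 0) ∧
      Module.finrank k (Coh.HH X M 0) < a ∧
      Curv2.deg k X M 1 = 2 * (Module.finrank k (Coh.HH X M 0) : ℤ) - 2 := by
  haveI := EulerLib.isNoetherian_of_proper k (X := X)
  haveI := LocallyOfFiniteType.jacobsonSpace (X ↘ Spec (CommRingCat.of k))
  have hn : ∀ P : X, IsIntegrallyClosed (X.presheaf.stalk P) := isIntegrallyClosed_stalk_of_smooth k
  let Ω := Omega.sheaf (X ↘ Spec (CommRingCat.of k))
  have hΩ : PicF.IsInvertible Ω := OmegaDual24.isInvertible_omega (k := k) hdim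
  have hdΩ : Curv2.deg k X Ω 1 = 2 * (Curv2.genus k X : ℤ) - 2 := OmegaDual24.deg_omega k hdim (X := X)
  obtain ⟨N, hN, ⟨e⟩⟩ := CurveRR24.exists_inverse k hL
  let L' := CohB1.tensorMod Ω N
  have hL' : PicF.IsInvertible L' := AmpleLib.isInvertible_tensorMod hΩ hN
  have hrr := riemann_roch_omega k hdim hL hN e
  rw [ha, hd] at hrr
  change _ - (Module.finrank k (Coh.HH X L' 0) : ℤ) = _ at hrr
  have hdL' : Curv2.deg k X L' 1 = 2 * (Curv2.genus k X : ℤ) - 2 - (2 * (a : ℤ) - 2) := by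
    rw [deg_tensor k hdim.le hΩ hN, hdΩ]
    have h := deg_tensor k hdim.le hL hN
    rw [deg_congr k e, deg_structure, hd] at h
    omega
  obtain ⟨P, -, hP⟩ := nonempty_inter_closedPoints (X := X) Set.univ_nonempty isClosed_univ.isLocallyClosed
  obtain ⟨t, ht0, htP⟩ := exists_vanishing k hdim hn hL' hP (by omega)
  obtain ⟨Q, hQt, hQ⟩ := nonempty_inter_closedPoints (X := X)
    (Z := (glocus L' t : Set X)) ⟨_, genericPoint_mem_glocus hL' ht0⟩ (glocus L' t).2.isLocallyClosed
  obtain ⟨s, hs0, hsP, hsQ⟩ := exists_vanishing₂ k hdim hn hL hP hQ (by omega)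
  -- maps into `Ω` from `L'` and `L`
  obtain ⟨N', hN', ⟨e'⟩⟩ := CurveRR24.exists_inverse k hL'
  obtain ⟨aL⟩ := exists_assocIso' Ω hN hL
  obtain ⟨a1⟩ := exists_assocIso' L hN hΩ
  let twN : CohB1.tensorMod N Ω ≅ L' := tensorComm _ _
  let back : CohB1.tensorMod N' Ω ≅ L :=
    AmpleLib.tensorIso (Iso.refl N') ((unitTensorIso Ω).symm ≪≫ AmpleLib.tensorIso (e.symm ≪≫ tensorComm L N) (Iso.refl Ω) ≪≫
      tensorComm _ _) ≪≫ (Classical.choice (exists_assocIso' N' (AmpleLib.isInvertible_tensorMod hΩ hN) hL) |> fun w =>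
        AmpleLib.tensorIso (Iso.refl N') ((Classical.choice (exists_assocIso' Ω hN hL)).symm) ≪≫ w.symm) ≪≫
      AmpleLib.tensorIso (tensorComm _ _ ≪≫ e') (Iso.refl L) ≪≫ unitTensorIso L
  let outΩ : CohB1.tensorMod (Coh.structureModule X) Ω ≅ Ω := unitTensorIso Ω
  let α₀ := dualSec e s
  let β₀ := dualSec e' t
  let α : L' ⟶ Ω := twN.inv ≫ tensorMap α₀ (𝟙 Ω) ≫ outΩ.hom
  let β : L ⟶ Ω := back.inv ≫ tensorMap β₀ (𝟙 Ω) ≫ outΩ.hom
  have hα : α ≠ 0 := fun h0 => dualSec_ne_zero hL hN e hs0 (SerreDual.tensorRightHom_injective k _ _ hΩ (by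
    rw [map_zero, ← cancel_epi twN.inv, ← cancel_mono outΩ.hom, Limits.comp_zero, Limits.zero_comp, Category.assoc]
    exact h0))
  let φ : L' ⊞ L ⟶ Ω := biprod.desc α β
  let J := Abelian.image φ
  let ι : J ⟶ Ω := Abelian.image.ι φ
  let π : L' ⊞ L ⟶ J := Abelian.factorThruImage φ
  have hπι : π ≫ ι = φ := Abelian.image.fac φ
  have hLc := CurveRR24.isCoh_of_isInvertible k hL
  have hL'c := CurveRR24.isCoh_of_isInvertible k hL'
  have hΩc := CurveRR24.isCoh_of_isInvertible k hΩ
  have hSc := isCoh_biprod hL'c hLc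
  have hJc : Coh.IsCoh J := by
    haveI := hSc.1
    haveI := hΩc.1
    exact isCoh_of_mono ι hΩc (isQCoh_image φ)
  let α' : L' ⟶ J := biprod.inl ≫ π
  have hα' : α' ≫ ι = α := by
    show (biprod.inl ≫ π) ≫ ι = α
    rw [Category.assoc, hπι, biprod.inl_desc]
  let β' : L ⟶ J := biprod.inr ≫ π
  have hβ' : β' ≫ ι = β := by
    show (biprod.inr ≫ π) ≫ ι = β
    rw [Category.assoc, hπι, biprod.inr_desc]
  haveI : Mono α := mono_of_ne_zero k hL' hΩ α hα
  have hβ : β ≠ 0 := fun h0 => dualSec_ne_zero hL' hN' e' ht0 (SerreDual.tensorRightHom_injective k _ _ hΩ (by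
    rw [map_zero, ← cancel_epi back.inv, ← cancel_mono outΩ.hom, Limits.comp_zero, Limits.zero_comp, Category.assoc]
    exact h0))
  haveI : Mono β := mono_of_ne_zero k hL hΩ β hβ
  haveI : Mono α' := mono_of_mono_fac hα'
  have hJne : ∀ x : X, Nontrivial (J.presheaf.stalk x) := fun x => by
    obtain ⟨b⟩ := SplitP1.nonempty_basis_stalk (PicLib.isFinLocFreeOfRank_one hL') x
    haveI : Nontrivial (L'.presheaf.stalk x) := ⟨⟨b 0, 0, b.ne_zero 0⟩⟩
    let ψ : L'.presheaf.stalk x →ₗ[X.presheaf.stalk x] J.presheaf.stalk x := ((St x).map α').hom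
    exact Function.Injective.nontrivial (f := ψ)
      ((ModuleCat.mono_iff_injective ((St x).map α')).1 inferInstance)
  have hJ : PicF.IsInvertible J := isInvertible_of_mono' k hdim.le hn hΩ hJc ι hJne
  -- stalk behaviour
  have hm : ∀ {A : X.Modules} {p : X} (f : A ⟶ Coh.structureModule X), PicF.IsInvertible A →
      (∀ w : A.presheaf.stalk p, (St p).map f w ∈ (IsLocalRing.maximalIdeal (X.presheaf.stalk p) •
        (⊤ : Submodule (X.presheaf.stalk p) ((Coh.structureModule X).presheaf.stalk p)))) →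
      ∀ u : (CohB1.tensorMod A Ω).presheaf.stalk p, (St p).map (tensorMap f (𝟙 Ω) ≫ outΩ.hom) u ∈
        (IsLocalRing.maximalIdeal (X.presheaf.stalk p) •
          (⊤ : Submodule (X.presheaf.stalk p) (Ω.presheaf.stalk p))) := fun f hA h => stalk_twist_mem hA hΩ f h
  have hmem : ∀ {p : X} {A B : X.Modules} (i : A ⟶ B) (f : B ⟶ Ω) (u : A.presheaf.stalk p),
      (St p).map (i ≫ f) u = (St p).map f ((St p).map i u) := fun i f u => by
    rw [Functor.map_comp]; rfl
  have hαP : ∀ u : L'.presheaf.stalk P, (St P).map α u ∈ (IsLocalRing.maximalIdeal (X.presheaf.stalk P) •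
      (⊤ : Submodule (X.presheaf.stalk P) (Ω.presheaf.stalk P))) := fun u => by
    rw [hmem twN.inv (tensorMap α₀ (𝟙 Ω) ≫ outΩ.hom) u]
    exact hm α₀ hN ((dualSec_stalk hL hN e s P).1 hsP) _
  have hαQ : ∀ u : L'.presheaf.stalk Q, (St Q).map α u ∈ (IsLocalRing.maximalIdeal (X.presheaf.stalk Q) •
      (⊤ : Submodule (X.presheaf.stalk Q) (Ω.presheaf.stalk Q))) := fun u => by
    rw [hmem twN.inv (tensorMap α₀ (𝟙 Ω) ≫ outΩ.hom) u]
    exact hm α₀ hN ((dualSec_stalk hL hN e s Q).1 hsQ) _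
  have hβP : ∀ u : L.presheaf.stalk P, (St P).map β u ∈ (IsLocalRing.maximalIdeal (X.presheaf.stalk P) •
      (⊤ : Submodule (X.presheaf.stalk P) (Ω.presheaf.stalk P))) := fun u => by
    rw [hmem back.inv (tensorMap β₀ (𝟙 Ω) ≫ outΩ.hom) u]
    exact hm β₀ hN' ((dualSec_stalk hL' hN' e' t P).1 htP) _
  have hβQ : ¬ ∀ u : L.presheaf.stalk Q, (St Q).map β u ∈ (IsLocalRing.maximalIdeal (X.presheaf.stalk Q) •
      (⊤ : Submodule (X.presheaf.stalk Q) (Ω.presheaf.stalk Q))) := fun h => by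
    refine ((dualSec_stalk hL' hN' e' t Q).2 (stalk_untwist_mem hN' hΩ β₀ fun u => ?_)) hQt
    obtain ⟨u, rfl⟩ : ∃ u', (St Q).map back.inv u' = u := ⟨(St Q).map back.hom u, by
      rw [← ConcreteCategory.comp_apply, ← Functor.map_comp, back.hom_inv_id, CategoryTheory.Functor.map_id]
      rfl⟩
    rw [← hmem back.inv (tensorMap β₀ (𝟙 Ω) ≫ outΩ.hom) u]
    exact h u
  have htop : ∀ p : X, (IsLocalRing.maximalIdeal (X.presheaf.stalk p) •
      (⊤ : Submodule (X.presheaf.stalk p) (Ω.presheaf.stalk p))) ≠ ⊤ := fun p h => by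
    obtain ⟨U, hpU, g, hg⟩ := exists_isGen hΩ p
    have hb := EmbLib24.bijective_smul_germ hg hpU
    have h1 := (EmbLib24.mem_smul_top_iff _ hb (IsLocalRing.maximalIdeal (X.presheaf.stalk p)) 1).1
      (by rw [h]; exact Submodule.mem_top)
    exact (IsLocalRing.mem_maximalIdeal _).1 h1 isUnit_one
  have hιP : ¬ IsIso ι := fun hi => by
    haveI := hi
    haveI : Epi φ := by rw [← hπι]; infer_instance
    refine htop P (eq_top_iff.2 fun z _ => ?_)
    obtain ⟨w, rfl⟩ := (ModuleCat.epi_iff_surjective ((St P).map φ)).1 inferInstance z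
    have hw : w = (St P).map (biprod.inl : L' ⟶ L' ⊞ L) ((St P).map (biprod.fst : L' ⊞ L ⟶ L') w) +
        (St P).map (biprod.inr : L ⟶ L' ⊞ L) ((St P).map (biprod.snd : L' ⊞ L ⟶ L) w) := by
      have h1 := congrArg (fun ψ : L' ⊞ L ⟶ L' ⊞ L => (St P).map ψ w) (biprod.total (X := L') (Y := L))
      beta_reduce at h1
      rw [Functor.map_add, Functor.map_comp, Functor.map_comp, CategoryTheory.Functor.map_id] at h1
      exact h1.symm
    rw [hw, map_add, ← hmem biprod.inl φ, ← hmem biprod.inr φ, biprod.inl_desc, biprod.inr_desc]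
    exact Submodule.add_mem _ (hαP _) (hβP _)
  have hα'i : ¬ IsIso α' := fun hi => by
    haveI := hi
    refine hβQ fun u => ?_
    have hfac : β = (β' ≫ inv α') ≫ α := by
      rw [← hα', Category.assoc, IsIso.inv_hom_id_assoc, hβ']
    rw [hfac, hmem (β' ≫ inv α') α u]
    exact hαQ _
  have hι0 : ι ≠ 0 := fun h0 => hα (by rw [← hα', h0, Limits.comp_zero])
  have hα'0 : α' ≠ 0 := fun h0 => hα (by rw [← hα', h0, Limits.zero_comp])
  have hjΩ := deg_lt_of_hom k hdim hJ hΩ ι hι0 hιP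
  have hjL := deg_lt_of_hom k hdim hL' hJ α' hα'0 hα'i
  rw [hdΩ] at hjΩ
  rw [hdL'] at hjL
  have hK : Coh.IsCoh (kernel π) := isCoh_kernel π hSc hJc.1
  have hS : (ShortComplex.mk (kernel.ι π) π (kernel.condition π)).ShortExact :=
    { exact := ShortComplex.exact_of_f_is_kernel _ (kernelIsKernel π) }
  have hKi : PicF.IsInvertible (kernel π) := isInvertible_kernel k hdim.le hn hL' hL hJ hSc hJc π (mono_of_mono_fac (show β' ≫ ι = β from hβ'))
  have hsum := le_trans (h0_add_le_biprod k hL'c hLc) (h0_le_kernel_add k hSc hJc π)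
  have hchi := euler_additive k X _ hS hK hSc hJc
  change Curv2.euler k X (L' ⊞ L) = Curv2.euler k X (kernel π) + Curv2.euler k X J at hchi
  rw [euler_biprod k hL'c hLc] at hchi
  obtain ⟨M, hM, ⟨eM⟩⟩ := CurveRR24.exists_inverse k hJ
  have hM2 : PicF.IsInvertible (CohB1.tensorMod Ω M) := AmpleLib.isInvertible_tensorMod hΩ hM
  have hrrJ := riemann_roch_omega k hdim hJ hM eM
  change _ - (Module.finrank k (Coh.HH X (CohB1.tensorMod Ω M) 0) : ℤ) = _ at hrrJ
  have hdM : Curv2.deg k X (CohB1.tensorMod Ω M) 1 = 2 * (Curv2.genus k X : ℤ) - 2 - Curv2.deg k X J 1 := by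
    rw [deg_tensor k hdim.le hΩ hM, hdΩ]
    have h := deg_tensor k hdim.le hJ hM
    rw [deg_congr k eM, deg_structure] at h
    omega
  have hJpos : 0 < Module.finrank k (Coh.HH X J 0) := by
    obtain ⟨z, hz⟩ := exists_ne_zero_of_nontrivial k
      (Module.nontrivial_of_finrank_pos (R := k) (M := Coh.HH X L' 0) (by omega))
    haveI := CurveRR24.finite_HH_of_isCoh k hJc 0
    haveI : Nontrivial (Coh.HH X J 0) := by
      haveI : Nontrivial (GA (baseHom k X) J) :=
        ⟨⟨α'.app ⊤ z, 0, fun h0 => hz (app_injective_of_mono α' ⊤ (h0.trans (map_zero _).symm))⟩⟩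
      exact (hhZero k J).toEquiv.nontrivial
    exact Module.finrank_pos
  obtain ⟨hfin, hhom⟩ := hom_equiv_h0 k hJ hΩ hM eM
  haveI := hfin
  have hMpos : 0 < Module.finrank k (Coh.HH X (CohB1.tensorMod Ω M) 0) := by
    rw [← hhom]; exact Module.finrank_pos_iff_exists_ne_zero.2 ⟨ι, hι0⟩
  have hcJ := clifford k hdim hJ hM eM (Module.nontrivial_of_finrank_pos (R := k) hJpos)
    (Module.nontrivial_of_finrank_pos (R := k) hMpos)
  have hKle : 2 * (Module.finrank k (Coh.HH X (kernel π) 0) : ℤ) ≤ Curv2.deg k X (kernel π) 1 + 2 := by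
    have hdK : Curv2.deg k X (kernel π) 1 = 2 * (Curv2.genus k X : ℤ) - 2 - Curv2.deg k X J 1 := by
      have h1 : Curv2.deg k X L 1 + Curv2.deg k X L' 1 = 2 * (Curv2.genus k X : ℤ) - 2 := by omega
      simp only [Curv2.deg, Nat.cast_one, one_mul] at h1 ⊢
      omega
    by_cases hz : Module.finrank k (Coh.HH X (kernel π) 0) = 0
    · rw [hz, hdK]; push_cast; omega
    · rcases nonspecial_or_clifford k hdim hKi (Module.nontrivial_of_finrank_pos (R := k) (Nat.pos_of_ne_zero hz)) with h | h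
      · rw [hdK] at h ⊢; omega
      · exact h
  rw [ha] at hsum
  refine ⟨CohB1.tensorMod Ω M, hM2, ?_⟩
  simp only [Curv2.deg, Nat.cast_one, one_mul] at hd hlt hdL' hdM hjΩ hjL hrrJ hcJ hKle hrr ⊢
  omega

end Groth.Agent.Clifford24
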