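import Groth.Agent.Clifford24.Equality

/-!
# Equality in Clifford's theorem: hyperelliptic curves
-/

set_option autoImplicit false
set_option linter.style.haveILetI false
set_option linter.unusedSectionVars false
set_option backward.isDefEq.respectTransparency.types false

universe u

open CategoryTheory CategoryTheory.Limits AlgebraicGeometry Opposite TopologicalSpace
open Groth.Agent.Coherent Groth.Agent.PicLib Groth.Agent.AmpleLib Groth.Agent.EulerLib Groth.Agent.CurveRR24

namespace Groth.Agent.Clifford24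

variable {X : Scheme.{u}} (k : Type u) [Field k] [IsAlgClosed k] [X.Over (Spec (CommRingCat.of k))]
  [IsProper (X ↘ Spec (CommRingCat.of k))] [IsIntegral X] [Smooth (X ↘ Spec (CommRingCat.of k))]
  [GeometricallyIntegral (X ↘ Spec (CommRingCat.of k))]

theorem exists_g12_of_equality (hdim : topologicalKrullDim X = 1) : ∀ (a : ℕ) {L : X.Modules},
    PicF.IsInvertible L → Module.finrank k (Coh.HH X L 0) = a → 2 ≤ a →
    Curv2.deg k X L 1 = 2 * (a : ℤ) - 2 → Curv2.deg k X L 1 < 2 * (Curv2.genus k X : ℤ) - 2 →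
    ∃ M : X.Modules, PicF.IsInvertible M ∧ Curv2.deg k X M 1 = 2 ∧ 2 ≤ Module.finrank k (Coh.HH X M 0) := by
  intro a
  induction a using Nat.strong_induction_on with
  | _ a ih =>
    intro L hL ha ha2 hd hlt
    by_cases h3 : 3 ≤ a
    · obtain ⟨M, hM, hM2, hMa, hdM⟩ := exists_smaller_equality k hdim hL ha h3 hd hlt
      exact ih _ hMa hM rfl hM2 hdM (by rw [hdM]; rw [hd] at hlt; omega)
    · exact ⟨L, hL, by omega, by omega⟩

/-- An effective special module in equality is a multiple of the `g¹₂`. -/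
theorem equality (hdim : topologicalKrullDim X = 1) {L N : X.Modules} (hL : PicF.IsInvertible L)
    (hN : PicF.IsInvertible N) (e : CohB1.tensorMod L N ≅ Coh.structureModule X)
    (hs : Nontrivial (Coh.HH X L 0))
    (hsp : Nontrivial (Coh.HH X (CohB1.tensorMod (Omega.sheaf (X ↘ Spec (CommRingCat.of k))) N) 0))
    (h0 : IsEmpty (L ≅ Coh.structureModule X)) (hK : IsEmpty (L ≅ Omega.sheaf (X ↘ Spec (CommRingCat.of k))))
    (heq : 2 * (Module.finrank k (Coh.HH X L 0) : ℤ) = Curv2.deg k X L 1 + 2) :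
    ∃ M : X.Modules, PicF.IsInvertible M ∧ Curv2.deg k X M 1 = 2 ∧ 2 ≤ Module.finrank k (Coh.HH X M 0) ∧
      Nonempty (L ≅ CohB1.tensorPow M (Module.finrank k (Coh.HH X L 0) - 1)) := by
  haveI := EulerLib.isNoetherian_of_proper k (X := X)
  let Ω := Omega.sheaf (X ↘ Spec (CommRingCat.of k))
  have hΩ : PicF.IsInvertible Ω := OmegaDual24.isInvertible_omega (k := k) hdim
  have hn : ∀ P : X, IsIntegrallyClosed (X.presheaf.stalk P) := isIntegrallyClosed_stalk_of_smooth k
  obtain ⟨hd0, hd0', -⟩ := deg_nonneg_of_section k hdim.le hL hs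
  have hdpos : 0 < Curv2.deg k X L 1 := lt_of_le_of_ne hd0 fun h => h0.elim (hd0' h.symm).some
  obtain ⟨hdT, -, -⟩ := deg_nonneg_of_section k hdim.le (AmpleLib.isInvertible_tensorMod hΩ hN) hsp
  have hdΩ : Curv2.deg k X Ω 1 = 2 * (Curv2.genus k X : ℤ) - 2 := OmegaDual24.deg_omega k hdim (X := X)
  rw [deg_tensor k hdim.le hΩ hN, hdΩ] at hdT
  have hLN := deg_tensor k hdim.le hL hN
  rw [deg_congr k e, deg_structure] at hLN
  have hle : Curv2.deg k X L 1 ≤ 2 * (Curv2.genus k X : ℤ) - 2 := by omega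
  have hlt : Curv2.deg k X L 1 < 2 * (Curv2.genus k X : ℤ) - 2 := lt_of_le_of_ne hle fun h =>
    hK.elim (nonempty_iso_omega_of_deg k hdim hL h (by omega)).some
  obtain ⟨M, hM, hdM, h2⟩ := exists_g12_of_equality k hdim _ hL rfl (by omega) (by omega) hlt
  refine ⟨M, hM, hdM, h2, ?_⟩
  let r := Module.finrank k (Coh.HH X L 0) - 1
  let n := Curv2.genus k X - 1 - r
  have hr := AmpleLib.isInvertible_tensorPow hM r
  have hp := AmpleLib.isInvertible_tensorPow hM n
  have hn0 := h0_tensorPow k hdim hM hdM h2 n (by omega)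
  have hr0 := h0_tensorPow k hdim hM hdM h2 r (by omega)
  have key : ∀ {A : X.Modules}, PicF.IsInvertible A → Curv2.deg k X A 1 = Curv2.deg k X L 1 →
      Module.finrank k (Coh.HH X A 0) = r + 1 →
      Nonempty (CohB1.tensorMod (CohB1.tensorPow M n) A ≅ Ω) := by
    intro A hA hdA hA0
    refine nonempty_iso_omega_of_deg k hdim (AmpleLib.isInvertible_tensorMod hp hA) ?_ ?_
    · rw [deg_tensor k hdim.le hp hA, deg_tensorPow k hdim.le hM, hdM, hdA]; omega
    · have h := h0_add_h0_le k hdim (fun P _ => hn P) hp hA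
        (Module.nontrivial_of_finrank_pos (R := k) (by omega))
        (Module.nontrivial_of_finrank_pos (R := k) (by omega))
      omega
  obtain ⟨e1⟩ := key hL rfl (by omega)
  obtain ⟨e2⟩ := key hr (by rw [deg_tensorPow k hdim.le hM, hdM]; omega) hr0
  exact nonempty_iso_of_tensor_iso k hp hL hr (e1 ≪≫ e2.symm)

end Groth.Agent.Clifford24
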