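import Groth.Agent.CAlgSmall.ValExtend
import Groth.Agent.NeronLib.Glue
import Mathlib

/-! A rational map is defined at a point iff it is defined on the spectrum of the local ring. -/

set_option autoImplicit false
set_option backward.isDefEq.respectTransparency.types false
universe u
open CategoryTheory CategoryTheory.Limits AlgebraicGeometry TopologicalSpace

namespace Groth.Agent.Clifford24.ExtStalk

variable {X : Scheme.{u}}

theorem exists_gen_of_closure [IsLocallyNoetherian X] {Ω : X.Opens} {F : Set X} (hF : IsClosed F)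
    {x : X} (hx : x ∈ closure (F ∩ (Ω : Set X))) : ∃ g, g ⤳ x ∧ g ∈ F ∧ g ∈ Ω := by
  obtain ⟨A, hA, hxA, -⟩ := exists_isAffineOpen_mem_and_subset (x := x) (U := ⊤) trivial
  haveI : IsNoetherianRing Γ(X, A) := IsLocallyNoetherian.component_noetherian ⟨A, hA⟩
  haveI : IsAffine (A : Scheme.{u}) := hA
  obtain ⟨T, hTfin, hTc, hTi, hT⟩ := @NoetherianSpace.exists_finite_set_isClosed_irreducible _ _
    (noetherianSpace_of_isAffineOpen A hA) _
    (hF.preimage (continuous_subtype_val : Continuous (Subtype.val : A → X)))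
  have hx' : x ∈ closure (⋃ Z ∈ T, (Subtype.val : A → X) '' Z ∩ (Ω : Set X)) := by
    have h1 : x ∈ closure ((A : Set X) ∩ (F ∩ (Ω : Set X))) :=
      A.isOpen.inter_closure ⟨hxA, hx⟩
    refine closure_mono ?_ h1
    rintro p ⟨hpA, hpF, hpΩ⟩
    have : (⟨p, hpA⟩ : A) ∈ ⋃₀ T := hT ▸ hpF
    obtain ⟨Z, hZ, hpZ⟩ := this
    exact Set.mem_biUnion hZ ⟨⟨_, hpZ, rfl⟩, hpΩ⟩
  rw [hTfin.closure_biUnion] at hx'
  obtain ⟨Z, hZ, hxZ⟩ := Set.mem_iUnion₂.mp hx'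
  have hirr : IsIrreducible ((Subtype.val : A → X) '' Z) :=
    (hTi Z hZ).image _ continuous_subtype_val.continuousOn
  obtain ⟨g, hg⟩ := QuasiSober.sober hirr.closure isClosed_closure
  obtain ⟨q, hqZ, hqΩ⟩ := closure_nonempty_iff.mp ⟨x, hxZ⟩
  refine ⟨g, hg.specializes (closure_mono Set.inter_subset_left hxZ), ?_,
    (hg.specializes (subset_closure hqZ)).mem_open Ω.isOpen hqΩ⟩
  refine closure_minimal ?_ hF hg.mem
  rintro _ ⟨p, hp, rfl⟩
  have : p ∈ ⋃₀ T := Set.mem_sUnion_of_mem hp hZ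
  rw [← hT] at this
  exact this

omit X in
theorem eq_of_local {Z Ω Y : Scheme.{u}} (c : Z ⟶ Ω) (a b : Ω ⟶ Y)
    (h : ∀ r : Z, ∃ G : Ω.Opens, c r ∈ G ∧ G.ι ≫ a = G.ι ≫ b) : c ≫ a = c ≫ b := by
  choose G hrG hG using h
  refine Scheme.Cover.hom_ext (Z.openCoverOfIsOpenCover (fun r : Z => c ⁻¹ᵁ G r) ?_) _ _ fun r => ?_
  · rw [TopologicalSpace.IsOpenCover, eq_top_iff]
    intro r _
    exact TopologicalSpace.Opens.mem_iSup.mpr ⟨r, hrG r⟩
  · simp only [Scheme.openCoverOfIsOpenCover_f]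
    exact (morphismRestrict_ι_assoc c (G r) a).symm.trans ((congrArg _ (hG r)).trans (morphismRestrict_ι_assoc c (G r) b))

variable {Y S : Scheme.{u}} (pX : X ⟶ S) (pY : Y ⟶ S) [IsSeparated pY] [LocallyOfFiniteType pY]

theorem germInjective_of_hyp
    (hX : IsLocallyNoetherian X ∨ (IsReduced X ∧ ∀ x : ↥X, ∃ W : X.Opens, x ∈ W ∧
      {Z : Set ↥X | Z ∈ irreducibleComponents ↥X ∧ (Z ∩ (W : Set ↥X)).Nonempty}.Finite))
    (p : X) : X.IsGermInjectiveAt p := by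
  rcases hX with hN | ⟨hR, hfin⟩
  · infer_instance
  · obtain ⟨W, hpW, hW⟩ := hfin p
    haveI : IsReduced (W : Scheme.{u}) := isReduced_of_isOpenImmersion W.ι
    have hfinW : (irreducibleComponents ↥(W : Scheme.{u})).Finite := by
      refine Set.Finite.of_finite_image (f := fun Z => closure (W.ι.base '' Z)) (hW.subset ?_) ?_
      · rintro _ ⟨Z, hZ, rfl⟩
        obtain ⟨z, hz⟩ := hZ.1.nonempty
        refine ⟨?_, W.ι z, subset_closure ⟨z, hz, rfl⟩, z.2⟩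
        refine ⟨(hZ.1.image _ W.ι.continuous.continuousOn).closure, fun C hC hle => ?_⟩
        have hne : (C ∩ (W : Set X)).Nonempty := ⟨W.ι z, hle (subset_closure ⟨z, hz, rfl⟩), z.2⟩
        have hpre : IsIrreducible (W.ι.base ⁻¹' C) :=
          ⟨hne.elim fun q hq => ⟨⟨q, hq.2⟩, hq.1⟩,
            hC.2.preimage W.ι.isOpenEmbedding⟩
        have hle' : Z ⊆ W.ι.base ⁻¹' C := fun q hq => hle (subset_closure ⟨q, hq, rfl⟩)
        have heq := hZ.2 hpre hle'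
        intro q hq
        have hq' : q ∈ closure (C ∩ (W : Set X)) :=
          subset_closure_inter_of_isPreirreducible_of_isOpen hC.2 W.isOpen hne hq
        refine closure_mono ?_ hq'
        rintro r ⟨hrC, hrW⟩
        exact ⟨⟨r, hrW⟩, heq hrC, rfl⟩
      · intro Z hZ Z' hZ' e
        have h1 : ∀ C ∈ irreducibleComponents ↥(W : Scheme.{u}),
            W.ι.base ⁻¹' closure (W.ι.base '' C) = C := fun C hC => by
          rw [W.ι.isOpenEmbedding.isOpenMap.preimage_closure_eq_closure_preimage W.ι.continuous,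
            Set.preimage_image_eq _ W.ι.isOpenEmbedding.injective,
            (isClosed_of_mem_irreducibleComponents C hC).closure_eq]
        rw [← h1 Z hZ, ← h1 Z' hZ']
        exact congrArg _ e
    haveI := Groth.Agent.CAlgSmall.ValExtend.germInjective_of_reduced (X := (W : Scheme.{u})) ⟨p, hpW⟩ hfinW
    exact inferInstanceAs (X.IsGermInjectiveAt (W.ι ⟨p, hpW⟩))

theorem iff_specStalk
    (hX : IsLocallyNoetherian X ∨ (IsReduced X ∧ ∀ x : ↥X, ∃ W : X.Opens, x ∈ W ∧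
      {Z : Set ↥X | Z ∈ irreducibleComponents ↥X ∧ (Z ∩ (W : Set ↥X)).Nonempty}.Finite))
    (U : X.Opens) (h : (U : Scheme.{u}) ⟶ Y) (hh : h ≫ pY = U.ι ≫ pX) (x : ↥X) :
    (∃ (V : X.Opens) (v : (V : Scheme.{u}) ⟶ Y), x ∈ V ∧ v ≫ pY = V.ι ≫ pX ∧
        X.homOfLE (inf_le_right : U ⊓ V ≤ V) ≫ v = X.homOfLE (inf_le_left : U ⊓ V ≤ U) ≫ h) ↔
      ∃ w : Spec (X.presheaf.stalk x) ⟶ Y, w ≫ pY = X.fromSpecStalk x ≫ pX ∧
        pullback.fst (X.fromSpecStalk x) U.ι ≫ w = pullback.snd (X.fromSpecStalk x) U.ι ≫ h := by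
  classical
  constructor
  · rintro ⟨V, v, hxV, hv, hag⟩
    refine ⟨V.fromSpecStalkOfMem x hxV ≫ v, by rw [Category.assoc, hv, Scheme.Opens.fromSpecStalkOfMem_ι_assoc], ?_⟩
    have hag' : NeronLib.Agree h v := NeronLib.agree_of_homOfLE h v hag.symm
    rw [← Category.assoc]
    exact (hag' _ (pullback.snd (X.fromSpecStalk x) U.ι)
      (pullback.fst (X.fromSpecStalk x) U.ι ≫ V.fromSpecStalkOfMem x hxV) (by
        rw [Category.assoc, Scheme.Opens.fromSpecStalkOfMem_ι, pullback.condition])).symm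
  rintro ⟨w, hw, hwU⟩
  haveI := germInjective_of_hyp hX
  obtain ⟨V₀, hxV₀, v₀, hwv, hv₀⟩ := spread_out_of_isGermInjective' pX pY w hw
  -- the two morphisms on the intersection
  let Ω := U ⊓ V₀
  let a : (Ω : Scheme.{u}) ⟶ Y := X.homOfLE inf_le_right ≫ v₀
  let b : (Ω : Scheme.{u}) ⟶ Y := X.homOfLE inf_le_left ≫ h
  have hab : a ≫ pY = b ≫ pY := by
    simp only [a, b, Category.assoc, hv₀, hh, Scheme.homOfLE_ι_assoc]
  have hgen : ∀ p : (Ω : Scheme.{u}), Ω.ι p ⤳ x →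
      ∃ G : (Ω : Scheme.{u}).Opens, p ∈ G ∧ G.ι ≫ a = G.ι ≫ b := by
    intro p hp
    haveI : (Ω : Scheme.{u}).IsGermInjectiveAt p :=
      (isGermInjectiveAt_iff_of_isOpenImmersion (f := Ω.ι) (x := p)).mp inferInstance
    refine spread_out_unique_of_isGermInjective' a b ?_
    have hr : Set.range (((Ω : Scheme.{u}).fromSpecStalk p) ≫ Ω.ι).base ⊆
        Set.range (X.fromSpecStalk x).base := by
      rintro _ ⟨q, rfl⟩
      rw [X.range_fromSpecStalk]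
      have hq : (Ω : Scheme.{u}).fromSpecStalk p q ⤳ p :=
        (Scheme.range_fromSpecStalk (X := (Ω : Scheme.{u})) (x := p)).subset ⟨q, rfl⟩
      exact (hq.map Ω.ι.continuous).trans hp
    let c : Spec ((Ω : Scheme.{u}).presheaf.stalk p) ⟶ Spec (X.presheaf.stalk x) :=
      Spec.map (X.presheaf.stalkSpecializes hp ≫ Ω.ι.stalkMap p)
    have hc : c ≫ X.fromSpecStalk x = (Ω : Scheme.{u}).fromSpecStalk p ≫ Ω.ι := by
      simp only [c, Spec.map_comp, Category.assoc]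
      rw [Scheme.SpecMap_stalkSpecializes_fromSpecStalk, Scheme.SpecMap_stalkMap_fromSpecStalk]
    let d := pullback.lift (f := X.fromSpecStalk x) (g := U.ι) c
      ((Ω : Scheme.{u}).fromSpecStalk p ≫ X.homOfLE inf_le_left)
      (by rw [hc, Category.assoc, Scheme.homOfLE_ι])
    have e1 : (Ω : Scheme.{u}).fromSpecStalk p ≫ b = d ≫ pullback.snd _ _ ≫ h := by
      rw [← Category.assoc d, pullback.lift_snd, Category.assoc]
    have e2 : c ≫ V₀.fromSpecStalkOfMem x hxV₀ = (Ω : Scheme.{u}).fromSpecStalk p ≫ X.homOfLE inf_le_right := by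
      rw [← cancel_mono V₀.ι, Category.assoc, Scheme.Opens.fromSpecStalkOfMem_ι, hc, Category.assoc,
        Scheme.homOfLE_ι]
    rw [e1, ← hwU, ← Category.assoc d, pullback.lift_fst, hwv, ← Category.assoc c, e2, Category.assoc]
  let Gs : Set X := {q | ∃ (G : (Ω : Scheme.{u}).Opens) (p : (Ω : Scheme.{u})), p ∈ G ∧
    G.ι ≫ a = G.ι ≫ b ∧ Ω.ι p = q}
  have hGs : IsOpen Gs := by
    rw [isOpen_iff_forall_mem_open]
    rintro q ⟨G, p, hpG, hG, rfl⟩
    refine ⟨Ω.ι '' (G : Set _), ?_, Ω.ι.isOpenEmbedding.isOpenMap _ G.isOpen, ⟨p, hpG, rfl⟩⟩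
    rintro _ ⟨r, hr, rfl⟩
    exact ⟨G, r, hr, hG, rfl⟩
  have hgenX : ∀ q : X, q ⤳ x → q ∈ Ω → q ∈ Gs := fun q hq hqΩ => by
    obtain ⟨G, hpG, hG⟩ := hgen ⟨q, hqΩ⟩ hq
    exact ⟨G, ⟨q, hqΩ⟩, hpG, hG, rfl⟩
  -- it suffices to find a neighbourhood of `x` in `V₀` with `a = b` on it
  suffices H : ∃ W : X.Opens, x ∈ W ∧ W ≤ V₀ ∧ (Ω.ι ⁻¹ᵁ W).ι ≫ a = (Ω.ι ⁻¹ᵁ W).ι ≫ b by
    obtain ⟨W, hxW, hWV, hWab⟩ := H
    refine ⟨W, X.homOfLE hWV ≫ v₀, hxW, by rw [Category.assoc, hv₀, Scheme.homOfLE_ι_assoc], ?_⟩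
    let e : ((U ⊓ W : X.Opens) : Scheme.{u}) ⟶ ((Ω.ι ⁻¹ᵁ W : _) : Scheme.{u}) :=
      IsOpenImmersion.lift ((Ω.ι ⁻¹ᵁ W).ι) (X.homOfLE (le_inf inf_le_left (inf_le_right.trans hWV))) (by
        rintro _ ⟨q, rfl⟩
        rw [Scheme.Opens.range_ι]
        show Ω.ι (X.homOfLE _ q) ∈ W
        rw [← Scheme.Hom.comp_apply, Scheme.homOfLE_ι]
        exact q.2.2)
    have he : e ≫ (Ω.ι ⁻¹ᵁ W).ι = X.homOfLE (le_inf inf_le_left (inf_le_right.trans hWV)) :=
      IsOpenImmersion.lift_fac _ _ _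
    have := congrArg (e ≫ ·) hWab
    simp only [← Category.assoc, he] at this
    simp only [a, b, ← Category.assoc, Scheme.homOfLE_homOfLE] at this ⊢
    exact this
  rcases hX with hN | ⟨hR, hfin⟩
  · have hx : x ∉ closure (Gsᶜ ∩ (Ω : Set X)) := fun hx => by
      obtain ⟨g, hgx, hgG, hgΩ⟩ := exists_gen_of_closure hGs.isClosed_compl hx
      exact hgG (hgenX g hgx hgΩ)
    refine ⟨V₀ ⊓ ⟨_, isClosed_closure.isOpen_compl⟩, ⟨hxV₀, hx⟩, inf_le_left, ?_⟩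
    refine eq_of_local _ a b fun r => ?_
    have hq : Ω.ι r.1 ∈ Gs := by
      by_contra hn
      exact r.2.2 (subset_closure ⟨hn, r.1.2⟩)
    obtain ⟨G, p, hpG, hG, hp⟩ := hq
    obtain rfl := Ω.ι.isOpenEmbedding.injective hp
    exact ⟨G, hpG, hG⟩
  · obtain ⟨W₁, hxW₁, hW₁⟩ := hfin x
    let T : Set X := ⋃ Z ∈ {Z | (Z ∈ irreducibleComponents ↥X ∧ (Z ∩ (W₁ : Set X)).Nonempty) ∧ x ∉ Z}, Z
    have hT : IsClosed T := (hW₁.subset fun Z hZ => hZ.1).isClosed_biUnion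
      fun Z hZ => isClosed_of_mem_irreducibleComponents Z hZ.1.1
    have hxT : x ∉ T := by simp only [T, Set.mem_iUnion]; rintro ⟨Z, hZ, hx⟩; exact hZ.2 hx
    let W : X.Opens := V₀ ⊓ (W₁ ⊓ ⟨Tᶜ, hT.isOpen_compl⟩)
    refine ⟨W, ⟨hxV₀, hxW₁, hxT⟩, inf_le_left, ?_⟩
    haveI : IsReduced (Ω : Scheme.{u}) := isReduced_of_isOpenImmersion Ω.ι
    haveI : IsReduced ((Ω.ι ⁻¹ᵁ W) : Scheme.{u}) := isReduced_of_isOpenImmersion (Ω.ι ⁻¹ᵁ W).ι
    let P := (Ω.ι ⁻¹ᵁ W)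
    let D : (P : Scheme.{u}).Opens := P.ι ⁻¹ᵁ (⨆ G : {G : (Ω : Scheme.{u}).Opens // G.ι ≫ a = G.ι ≫ b}, G.1)
    refine NeronLib.ext_of_dense pY _ _ ((Category.assoc _ a pY).trans ((congrArg (P.ι ≫ ·) hab).trans (Category.assoc _ b pY).symm)) D ?_ ?_
    · intro r
      let q : X := Ω.ι (P.ι r)
      have hqW : q ∈ W := r.2
      obtain ⟨Z, hZ, hqZ⟩ : ∃ Z ∈ irreducibleComponents ↥X, q ∈ Z :=
        ⟨irreducibleComponent q, irreducibleComponent_mem_irreducibleComponents q, mem_irreducibleComponent⟩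
      obtain ⟨g, hg⟩ := QuasiSober.sober hZ.1 (isClosed_of_mem_irreducibleComponents Z hZ)
      have hgq : g ⤳ q := hg.specializes hqZ
      have hgW : g ∈ W := hgq.mem_open W.isOpen hqW
      have hgx : g ⤳ x := hg.specializes (by
        by_contra hxZ
        exact hgW.2.2 (Set.mem_biUnion ⟨⟨hZ, g, hg.mem, hgW.2.1⟩, hxZ⟩ hg.mem))
      have hgΩ : g ∈ Ω := hgq.mem_open Ω.isOpen (P.ι r).2
      let g' : (P : Scheme.{u}) := ⟨⟨g, hgΩ⟩, hgW⟩
      have hgD : g' ∈ D := by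
        obtain ⟨G, p, hpG, hG, hp⟩ := hgenX g hgx hgΩ
        obtain rfl : p = ⟨g, hgΩ⟩ := Subtype.ext hp
        show P.ι g' ∈ (⨆ G : {G : (Ω : Scheme.{u}).Opens // G.ι ≫ a = G.ι ≫ b}, G.1)
        rw [TopologicalSpace.Opens.mem_iSup]
        exact ⟨⟨G, hG⟩, hpG⟩
      have hspec : g' ⤳ r := by
        rw [← (Ω.ι.isOpenEmbedding.isInducing.comp P.ι.isOpenEmbedding.isInducing).specializes_iff]
        exact hgq
      exact hspec.mem_closed isClosed_closure (subset_closure hgD)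
    · rw [← Category.assoc D.ι, ← Category.assoc D.ι]
      refine eq_of_local _ a b fun r => ?_
      obtain ⟨G, hG⟩ := TopologicalSpace.Opens.mem_iSup.mp (show P.ι (D.ι r) ∈ (⨆ G : {G : (Ω : Scheme.{u}).Opens // G.ι ≫ a = G.ι ≫ b}, G.1) from r.2)
      exact ⟨G.1, hG, G.2⟩

end Groth.Agent.Clifford24.ExtStalk
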