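import Groth.Agent.Clifford24.FrobFibre
import Mathlib.AlgebraicGeometry.Morphisms.Immersion
import Mathlib.AlgebraicGeometry.Morphisms.FiniteType
import Mathlib.RingTheory.Unramified.Field
import Mathlib.RingTheory.FiniteStability
import Mathlib.RingTheory.Artinian.Ring

/-!
# The fixed scheme of Frobenius is reduced
-/

set_option autoImplicit false
set_option backward.isDefEq.respectTransparency false
set_option maxHeartbeats 1000000

universe u

open CategoryTheory CategoryTheory.Limits AlgebraicGeometry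
open scoped TensorProduct

namespace Groth.Agent.Clifford24.FixFrob

variable {k : Type u} [Field k] [Finite k]

local notation "kb" => AlgebraicClosure k

/-- Modulo the ideal generated by `Φ r - r`, for `Φ (a ⊗ c) = a ^ q ⊗ c`, the algebra `A ⊗ k̄` is a reduced
finite `k̄`-algebra. -/
theorem quotient_finite_reduced (A : Type u) [CommRing A] [Algebra k A] [Algebra.FiniteType k A]
    (Φ : A ⊗[k] kb →+* A ⊗[k] kb) (hΦ : ∀ a, Φ (a ⊗ₜ 1) = (a ^ Nat.card k) ⊗ₜ 1) :
    IsArtinianRing ((A ⊗[k] kb) ⧸ Ideal.span (Set.range fun r => Φ r - r)) ∧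
      IsReduced ((A ⊗[k] kb) ⧸ Ideal.span (Set.range fun r => Φ r - r)) := by
  letI : Algebra kb (A ⊗[k] kb) := Algebra.TensorProduct.rightAlgebra
  let J := Ideal.span (Set.range fun r => Φ r - r)
  let B := (A ⊗[k] kb) ⧸ J
  haveI hft : Algebra.FiniteType kb (A ⊗[k] kb) :=
    (inferInstance : Algebra.FiniteType kb (kb ⊗[k] A)).equiv (Algebra.TensorProduct.commRight k kb A)
  haveI : Algebra.FiniteType kb B := hft.of_surjective (Ideal.Quotient.mkₐ kb J) Ideal.Quotient.mk_surjective
  haveI : Subsingleton Ω[B⁄kb] := by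
    have hspan := KaehlerDifferential.span_range_derivation kb B
    refine subsingleton_of_forall_eq 0 fun w => ?_
    have h0 : Submodule.span B (Set.range (KaehlerDifferential.D kb B)) ≤ ⊥ := by
      rw [Submodule.span_le]
      rintro _ ⟨b, rfl⟩
      obtain ⟨r, rfl⟩ := Ideal.Quotient.mk_surjective b
      show KaehlerDifferential.D kb B (Ideal.Quotient.mk J r) ∈ (⊥ : Submodule B Ω[B⁄kb])
      rw [Submodule.mem_bot]
      induction r using TensorProduct.induction_on with
      | zero => rw [map_zero, map_zero]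
      | tmul a c =>
        have e : (a ⊗ₜ[k] c) = c • (a ⊗ₜ[k] (1 : kb)) := by
          rw [Algebra.smul_def]
          show _ = ((1 : A) ⊗ₜ[k] c) * (a ⊗ₜ 1)
          rw [Algebra.TensorProduct.tmul_mul_tmul, one_mul, mul_one]
        rw [e]
        show KaehlerDifferential.D kb B (c • Ideal.Quotient.mk J (a ⊗ₜ 1)) = 0
        rw [Derivation.map_smul]
        have hb : (Ideal.Quotient.mk J (a ⊗ₜ[k] (1 : kb))) ^ Nat.card k = Ideal.Quotient.mk J (a ⊗ₜ 1) := by
          rw [← map_pow, Ideal.Quotient.mk_eq_mk_iff_sub_mem, Algebra.TensorProduct.tmul_pow, one_pow]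
          rw [← hΦ]
          exact Ideal.subset_span ⟨_, rfl⟩
        have hz : KaehlerDifferential.D kb B (Ideal.Quotient.mk J (a ⊗ₜ 1)) = 0 := by
          rw [← hb, Derivation.leibniz_pow, ← Nat.cast_smul_eq_nsmul kb,
            show ((Nat.card k : ℕ) : kb) = 0 from ?_, zero_smul]
          haveI := Fintype.ofFinite k
          rw [← map_natCast (algebraMap k kb), Nat.card_eq_fintype_card, FiniteField.cast_card_eq_zero, map_zero]
        rw [hz, smul_zero]
      | add x y hx hy => rw [map_add, map_add, hx, hy, add_zero]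
    exact (Submodule.mem_bot B).1 (h0 (hspan ▸ Submodule.mem_top))
  haveI : Algebra.FormallyUnramified kb B := ⟨inferInstance⟩
  haveI := Algebra.FormallyUnramified.finite_of_free kb B
  exact ⟨IsArtinianRing.of_finite kb B, Algebra.FormallyUnramified.isReduced_of_field kb B⟩

variable {X : Scheme.{u}} (a : X ⟶ Spec (CommRingCat.of k))

theorem isField_stalk_spec (R : Type u) [CommRing R] [IsArtinianRing R] [IsReduced R] (p : PrimeSpectrum R) :
    IsField ((Spec.structureSheaf R).presheaf.stalk p) := by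
  haveI := (IsArtinianRing.localization_surjective p.asIdeal.primeCompl (Localization p.asIdeal.primeCompl)).isArtinianRing
  exact MulEquiv.isField (IsArtinianRing.isField_of_isReduced_of_isLocalRing (Localization.AtPrime p.asIdeal))
    (IsLocalization.algEquiv p.asIdeal.primeCompl _ (Localization.AtPrime p.asIdeal)).toMulEquiv

/-- Locally the fixed scheme is reduced and finite. -/
theorem local_fix [LocallyOfFiniteType a] (FX : X ⟶ X) (hle : ∀ U : X.Opens, U ≤ FX ⁻¹ᵁ U)
    (hFapp : ∀ (U : X.Opens) (s : Γ(X, U)), (FX.appLE U U (hle U)).hom s = s ^ Nat.card k)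
    (F : FinFr.ext kb a ⟶ FinFr.ext kb a)
    (hF1 : F ≫ FinFr.extπ kb a = FinFr.extπ kb a ≫ FX) (hF2 : F ≫ FinFr.extStr kb a = FinFr.extStr kb a)
    {E : Scheme.{u}} (i : E ⟶ FinFr.ext kb a) [IsImmersion i] (hi : i ≫ F = i)
    {U : X.Opens} (hU : IsAffineOpen U) :
    ∃ W : E.Opens, (∀ e, FinFr.extπ kb a (i e) ∈ U → e ∈ W) ∧ IsReduced (W : Scheme.{u}) ∧
      (W : Set E).Finite := by
  letI iA : Algebra k Γ(X, U) := (Spec.preimage (hU.fromSpec ≫ a)).hom.toAlgebra
  have hA : Spec.map (CommRingCat.ofHom (algebraMap k Γ(X, U))) = hU.fromSpec ≫ a := Spec.map_preimage _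
  haveI : Algebra.FiniteType k Γ(X, U) := by
    have h' : LocallyOfFiniteType (Spec.map (CommRingCat.ofHom (algebraMap k Γ(X, U)))) := by
      rw [hA]; infer_instance
    rw [HasRingHomProperty.Spec_iff (P := @LocallyOfFiniteType)] at h'
    exact RingHom.finiteType_algebraMap.1 h'
  let h : Spec (CommRingCat.of (Γ(X, U) ⊗[k] kb)) ⟶ FinFr.ext kb a :=
    (pullbackSpecIso k Γ(X, U) kb).inv ≫
      pullback.map (Spec.map (CommRingCat.ofHom (algebraMap k Γ(X, U)))) (FinFr.specι k kb) a (FinFr.specι k kb)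
        hU.fromSpec (𝟙 _) (𝟙 _) (by rw [Category.comp_id]; exact hA) (by simp)
  haveI : IsOpenImmersion h := inferInstance
  have h1 : h ≫ FinFr.extπ kb a =
      Spec.map (CommRingCat.ofHom Algebra.TensorProduct.includeLeftRingHom) ≫ hU.fromSpec := by
    simp only [h, FinFr.extπ, Category.assoc, pullback.lift_fst, pullbackSpecIso_inv_fst_assoc]
  have h2 : h ≫ FinFr.extStr kb a = Spec.map (CommRingCat.ofHom
      (Algebra.TensorProduct.includeRight : kb →ₐ[k] Γ(X, U) ⊗[k] kb).toRingHom) := by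
    simp only [h, FinFr.extStr, Category.assoc, pullback.lift_snd, Category.comp_id, pullbackSpecIso_inv_snd]
    rfl
  let powA : Γ(X, U) →ₐ[k] Γ(X, U) :=
    { (FX.appLE U U (hle U)).hom with
      commutes' := fun c => by
        haveI := Fintype.ofFinite k
        show (FX.appLE U U (hle U)).hom (algebraMap k Γ(X, U) c) = _
        rw [hFapp, ← map_pow, Nat.card_eq_fintype_card, FiniteField.pow_card] }
  let Φ := (Algebra.TensorProduct.map powA (AlgHom.id k kb)).toRingHom
  have hcomm : h ≫ F = Spec.map (CommRingCat.ofHom Φ) ≫ h := by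
    apply pullback.hom_ext
    · simp only [Category.assoc]
      rw [hF1]
      show h ≫ FinFr.extπ kb a ≫ FX = _ ≫ h ≫ FinFr.extπ kb a
      rw [← Category.assoc, h1, Category.assoc, ← hU.SpecMap_appLE_fromSpec FX hU (hle U),
        ← Category.assoc, ← Category.assoc, ← Spec.map_comp, ← Spec.map_comp]
      congr 2
    · simp only [Category.assoc]
      show h ≫ F ≫ FinFr.extStr kb a = _ ≫ h ≫ FinFr.extStr kb a
      rw [hF2, h2, ← Spec.map_comp]
      congr 1
      ext x
      show (1 : Γ(X, U)) ⊗ₜ[k] x = Algebra.TensorProduct.map powA (AlgHom.id k kb) (1 ⊗ₜ x)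
      rw [Algebra.TensorProduct.map_tmul, map_one]
      rfl
  obtain ⟨hart, hred⟩ := quotient_finite_reduced Γ(X, U) Φ fun x => by
    show Algebra.TensorProduct.map powA (AlgHom.id k kb) (x ⊗ₜ 1) = _
    rw [Algebra.TensorProduct.map_tmul, map_one, ← hFapp U x]
    rfl
  let J := Ideal.span (Set.range fun r => Φ r - r)
  let W : E.Opens := i ⁻¹ᵁ h.opensRange
  have hrange : Set.range (W.ι ≫ i) ⊆ Set.range h := by
    rintro _ ⟨e, rfl⟩
    exact e.2
  let g : (W : Scheme.{u}) ⟶ Spec (CommRingCat.of (Γ(X, U) ⊗[k] kb)) := IsOpenImmersion.lift h (W.ι ≫ i) hrange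
  have hg : g ≫ h = W.ι ≫ i := IsOpenImmersion.lift_fac _ _ _
  haveI : IsImmersion (g ≫ h) := by rw [hg]; infer_instance
  haveI : IsImmersion g := IsImmersion.of_comp g h
  have hfix : g ≫ Spec.map (CommRingCat.ofHom Φ) = g := by
    rw [← cancel_mono h, Category.assoc, ← hcomm, ← Category.assoc, hg, Category.assoc, hi]
  let γ : CommRingCat.of (Γ(X, U) ⊗[k] kb) ⟶ Γ((W : Scheme.{u}), ⊤) := (Scheme.ΓSpecIso _).inv ≫ g.appTop
  have hγ : CommRingCat.ofHom Φ ≫ γ = γ := by
    calc CommRingCat.ofHom Φ ≫ γ = (CommRingCat.ofHom Φ ≫ (Scheme.ΓSpecIso _).inv) ≫ g.appTop :=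
        (Category.assoc _ _ _).symm
      _ = (Scheme.ΓSpecIso _).inv ≫ (g ≫ Spec.map (CommRingCat.ofHom Φ)).appTop := by
        rw [Scheme.ΓSpecIso_inv_naturality, Category.assoc, Scheme.Hom.comp_appTop]
      _ = γ := by rw [hfix]
  have hker : ∀ r ∈ J, γ.hom r = 0 := fun r hr =>
    (Ideal.span_le.2 (by
      rintro _ ⟨s, rfl⟩
      show γ.hom (Φ s - s) = 0
      rw [map_sub, sub_eq_zero]
      exact congrArg (fun q : CommRingCat.of (Γ(X, U) ⊗[k] kb) ⟶ Γ((W : Scheme.{u}), ⊤) => q.hom s) hγ)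
      : J ≤ RingHom.ker γ.hom) hr
  let g' : (W : Scheme.{u}) ⟶ Spec (CommRingCat.of ((Γ(X, U) ⊗[k] kb) ⧸ J)) :=
    (W : Scheme.{u}).toSpecΓ ≫ Spec.map (CommRingCat.ofHom (Ideal.Quotient.lift J γ.hom hker))
  have hg' : g' ≫ Spec.map (CommRingCat.ofHom (Ideal.Quotient.mk J)) = g := by
    show ((W : Scheme.{u}).toSpecΓ ≫ Spec.map _) ≫ Spec.map _ = g
    rw [Category.assoc, ← Spec.map_comp,
      show CommRingCat.ofHom (Ideal.Quotient.mk J) ≫ CommRingCat.ofHom (Ideal.Quotient.lift J γ.hom hker) = γ from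
        CommRingCat.hom_ext (RingHom.ext fun r => rfl)]
    show _ ≫ Spec.map ((Scheme.ΓSpecIso _).inv ≫ g.appTop) = g
    rw [Spec.map_comp, ← Category.assoc, ← Scheme.toSpecΓ_naturality, Category.assoc,
      toSpecΓ_SpecMap_ΓSpecIso_inv, Category.comp_id]
  haveI : IsImmersion (g' ≫ Spec.map (CommRingCat.ofHom (Ideal.Quotient.mk J))) := by rw [hg']; infer_instance
  haveI : IsImmersion g' := IsImmersion.of_comp g' (Spec.map (CommRingCat.ofHom (Ideal.Quotient.mk J)))
  refine ⟨W, fun e he => ?_, ?_, ?_⟩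
  · show i e ∈ Set.range h
    have hr : i e ∈ Set.range (pullback.map (Spec.map (CommRingCat.ofHom (algebraMap k Γ(X, U))))
        (FinFr.specι k kb) a (FinFr.specι k kb) hU.fromSpec (𝟙 _) (𝟙 _) (by
          rw [Category.comp_id]; exact hA) (by simp)) := by
      rw [Scheme.Pullback.range_map]
      refine ⟨?_, ⟨_, rfl⟩⟩
      show FinFr.extπ kb a (i e) ∈ Set.range hU.fromSpec
      rw [hU.range_fromSpec]
      exact he
    obtain ⟨q, hq⟩ := hr
    refine ⟨(pullbackSpecIso k Γ(X, U) kb).hom q, ?_⟩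
    show ((pullbackSpecIso k Γ(X, U) kb).hom ≫ h) q = _
    rw [Iso.hom_inv_id_assoc]
    exact hq
  · haveI : ∀ e : (W : Scheme.{u}), IsReduced ((W : Scheme.{u}).presheaf.stalk e) := fun e => by
      have hf : IsField ((Spec (CommRingCat.of ((Γ(X, U) ⊗[k] kb) ⧸ J))).presheaf.stalk (g' e)) :=
        isField_stalk_spec ((Γ(X, U) ⊗[k] kb) ⧸ J) (g' e)
      have hinj : Function.Injective (g'.stalkMap e).hom := (injective_iff_map_eq_zero _).2 fun x hx => by
        by_contra hne
        obtain ⟨y, hy⟩ := hf.mul_inv_cancel hne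
        have := congrArg (g'.stalkMap e).hom hy
        rw [map_mul, hx, zero_mul, map_one] at this
        exact zero_ne_one this
      letI := hf.toField
      exact isReduced_of_injective (RingEquiv.ofBijective (g'.stalkMap e).hom
        ⟨hinj, SurjectiveOnStalks.stalkMap_surjective g' e⟩).symm (RingEquiv.injective _)
    exact isReduced_of_isReduced_stalk _
  · haveI : Finite (Spec (CommRingCat.of ((Γ(X, U) ⊗[k] kb) ⧸ J))) :=
      inferInstanceAs (Finite (PrimeSpectrum ((Γ(X, U) ⊗[k] kb) ⧸ J)))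
    haveI : Finite (W : Scheme.{u}) := Finite.of_injective _ g'.isEmbedding.injective
    exact Set.finite_coe_iff.1 ‹Finite (W : Scheme.{u})›

/-- The fixed scheme of the geometric Frobenius is reduced, and finite for quasi-compact `X`. -/
theorem fix [LocallyOfFiniteType a] (FX : X ⟶ X) (hle : ∀ U : X.Opens, U ≤ FX ⁻¹ᵁ U)
    (hFapp : ∀ (U : X.Opens) (s : Γ(X, U)), (FX.appLE U U (hle U)).hom s = s ^ Nat.card k)
    (F : FinFr.ext kb a ⟶ FinFr.ext kb a)
    (hF1 : F ≫ FinFr.extπ kb a = FinFr.extπ kb a ≫ FX) (hF2 : F ≫ FinFr.extStr kb a = FinFr.extStr kb a) :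
    IsReduced (FinFr.fixScheme (FinFr.extStr kb a) F hF2) ∧
      (QuasiCompact a → Finite ↥(FinFr.fixScheme (FinFr.extStr kb a) F hF2)) := by
  let p := FinFr.extStr kb a
  let Γf : FinFr.ext kb a ⟶ pullback p p := pullback.lift (𝟙 _) F (by rw [hF2, Category.id_comp])
  let Δ : FinFr.ext kb a ⟶ pullback p p := pullback.lift (𝟙 _) (𝟙 _) rfl
  let i := pullback.fst Γf Δ
  have hi : i ≫ F = i := by
    have e := pullback.condition (f := Γf) (g := Δ)
    have e1 := congrArg (· ≫ pullback.fst p p) e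
    have e2 := congrArg (· ≫ pullback.snd p p) e
    simp only [Γf, Δ, Category.assoc, pullback.lift_fst, pullback.lift_snd, Category.comp_id] at e1 e2
    exact e2.trans e1.symm
  haveI : IsImmersion Δ := inferInstanceAs (IsImmersion (pullback.diagonal p))
  haveI : IsImmersion i := inferInstanceAs (IsImmersion (pullback.fst Γf Δ))
  choose W hW1 hW2 hW3 using fun U : X.affineOpens => local_fix a FX hle hFapp F hF1 hF2 i hi U.2
  constructor
  · haveI : ∀ e : FinFr.fixScheme p F hF2, IsReduced ((FinFr.fixScheme p F hF2).presheaf.stalk e) := fun e => by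
      obtain ⟨U, hU, heU, -⟩ :=
        exists_isAffineOpen_mem_and_subset (x := FinFr.extπ kb a (i e)) (U := (⊤ : X.Opens)) trivial
      have he := hW1 ⟨U, hU⟩ e heU
      haveI := hW2 ⟨U, hU⟩
      exact isReduced_of_injective ((W ⟨U, hU⟩).stalkIso ⟨e, he⟩).commRingCatIsoToRingEquiv.symm
        (RingEquiv.injective _)
    exact isReduced_of_isReduced_stalk _
  · intro hqc
    haveI : CompactSpace X := QuasiCompact.compactSpace_of_compactSpace a
    obtain ⟨t, ht⟩ := isCompact_univ.elim_finite_subcover (fun U : X.affineOpens => (U.1 : Set X))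
      (fun U => U.1.2) (fun x _ => by
        obtain ⟨U, hU, hx, -⟩ := exists_isAffineOpen_mem_and_subset (x := x) (U := (⊤ : X.Opens)) trivial
        exact Set.mem_iUnion.2 ⟨⟨U, hU⟩, hx⟩)
    refine Set.finite_univ_iff.1 ((t.finite_toSet.biUnion fun U _ => hW3 U).subset fun e _ => ?_)
    obtain ⟨U, hUt, heU⟩ := Set.mem_iUnion₂.1 (ht (Set.mem_univ (FinFr.extπ kb a (i e))))
    exact Set.mem_iUnion₂.2 ⟨U, hUt, hW1 U e heU⟩

end Groth.Agent.Clifford24.FixFrob
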