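import Groth.Prelude.Def_FinFr
import Mathlib.FieldTheory.Finite.Basic
import Mathlib.FieldTheory.Finite.GaloisField
import Mathlib.AlgebraicGeometry.Morphisms.Integral
import Mathlib.FieldTheory.IsAlgClosed.AlgebraicClosure
import Mathlib.AlgebraicGeometry.PullbackCarrier

/-!
# Points of `X_K̄` over a point of `X` and Galois automorphisms; geometric Frobenius on points
-/

set_option autoImplicit false

universe u

open CategoryTheory CategoryTheory.Limits AlgebraicGeometry
open scoped TensorProduct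

namespace Groth.Agent.Clifford24.FrobFibre

variable {k : Type u} [Field k] {X : Scheme.{u}} (a : X ⟶ Spec (CommRingCat.of k))

local notation "kb" => AlgebraicClosure k

theorem galAct_comp (σ τ : kb ≃ₐ[k] kb) :
    FinFr.galAct a σ ≫ FinFr.galAct a τ = FinFr.galAct a (σ * τ) := by
  apply pullback.hom_ext
  · rw [Category.assoc, FinFr.galAct_fst, FinFr.galAct_fst, FinFr.galAct_fst]
  · rw [Category.assoc, FinFr.galAct_snd, ← Category.assoc, FinFr.galAct_snd, FinFr.galAct_snd, Category.assoc,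
      ← Spec.map_comp]
    rfl

theorem galAct_one : FinFr.galAct (K := kb) a 1 = 𝟙 _ := by
  apply pullback.hom_ext
  · rw [FinFr.galAct_fst, Category.id_comp]
  · rw [FinFr.galAct_snd, Category.id_comp]
    have : CommRingCat.ofHom ((1 : kb ≃ₐ[k] kb) : kb →+* kb) = 𝟙 _ := rfl
    rw [this, Spec.map_id, Category.comp_id]

/-- Two points over the same point of `X` differ by a Galois automorphism. -/
theorem exists_galAct_eq (w z : ↥(FinFr.ext kb a))
    (h : FinFr.extπ kb a w = FinFr.extπ kb a z) : ∃ σ : kb ≃ₐ[k] kb, FinFr.galAct a σ w = z := by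
  obtain ⟨t, ht1, ht2⟩ := Scheme.Pullback.exists_preimage_pullback _ _ h
  let P := pullback (FinFr.extπ kb a) (FinFr.extπ kb a)
  let Ω := AlgebraicClosure (P.residueField t)
  let pt : Spec (CommRingCat.of Ω) ⟶ P :=
    Spec.map (CommRingCat.ofHom (algebraMap (P.residueField t) Ω)) ≫ P.fromSpecResidueField t
  obtain ⟨o⟩ : Nonempty (Spec (CommRingCat.of Ω)) := inferInstance
  have hpt : pt o = t := by
    simp only [pt, Scheme.Hom.comp_apply]
    exact Scheme.fromSpecResidueField_apply t _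
  let ξ := pt ≫ pullback.fst (FinFr.extπ kb a) (FinFr.extπ kb a)
  let η := pt ≫ pullback.snd (FinFr.extπ kb a) (FinFr.extπ kb a)
  let α := Spec.preimage (ξ ≫ FinFr.extStr kb a)
  let β := Spec.preimage (η ≫ FinFr.extStr kb a)
  have hπ : ξ ≫ FinFr.extπ kb a = η ≫ FinFr.extπ kb a := by
    simp only [ξ, η, Category.assoc, pullback.condition]
  have hk : CommRingCat.ofHom (algebraMap k kb) ≫ α = CommRingCat.ofHom (algebraMap k kb) ≫ β := by
    apply Spec.map_injective
    rw [Spec.map_comp, Spec.map_comp, Spec.map_preimage, Spec.map_preimage, Category.assoc, Category.assoc]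
    show ξ ≫ pullback.snd a (FinFr.specι k kb) ≫ FinFr.specι k kb =
      η ≫ pullback.snd a (FinFr.specι k kb) ≫ FinFr.specι k kb
    rw [← pullback.condition, ← Category.assoc, ← Category.assoc]
    exact congrArg (· ≫ a) hπ
  letI iα : Algebra kb Ω := α.hom.toAlgebra
  letI ik : Algebra k Ω := (α.hom.comp (algebraMap k kb)).toAlgebra
  haveI : IsScalarTower k kb Ω := IsScalarTower.of_algebraMap_eq fun _ => rfl
  let β' : kb →ₐ[k] Ω :=
    { β.hom with commutes' := fun r => (RingHom.congr_fun (congrArg CommRingCat.Hom.hom hk) r).symm }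
  let σ := β'.restrictNormal' kb
  refine ⟨σ, ?_⟩
  have hσ : CommRingCat.ofHom (σ : kb →+* kb) ≫ α = β :=
    CommRingCat.hom_ext (RingHom.ext fun x => β'.restrictNormal_commutes kb x)
  have hξ : ξ ≫ FinFr.galAct a σ = η := by
    apply pullback.hom_ext
    · rw [Category.assoc, FinFr.galAct_fst]
      exact hπ
    · rw [Category.assoc, FinFr.galAct_snd, ← Category.assoc]
      show (ξ ≫ FinFr.extStr kb a) ≫ _ = η ≫ FinFr.extStr kb a
      rw [← Spec.map_preimage (ξ ≫ FinFr.extStr kb a), ← Spec.map_preimage (η ≫ FinFr.extStr kb a),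
        ← Spec.map_comp]
      exact congrArg Spec.map hσ
  have := congrArg (fun m : Spec (CommRingCat.of Ω) ⟶ FinFr.ext kb a => m o) hξ
  simp only [ξ, η, Scheme.Hom.comp_apply, hpt, ht1, ht2] at this
  exact this

/-- Chart of `X_K̄` over an affine open of `X`. -/
theorem exists_chart {U : X.Opens} (hU : IsAffineOpen U) :
    ∃ (_ : Algebra k Γ(X, U)) (h : Spec (CommRingCat.of (Γ(X, U) ⊗[k] kb)) ⟶ FinFr.ext kb a),
      h ≫ FinFr.extπ kb a = Spec.map (CommRingCat.ofHom Algebra.TensorProduct.includeLeftRingHom) ≫ hU.fromSpec ∧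
      h ≫ FinFr.extStr kb a = Spec.map (CommRingCat.ofHom
        (Algebra.TensorProduct.includeRight : kb →ₐ[k] Γ(X, U) ⊗[k] kb).toRingHom) ∧
      ∀ z, FinFr.extπ kb a z ∈ U → ∃ p, h p = z := by
  letI iA : Algebra k Γ(X, U) := (Spec.preimage (hU.fromSpec ≫ a)).hom.toAlgebra
  refine ⟨iA, (pullbackSpecIso k Γ(X, U) kb).inv ≫
    pullback.map (Spec.map (CommRingCat.ofHom (algebraMap k Γ(X, U)))) (FinFr.specι k kb) a (FinFr.specι k kb)
      hU.fromSpec (𝟙 _) (𝟙 _) (by
        rw [Category.comp_id]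
        exact Spec.map_preimage _) (by simp), ?_, ?_, fun z hz => ?_⟩
  · simp only [FinFr.extπ, Category.assoc, pullback.lift_fst, pullbackSpecIso_inv_fst_assoc]
  · simp only [FinFr.extStr, Category.assoc, pullback.lift_snd, Category.comp_id, pullbackSpecIso_inv_snd]
    rfl
  · have hr : z ∈ Set.range (pullback.map (Spec.map (CommRingCat.ofHom (algebraMap k Γ(X, U))))
        (FinFr.specι k kb) a (FinFr.specι k kb) hU.fromSpec (𝟙 _) (𝟙 _) (by
        rw [Category.comp_id]
        exact Spec.map_preimage _) (by simp)) := by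
      rw [Scheme.Pullback.range_map]
      refine ⟨?_, ⟨_, rfl⟩⟩
      show FinFr.extπ kb a z ∈ Set.range hU.fromSpec
      rw [hU.range_fromSpec]
      exact hz
    obtain ⟨q, hq⟩ := hr
    refine ⟨(pullbackSpecIso k Γ(X, U) kb).hom q, ?_⟩
    rw [← Scheme.Hom.comp_apply, Iso.hom_inv_id_assoc]
    exact hq

theorem galAct_chart {U : X.Opens} (hU : IsAffineOpen U) [Algebra k Γ(X, U)]
    (h : Spec (CommRingCat.of (Γ(X, U) ⊗[k] kb)) ⟶ FinFr.ext kb a)
    (h1 : h ≫ FinFr.extπ kb a = Spec.map (CommRingCat.ofHom Algebra.TensorProduct.includeLeftRingHom) ≫ hU.fromSpec)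
    (h2 : h ≫ FinFr.extStr kb a = Spec.map (CommRingCat.ofHom
        (Algebra.TensorProduct.includeRight : kb →ₐ[k] Γ(X, U) ⊗[k] kb).toRingHom))
    (σ : kb ≃ₐ[k] kb) :
    h ≫ FinFr.galAct a σ = Spec.map (CommRingCat.ofHom
      (Algebra.TensorProduct.map (AlgHom.id k Γ(X, U)) (σ : kb →ₐ[k] kb)).toRingHom) ≫ h := by
  apply pullback.hom_ext
  · rw [Category.assoc, FinFr.galAct_fst, Category.assoc]
    show h ≫ FinFr.extπ kb a = _ ≫ h ≫ FinFr.extπ kb a
    rw [h1, ← Category.assoc, ← Spec.map_comp]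
    congr 2
    ext x
    show (x ⊗ₜ[k] (1 : kb)) = Algebra.TensorProduct.map (AlgHom.id k Γ(X, U)) (σ : kb →ₐ[k] kb) (x ⊗ₜ 1)
    rw [Algebra.TensorProduct.map_tmul, map_one]
    rfl
  · rw [Category.assoc, FinFr.galAct_snd, Category.assoc]
    show h ≫ FinFr.extStr kb a ≫ _ = _ ≫ h ≫ FinFr.extStr kb a
    rw [← Category.assoc, h2, ← Spec.map_comp, ← Spec.map_comp]
    congr 1

/-- The automorphisms agreeing with `σ` on every finite set of constants move a point into every
neighbourhood of its image under `σ`. -/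
theorem galAct_mem_of_isClosed {W : Set ↥(FinFr.ext kb a)} (hW : IsClosed W) (σ : kb ≃ₐ[k] kb)
    (T : Set (kb ≃ₐ[k] kb)) (hT : ∀ s : Finset kb, ∃ τ ∈ T, ∀ c ∈ s, σ c = τ c) (z : ↥(FinFr.ext kb a))
    (hz : ∀ τ ∈ T, FinFr.galAct a τ z ∈ W) : FinFr.galAct a σ z ∈ W := by
  classical
  by_contra hno
  obtain ⟨U, hU, hzU, -⟩ := exists_isAffineOpen_mem_and_subset (x := FinFr.extπ kb a z) (U := (⊤ : X.Opens)) trivial
  obtain ⟨iA, h, h1, h2, hsurj⟩ := exists_chart a hU
  obtain ⟨p, rfl⟩ := hsurj z hzU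
  let mapσ := fun τ : kb ≃ₐ[k] kb => Spec.map (CommRingCat.ofHom
      (Algebra.TensorProduct.map (AlgHom.id k Γ(X, U)) (τ : kb →ₐ[k] kb)).toRingHom)
  have hcomm : ∀ τ, FinFr.galAct a τ (h p) = h (mapσ τ p) := fun τ => by
    rw [← Scheme.Hom.comp_apply, galAct_chart a hU h h1 h2 τ]
    rfl
  rw [hcomm] at hno
  obtain ⟨_, ⟨g, rfl⟩, hg1, hg2⟩ := PrimeSpectrum.isTopologicalBasis_basic_opens.exists_subset_of_mem_open
    (a := mapσ σ p) (show mapσ σ p ∈ h ⁻¹' Wᶜ from hno) (hW.isOpen_compl.preimage h.continuous)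
  have hfin : ∀ g : Γ(X, U) ⊗[k] kb, ∃ s : Finset kb, ∀ τ τ' : kb ≃ₐ[k] kb, (∀ c ∈ s, τ c = τ' c) →
      Algebra.TensorProduct.map (AlgHom.id k Γ(X, U)) (τ : kb →ₐ[k] kb) g =
      Algebra.TensorProduct.map (AlgHom.id k Γ(X, U)) (τ' : kb →ₐ[k] kb) g := by
    intro g
    induction g using TensorProduct.induction_on with
    | zero => exact ⟨∅, fun τ τ' _ => by simp⟩
    | tmul x c => exact ⟨{c}, fun τ τ' e => by simp [e c (Finset.mem_singleton_self c)]⟩
    | add x y hx hy =>
      obtain ⟨s, hs⟩ := hx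
      obtain ⟨t, ht⟩ := hy
      exact ⟨s ∪ t, fun τ τ' e => by
        rw [map_add, map_add, hs τ τ' fun c hc => e c (Finset.mem_union_left _ hc),
          ht τ τ' fun c hc => e c (Finset.mem_union_right _ hc)]⟩
  obtain ⟨s, hs⟩ := hfin g
  obtain ⟨τ, hτT, hτ⟩ := hT s
  have hmem : mapσ τ p ∈ h ⁻¹' Wᶜ := by
    refine hg2 (show g ∉ (mapσ τ p).asIdeal from ?_)
    intro hin
    apply (show g ∉ (mapσ σ p).asIdeal from hg1)
    show (Algebra.TensorProduct.map (AlgHom.id k Γ(X, U)) (σ : kb →ₐ[k] kb)) g ∈ p.asIdeal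
    rw [hs σ τ hτ]
    exact hin
  apply hmem
  rw [← hcomm]
  exact hz τ hτT

variable [Finite k]

/-- Over a finite field every automorphism agrees on a finite set with a negative power of Frobenius. -/
theorem exists_pow_inv_eq [Fintype k] (σ : kb ≃ₐ[k] kb) (s : Finset kb) :
    ∃ n : ℕ, ∀ c ∈ s, σ c = ((FiniteField.frobeniusAlgEquivOfAlgebraic k kb)⁻¹ ^ n) c := by
  classical
  let L := IntermediateField.adjoin k ((s.image σ : Finset kb) : Set kb)
  haveI : FiniteDimensional k L := IntermediateField.finiteDimensional_adjoin fun x _ =>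
    Algebra.IsIntegral.isIntegral x
  haveI : Finite L := Module.finite_of_finite k
  obtain ⟨n, hn⟩ := (FiniteField.bijective_frobeniusAlgEquivOfAlgebraic_pow k L).2 ((σ⁻¹).restrictNormal L)
  refine ⟨n, fun c hc => ?_⟩
  have hy : σ c ∈ L := IntermediateField.subset_adjoin k _
    (Finset.mem_coe.2 (Finset.mem_image_of_mem σ hc))
  have h1 := (σ⁻¹).restrictNormal_commutes L ⟨σ c, hy⟩
  simp only at hn
  rw [← hn] at h1
  have h2 : ((FiniteField.frobeniusAlgEquivOfAlgebraic k kb) ^ n.1) (σ c) = c := by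
    have e1 : ((FiniteField.frobeniusAlgEquivOfAlgebraic k kb) ^ n.1) (σ c) = (σ c) ^ (Fintype.card k ^ n.1) := by
      rw [AlgEquiv.coe_pow, FiniteField.coe_frobeniusAlgEquivOfAlgebraic_iterate]
    rw [AlgEquiv.coe_pow, FiniteField.coe_frobeniusAlgEquivOfAlgebraic_iterate] at h1
    rw [e1]
    refine (map_pow (algebraMap L kb) ⟨σ c, hy⟩ _).symm.trans (h1.trans ?_)
    exact σ.symm_apply_apply c
  rw [inv_pow]
  exact ((AlgEquiv.symm_apply_eq _).2 h2.symm).symm

/-- The composite of geometric Frobenius and the Galois Frobenius is the identity on points. -/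
theorem frobenius_galAct_apply [Fintype k] (FX : X ⟶ X) (hle : ∀ U : X.Opens, U ≤ FX ⁻¹ᵁ U)
    (hFapp : ∀ (U : X.Opens) (s : Γ(X, U)), (FX.appLE U U (hle U)).hom s = s ^ Nat.card k)
    (F : FinFr.ext kb a ⟶ FinFr.ext kb a)
    (hF1 : F ≫ FinFr.extπ kb a = FinFr.extπ kb a ≫ FX) (hF2 : F ≫ FinFr.extStr kb a = FinFr.extStr kb a)
    (z : ↥(FinFr.ext kb a)) :
    FinFr.galAct a (FiniteField.frobeniusAlgEquivOfAlgebraic k kb) (F z) = z := by
  obtain ⟨U, hU, hzU, -⟩ := exists_isAffineOpen_mem_and_subset (x := FinFr.extπ kb a z) (U := (⊤ : X.Opens)) trivial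
  obtain ⟨iA, h, h1, h2, hsurj⟩ := exists_chart a hU
  obtain ⟨p, rfl⟩ := hsurj z hzU
  set φ := FiniteField.frobeniusAlgEquivOfAlgebraic k kb
  let powA : Γ(X, U) →ₐ[k] Γ(X, U) :=
    { (FX.appLE U U (hle U)).hom with
      commutes' := fun c => by
        show (FX.appLE U U (hle U)).hom (algebraMap k Γ(X, U) c) = _
        rw [hFapp, ← map_pow, Nat.card_eq_fintype_card, FiniteField.pow_card] }
  let ψ := (Algebra.TensorProduct.map powA (φ : kb →ₐ[k] kb)).toRingHom
  have hψ : ∀ x, ψ x = x ^ Fintype.card k := by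
    rcases subsingleton_or_nontrivial (Γ(X, U) ⊗[k] kb) with hs | hs
    · exact fun x => Subsingleton.elim _ _
    obtain ⟨p, hp⟩ := CharP.exists k
    obtain ⟨n, hp', hn⟩ := FiniteField.card k p
    haveI : Fact p.Prime := ⟨hp'⟩
    haveI : CharP (Γ(X, U) ⊗[k] kb) p :=
      charP_of_injective_algebraMap (algebraMap k (Γ(X, U) ⊗[k] kb)).injective p
    intro x
    induction x using TensorProduct.induction_on with
    | zero => rw [map_zero, zero_pow Fintype.card_ne_zero]
    | tmul x c =>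
      show Algebra.TensorProduct.map powA (φ : kb →ₐ[k] kb) (x ⊗ₜ c) = _
      rw [Algebra.TensorProduct.map_tmul, Algebra.TensorProduct.tmul_pow, ← Nat.card_eq_fintype_card]
      congr 1
      · exact hFapp U x
      · show φ c = _
        rw [Nat.card_eq_fintype_card]
        rfl
    | add x y hx hy => rw [map_add, hx, hy, hn, add_pow_char_pow]
  have hcomm : h ≫ F ≫ FinFr.galAct a φ = Spec.map (CommRingCat.ofHom ψ) ≫ h := by
    apply pullback.hom_ext
    · simp only [Category.assoc]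
      rw [FinFr.galAct_fst, hF1]
      show h ≫ FinFr.extπ kb a ≫ FX = _ ≫ h ≫ FinFr.extπ kb a
      rw [← Category.assoc, h1, Category.assoc, ← hU.SpecMap_appLE_fromSpec FX hU (hle U),
        ← Category.assoc, ← Category.assoc, ← Spec.map_comp, ← Spec.map_comp]
      congr 2
      ext x
      show ((FX.appLE U U (hle U)).hom x) ⊗ₜ[k] (1 : kb) = ψ (x ⊗ₜ 1)
      show _ = Algebra.TensorProduct.map powA (φ : kb →ₐ[k] kb) (x ⊗ₜ 1)
      rw [Algebra.TensorProduct.map_tmul, map_one]
      rfl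
    · simp only [Category.assoc]
      rw [FinFr.galAct_snd]
      show h ≫ F ≫ FinFr.extStr kb a ≫ _ = _ ≫ h ≫ FinFr.extStr kb a
      rw [← Category.assoc F, hF2, ← Category.assoc, h2, ← Spec.map_comp, ← Spec.map_comp]
      congr 1
      ext x
      show (1 : Γ(X, U)) ⊗ₜ[k] (φ x) = Algebra.TensorProduct.map powA (φ : kb →ₐ[k] kb) (1 ⊗ₜ x)
      rw [Algebra.TensorProduct.map_tmul, map_one]
      rfl
  have h3 : Spec.map (CommRingCat.ofHom ψ) p = p := PrimeSpectrum.ext (Ideal.ext fun x => by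
    show ψ x ∈ p.asIdeal ↔ _
    rw [hψ]
    exact p.2.pow_mem_iff_mem _ Fintype.card_pos)
  have := congrArg (fun m : Spec (CommRingCat.of (Γ(X, U) ⊗[k] kb)) ⟶ FinFr.ext kb a => m p) hcomm
  simp only [Scheme.Hom.comp_apply, h3] at this
  exact this

end Groth.Agent.Clifford24.FrobFibre
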