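import Groth.Agent.Clifford24.Main
import Groth.Agent.CurveRR24.DoubleCover.Main
import Groth.Agent.CurveRR24.Ample
import Groth.Agent.AmpleLib.Ample

/-!
# Powers of a `g¹₂`
-/

set_option autoImplicit false
set_option linter.style.haveILetI false
set_option linter.unusedSectionVars false
set_option backward.isDefEq.respectTransparency.types false
set_option maxHeartbeats 1000000

universe u

open CategoryTheory CategoryTheory.Limits AlgebraicGeometry Opposite TopologicalSpace Polynomial
open Groth.Agent.Coherent Groth.Agent.PicLib Groth.Agent.AmpleLib Groth.Agent.EulerLib Groth.Agent.CurveRR24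

namespace Groth.Agent.Clifford24

variable {X : Scheme.{u}} (k : Type u) [Field k] [X.Over (Spec (CommRingCat.of k))]
  [IsProper (X ↘ Spec (CommRingCat.of k))] [IsIntegral X] [Smooth (X ↘ Spec (CommRingCat.of k))]

/-- The pullback of `O(1)` along a double cover of the line is a `g¹₂`. -/
theorem pbO_spec (hdim : topologicalKrullDim X = 1) (f : X ⟶ CohB1.ProjSpace 1 k)
    (hf : f ≫ CohB1.ProjSpace.toSpec 1 k = X ↘ Spec (CommRingCat.of k)) [IsFinite f] [Flat f]
    (hrk : ∀ y, Scheme.Hom.finrank f y = 2) :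
    PicF.IsInvertible (EmbLib24.pbO f) ∧ Curv2.deg k X (EmbLib24.pbO f) 1 = 2 ∧
      2 ≤ Module.finrank k (Coh.HH X (EmbLib24.pbO f) 0) := by
  haveI := CurveLib.isIntegral_projSpace k 1
  haveI : IsProper (CohB1.ProjSpace.toSpec 1 k) := CurveLib.isProper_projSpace k 1
  haveI : IsProper ((CohB1.ProjSpace 1 k) ↘ Spec (CommRingCat.of k)) :=
    inferInstanceAs (IsProper (CohB1.ProjSpace.toSpec 1 k))
  haveI : LocallyOfFinitePresentation f := by
    haveI := EulerLib.isNoetherian_of_proper k (X := CohB1.ProjSpace 1 k)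
    exact CohBC.locallyOfFinitePresentation_of_isLocallyNoetherian f
  obtain ⟨-, hinj⟩ := residueDegree_eq_finrank k f hdim hrk
  let L := EmbLib24.pbO f
  have hL : PicF.IsInvertible L := PicLoc.isInvertible_pullback f (isInvertible_twist_one k)
  have hdeg : Curv2.deg k X L 1 = 2 := by
    have h := deg_pullback k f hf (DimLib.PN.topologicalKrullDim_projSpace 1 k).le (isInvertible_twist_one k)
      (genericPoint (CohB1.ProjSpace 1 k))
    rw [deg_twist_one, mul_one, hrk] at h
    exact_mod_cast h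
  refine ⟨hL, hdeg, ?_⟩
  let φ := baseHom k X
  let U := EmbLib24.chart 1 k 0
  let v : Fin 2 → GA φ L := fun i => (show GA φ L from EmbLib24.sig f i)
  have hind : LinearIndependent k v := by
    rw [Fintype.linearIndependent_iff]
    intro c hc
    have hc' : φ (c 0) • EmbLib24.sig f 0 + φ (c 1) • EmbLib24.sig f 1 = 0 := by
      rw [Fin.sum_univ_two] at hc; exact hc
    have h := congrArg (resM L (le_top : f ⁻¹ᵁ U ≤ ⊤)) hc'
    rw [map_zero, map_add, resM_smul, resM_smul] at h
    have hσ1 : pullChart f 0 Polynomial.X • resM L le_top (EmbLib24.sig f 0) =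
        resM L (le_top : f ⁻¹ᵁ U ≤ ⊤) (EmbLib24.sig f 1) :=
      pullChart_smul (EmbLib24.sig f) (Iso.refl _) (fun _ => rfl) 0
    have hφ : ∀ x : k, X.presheaf.map (homOfLE (le_top : f ⁻¹ᵁ U ≤ ⊤)).op (φ x) = pullChart f 0 (C x) :=
      fun x => (pullChart_C hf 0 x).symm
    erw [hφ, hφ] at h
    have hgl : IsGen L (f ⁻¹ᵁ U) (resM L le_top (EmbLib24.sig f 0)) := by
      rw [EmbLib24.preimage_chart f 0]; exact isGen_glocus _
    have h1 : pullChart f 0 (C (c 0) + C (c 1) * Polynomial.X) = 0 := by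
      refine (hgl (f ⁻¹ᵁ U) le_rfl).1 ?_
      beta_reduce
      rw [resM_self, zero_smul, map_add, map_mul, add_smul, mul_smul, hσ1]
      exact h
    have hp := hinj (h1.trans (map_zero _).symm)
    refine Fin.forall_fin_two.2 ⟨?_, ?_⟩
    · simpa using congrArg (fun p => p.coeff 0) hp
    · simpa using congrArg (fun p => p.coeff 1) hp
  haveI := isNoetherian_of_proper k (X := X)
  haveI := finite_HH_of_isCoh k (isCoh_of_isInvertible k hL) 0
  haveI : Module.Finite k (GA φ L) := Module.Finite.equiv (hhZero k L)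
  have := hind.fintype_card_le_finrank
  rw [Fintype.card_fin, ← (hhZero k L).finrank_eq] at this
  exact this

section
variable [GeometricallyIntegral (X ↘ Spec (CommRingCat.of k))]

theorem h0_tensorPow_algClosed [IsAlgClosed k] (hdim : topologicalKrullDim X = 1) {L : X.Modules}
    (hL : PicF.IsInvertible L) (hdeg : Curv2.deg k X L 1 = 2) (h2 : 2 ≤ Module.finrank k (Coh.HH X L 0)) :
    ∀ r : ℕ, r + 1 ≤ Curv2.genus k X → Module.finrank k (Coh.HH X (CohB1.tensorPow L r) 0) = r + 1
  | 0, _ => CurveRR24.h0_structure_of_geomIntegral k (X := X)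
  | r + 1, hr => by
    haveI := EulerLib.isNoetherian_of_proper k (X := X)
    have ih := h0_tensorPow_algClosed hdim hL hdeg h2 r (by omega)
    have hpow := AmpleLib.isInvertible_tensorPow hL r
    have hlow := h0_add_h0_le k hdim (fun P _ => isIntegrallyClosed_stalk_of_smooth k P) hpow hL
      (Module.nontrivial_of_finrank_pos (R := k) (by omega))
      (Module.nontrivial_of_finrank_pos (R := k) (by omega))
    change _ ≤ Module.finrank k (Coh.HH X (CohB1.tensorPow L (r + 1)) 0) + 1 at hlow
    obtain ⟨N, hN, ⟨e⟩⟩ := CurveRR24.exists_inverse k (AmpleLib.isInvertible_tensorPow hL (r + 1))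
    have hrr := riemann_roch_omega k hdim (AmpleLib.isInvertible_tensorPow hL (r + 1)) hN e
    rw [deg_tensorPow k hdim.le hL, hdeg] at hrr
    by_cases hb : Module.finrank k
        (Coh.HH X (CohB1.tensorMod (Omega.sheaf (X ↘ Spec (CommRingCat.of k))) N) 0) = 0
    · omega
    · have hc := clifford k hdim (AmpleLib.isInvertible_tensorPow hL (r + 1)) hN e
        (Module.nontrivial_of_finrank_pos (R := k) (by omega))
        (Module.nontrivial_of_finrank_pos (R := k) (Nat.pos_of_ne_zero hb))
      rw [deg_tensorPow k hdim.le hL, hdeg] at hc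
      omega

/-- `h⁰(L^r) = r + 1` for a `g¹₂` and `r ≤ g - 1`, over any field. -/
theorem h0_tensorPow (hdim : topologicalKrullDim X = 1) {L : X.Modules}
    (hL : PicF.IsInvertible L) (hdeg : Curv2.deg k X L 1 = 2) (h2 : 2 ≤ Module.finrank k (Coh.HH X L 0))
    (r : ℕ) (hr : r + 1 ≤ Curv2.genus k X) :
    Module.finrank k (Coh.HH X (CohB1.tensorPow L r) 0) = r + 1 := by
  let q := X ↘ Spec (CommRingCat.of k)
  let K := AlgebraicClosure k
  let sK := Spec.map (CommRingCat.ofHom (algebraMap k K))
  let X' := pullback q sK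
  let g : X' ⟶ X := pullback.fst _ _
  let _ : X'.Over (Spec (CommRingCat.of K)) := ⟨pullback.snd _ _⟩
  let q' := X' ↘ Spec (CommRingCat.of K)
  have hpb : IsPullback g q' q sK := IsPullback.of_hasPullback _ _
  haveI : IsProper q' := inferInstanceAs (IsProper (pullback.snd q sK))
  haveI : Smooth q' := inferInstanceAs (Smooth (pullback.snd q sK))
  haveI : GeometricallyIntegral q' := inferInstanceAs (GeometricallyIntegral (pullback.snd q sK))
  haveI : IsIntegral X' := GeometricallyIntegral.geometrically_isIntegral (f := q) sK g q' hpb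
  haveI := EulerLib.isNoetherian_of_proper k (X := X)
  haveI := isQCoh_of_isInvertible hL
  haveI := isQCoh_of_isInvertible (AmpleLib.isInvertible_tensorPow hL r)
  obtain ⟨e, -⟩ := AmpleLib.exists_pullPowIso g hL r
  have h := h0_tensorPow_algClosed K (X := X') ((DimLib.topologicalKrullDim_bc q K).trans hdim)
    (PicLoc.isInvertible_pullback g hL) (by rw [deg_bc hpb, hdeg]) (by rw [finrank_HH_bc hpb L 0]; exact h2) r
    (by rw [genus_bc hpb]; exact hr)
  rwa [← finrank_HH_congr K e 0, finrank_HH_bc hpb (CohB1.tensorPow L r) 0] at h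

/-- `L^{g-1}` is canonical for a `g¹₂`. -/
theorem nonempty_tensorPow_iso_omega (hdim : topologicalKrullDim X = 1) {L : X.Modules}
    (hL : PicF.IsInvertible L) (hdeg : Curv2.deg k X L 1 = 2) (h2 : 2 ≤ Module.finrank k (Coh.HH X L 0))
    (hg : 1 ≤ Curv2.genus k X) :
    Nonempty (CohB1.tensorPow L (Curv2.genus k X - 1) ≅ Omega.sheaf (X ↘ Spec (CommRingCat.of k))) := by
  haveI := EulerLib.isNoetherian_of_proper k (X := X)
  let n := Curv2.genus k X - 1
  let Ω := Omega.sheaf (X ↘ Spec (CommRingCat.of k))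
  have hΩ : PicF.IsInvertible Ω := OmegaDual24.isInvertible_omega (k := k) hdim
  have hp := AmpleLib.isInvertible_tensorPow hL n
  have h0 := h0_tensorPow k hdim hL hdeg h2 n (by omega)
  have hdn : Curv2.deg k X (CohB1.tensorPow L n) 1 = 2 * (n : ℤ) := by
    rw [deg_tensorPow k hdim.le hL, hdeg]; ring
  obtain ⟨N, hN, ⟨e⟩⟩ := CurveRR24.exists_inverse k hp
  have hrr := riemann_roch_omega k hdim hp hN e
  rw [h0, hdn] at hrr
  change _ - (Module.finrank k (Coh.HH X (CohB1.tensorMod Ω N) 0) : ℤ) = _ at hrr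
  have hT := AmpleLib.isInvertible_tensorMod hΩ hN
  have hdT : Curv2.deg k X (CohB1.tensorMod Ω N) 1 = 0 := by
    rw [deg_tensor k hdim.le hΩ hN]
    have h := deg_tensor k hdim.le hp hN
    rw [deg_congr k e, deg_structure, hdn] at h
    have hd : Curv2.deg k X Ω 1 = 2 * (Curv2.genus k X : ℤ) - 2 := OmegaDual24.deg_omega k hdim (X := X)
    omega
  obtain ⟨e'⟩ := (deg_nonneg_of_section k hdim.le hT
    (Module.nontrivial_of_finrank_pos (R := k) (by omega))).2.1 hdT
  obtain ⟨a⟩ := exists_assocIso' Ω hN hp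
  exact ⟨(AmpleLib.unitTensorIso (CohB1.tensorPow L n)).symm ≪≫ AmpleLib.tensorIso e'.symm (Iso.refl _) ≪≫ a ≪≫
    AmpleLib.tensorIso (Iso.refl Ω) (AmpleLib.tensorComm N _ ≪≫ e) ≪≫ AmpleLib.tensorComm _ _ ≪≫
    AmpleLib.unitTensorIso Ω⟩

end

end Groth.Agent.Clifford24
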