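import Groth.Agent.Clifford24.Main
import Groth.Agent.CurveRR24.AlgClosed
import Groth.Agent.CurveRR24.DegGroup

/-!
# `h⁰(L) ≤ deg L` over any field, and global generation of the canonical sheaf
-/

set_option autoImplicit false
set_option linter.style.haveILetI false
set_option linter.unusedSectionVars false
set_option backward.isDefEq.respectTransparency.types false

universe u

open CategoryTheory CategoryTheory.Limits AlgebraicGeometry Opposite TopologicalSpace
open Groth.Agent.Coherent Groth.Agent.PicLib Groth.Agent.AmpleLib Groth.Agent.EulerLib Groth.Agent.CurveRR24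

namespace Groth.Agent.Clifford24

variable {X : Scheme.{u}} (k : Type u) [Field k] [X.Over (Spec (CommRingCat.of k))]
  [IsProper (X ↘ Spec (CommRingCat.of k))] [IsIntegral X] [Smooth (X ↘ Spec (CommRingCat.of k))]
  [GeometricallyIntegral (X ↘ Spec (CommRingCat.of k))]

/-- `h⁰(L) ≤ deg L` for positive degree and positive genus. -/
theorem h0_le_deg_field (hdim : topologicalKrullDim X = 1) (hg : 1 ≤ Curv2.genus k X) {L : X.Modules}
    (hL : PicF.IsInvertible L) (hdeg : 0 < Curv2.deg k X L 1) :
    (Module.finrank k (Coh.HH X L 0) : ℤ) ≤ Curv2.deg k X L 1 := by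
  let q := X ↘ Spec (CommRingCat.of k)
  let K := AlgebraicClosure k
  let sK := Spec.map (CommRingCat.ofHom (algebraMap k K))
  let X' := pullback q sK
  let g : X' ⟶ X := pullback.fst _ _
  let _ : X'.Over (Spec (CommRingCat.of K)) := ⟨pullback.snd _ _⟩
  let q' := X' ↘ Spec (CommRingCat.of K)
  have hpb : IsPullback g q' q sK := IsPullback.of_hasPullback _ _
  haveI : IsProper q' := inferInstanceAs (IsProper (pullback.snd q sK))
  haveI : Smooth q' := inferInstanceAs (Smooth (pullback.snd q sK))
  haveI : IsIntegral X' := GeometricallyIntegral.geometrically_isIntegral (f := q) sK g q' hpb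
  haveI := EulerLib.isNoetherian_of_proper k (X := X)
  haveI := isQCoh_of_isInvertible hL
  have h := CurveRR24.h0_le_deg K ((DimLib.topologicalKrullDim_bc q K).trans hdim).le
    (by rw [genus_bc hpb]; exact hg) (PicLoc.isInvertible_pullback g hL) (by rw [deg_bc hpb]; exact hdeg)
  rwa [finrank_HH_bc hpb L 0, deg_bc hpb] at h

/-- `Ω` is globally generated in positive genus. -/
theorem globallyGenerated_omega (hdim : topologicalKrullDim X = 1) (hg : 1 ≤ Curv2.genus k X) :
    Curv2.IsGloballyGenerated (Omega.sheaf (X ↘ Spec (CommRingCat.of k))) := by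
  haveI := EulerLib.isNoetherian_of_proper k (X := X)
  let Ω := Omega.sheaf (X ↘ Spec (CommRingCat.of k))
  have hΩ : PicF.IsInvertible Ω := OmegaDual24.isInvertible_omega (k := k) hdim
  refine globallyGenerated_of_closedPoints k hΩ fun P hP => exists_mem_glocus_of_h0_ne k hP hΩ fun he => ?_
  have hI := isInvertible_ptIdeal_of_normal k hdim hP (isIntegrallyClosed_stalk_of_smooth k P)
  obtain ⟨N, hN, ⟨e⟩⟩ := CurveRR24.exists_inverse k hI
  have hrr := riemann_roch_omega k hdim hN hI (tensorComm _ _ ≪≫ e)
  let _ := Curv2.resAlgebra k X P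
  haveI := finite_resField hP k
  have hd : 0 < Module.finrank k (X.residueField P) := Module.finrank_pos
  have hdN : Curv2.deg k X N 1 = Module.finrank k (X.residueField P) := by
    have h := deg_tensor k hdim.le hI hN
    rw [deg_congr k e, deg_structure, deg_ptIdeal k hP] at h
    omega
  have hb := h0_le_deg_field k hdim hg hN (by rw [hdN]; exact_mod_cast hd)
  rw [he, (OmegaDual24.finrank_omega k hdim).1] at hrr
  omega

end Groth.Agent.Clifford24
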