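import Groth.Agent.Clifford24.Canonical
import Groth.Agent.Clifford24.Sub
import Groth.Agent.EulerLib.StabBasic
import Groth.Agent.AmpleLib.Twist2

/-!
# The greatest common divisor of two sections; equality in Clifford's theorem
-/

set_option autoImplicit false
set_option linter.style.haveILetI false
set_option linter.unusedSectionVars false
set_option backward.isDefEq.respectTransparency.types false
set_option maxHeartbeats 1000000

universe u

open CategoryTheory CategoryTheory.Limits AlgebraicGeometry Opposite TopologicalSpace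
open Groth.Agent.Coherent Groth.Agent.PicLib Groth.Agent.AmpleLib Groth.Agent.EulerLib Groth.Agent.CurveRR24

namespace Groth.Agent.Clifford24

variable {X : Scheme.{u}}

local notation "St" => DerSch.stalkFunctor X

/-- The map `N ⟶ O` attached to a section `s` of an inverse `L` of `N`. -/
noncomputable def dualSec {L N : X.Modules} (e : CohB1.tensorMod L N ≅ Coh.structureModule X) (s : Γ(L, ⊤)) :
    N ⟶ Coh.structureModule X :=
  (unitTensorIso N).inv ≫ tensorMap (unitDesc L s) (𝟙 N) ≫ e.hom

/-- On stalks the image of `dualSec` lies in the maximal ideal exactly where the section vanishes. -/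
theorem dualSec_stalk {L N : X.Modules} (hL : PicF.IsInvertible L) (hN : PicF.IsInvertible N)
    (e : CohB1.tensorMod L N ≅ Coh.structureModule X) (s : Γ(L, ⊤)) (P : X) :
    P ∉ glocus L s ↔ ∀ w : N.presheaf.stalk P, (St P).map (dualSec e s) w ∈
      (IsLocalRing.maximalIdeal (X.presheaf.stalk P) •
        (⊤ : Submodule (X.presheaf.stalk P) ((Coh.structureModule X).presheaf.stalk P))) := by
  obtain ⟨U₁, h₁, g₁, hg₁⟩ := exists_isGen hL P
  obtain ⟨U₂, h₂, g₂, hg₂⟩ := exists_isGen hN P
  let U := U₁ ⊓ U₂
  have hP : P ∈ U := ⟨h₁, h₂⟩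
  have hg := hg₁.restrict (inf_le_left : U ≤ U₁)
  have hn := hg₂.restrict (inf_le_right : U ≤ U₂)
  let g := resM L (inf_le_left : U ≤ U₁) g₁
  let n := resM N (inf_le_right : U ≤ U₂) g₂
  let f := hg.coef le_rfl (resM L (le_top : U ≤ ⊤) s)
  have hf : f • g = resM L (le_top : U ≤ ⊤) s := by
    have := hg.coef_spec le_rfl (resM L (le_top : U ≤ ⊤) s)
    rwa [resM_self] at this
  have hε : IsGen (Coh.structureModule X) U (e.hom.app U (tmul g n)) := isGen_map_iso e (isGen_tmul hg hn)
  let c := (isGen_oneSec U).coef le_rfl (e.hom.app U (tmul g n))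
  have hc : c • oneSec U = e.hom.app U (tmul g n) := by
    have := (isGen_oneSec U).coef_spec le_rfl (e.hom.app U (tmul g n))
    rwa [resM_self] at this
  have hcu : IsUnit c := (isGen_oneSec U).isUnit_coef hε
  have happ : (dualSec e s).app U n = (f * c) • oneSec U := by
    show e.hom.app U ((tensorMap (unitDesc L s) (𝟙 N)).app U
      (tmul (show Γ(Coh.structureModule X, U) from (1 : Γ(X, U))) n)) = _
    rw [tensorMap_tmul, unitDesc_app, one_smul, ← hf]
    show e.hom.app U (tmul (f • g) n) = _
    rw [tmul_smul_left, Scheme.Modules.Hom.app_smul, ← hc, mul_smul]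
  have hb := EmbLib24.bijective_smul_germ (isGen_oneSec U) hP
  have hstalk : (St P).map (dualSec e s) (N.presheaf.germ U P hP n) =
      X.presheaf.germ U P hP (f * c) • (Coh.structureModule X).presheaf.germ U P hP (oneSec U) := by
    refine (Coherent.stalk_map_germ (dualSec e s) hP n).trans ?_
    rw [happ]
    exact QCohLoc.germ_smul' (M := Coh.structureModule X) hP _ _
  have hfP : P ∈ glocus L s ↔ IsUnit (X.presheaf.germ U P hP f) := by
    rw [← X.mem_basicOpen f P hP]
    exact ⟨fun h => (glocus_inf s hg).le ⟨h, hP⟩, fun h => ((glocus_inf s hg).ge h).1⟩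
  constructor
  · intro hs w
    obtain ⟨r, rfl⟩ := (EmbLib24.bijective_smul_germ hn hP).2 w
    beta_reduce
    let φ := ((St P).map (dualSec e s)).hom
    have h1 : φ (r • N.presheaf.germ U P hP n) = r • φ (N.presheaf.germ U P hP n) := φ.map_smul r _
    have h2 : φ (N.presheaf.germ U P hP n) ∈ (IsLocalRing.maximalIdeal (X.presheaf.stalk P) •
        (⊤ : Submodule (X.presheaf.stalk P) ((Coh.structureModule X).presheaf.stalk P))) := by
      refine (congrArg (· ∈ _) hstalk).mpr ((EmbLib24.mem_smul_top_iff _ hb _ _).2 ?_)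
      rw [map_mul]
      exact Ideal.mul_mem_right _ _ ((IsLocalRing.mem_maximalIdeal _).2 fun h => hs (hfP.2 h))
    exact (congrArg (· ∈ _) h1).mpr (Submodule.smul_mem _ r h2)
  · intro h hs
    have := (EmbLib24.mem_smul_top_iff _ hb _ _).1
      ((congrArg (· ∈ _) hstalk).mp (h (N.presheaf.germ U P hP n)))
    refine (IsLocalRing.mem_maximalIdeal _).1 this ?_
    rw [map_mul]
    exact (hfP.1 hs).mul (hcu.map _)

variable (k : Type u) [Field k] [X.Over (Spec (CommRingCat.of k))]
  [IsProper (X ↘ Spec (CommRingCat.of k))] [IsIntegral X]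

theorem dualSec_ne_zero {L N : X.Modules} (hL : PicF.IsInvertible L) (hN : PicF.IsInvertible N)
    (e : CohB1.tensorMod L N ≅ Coh.structureModule X) {s : Γ(L, ⊤)} (hs : s ≠ 0) : dualSec e s ≠ 0 := by
  intro h
  have hη := genericPoint_mem_glocus hL hs
  refine ((dualSec_stalk hL hN e s (genericPoint X)).2 fun w => ?_) hη
  rw [h]
  have : (St (genericPoint X)).map (0 : N ⟶ Coh.structureModule X) = 0 := (St (genericPoint X)).map_zero _ _
  rw [this]
  exact Submodule.zero_mem _

include k in
/-- A coherent submodule of `O` meeting every stalk is invertible on a normal curve. -/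
theorem isInvertible_of_mono (hdim : topologicalKrullDim X ≤ 1)
    (hn : ∀ x : X, IsIntegrallyClosed (X.presheaf.stalk x)) {J : X.Modules} (hJ : Coh.IsCoh J)
    (ι : J ⟶ Coh.structureModule X) [Mono ι] (hne : ∀ x : X, Nontrivial (J.presheaf.stalk x)) :
    PicF.IsInvertible J := by
  haveI := EulerLib.isNoetherian_of_proper k (X := X)
  haveI := hJ.1
  intro x
  let O := X.presheaf.stalk x
  haveI := CurvesLib24.isPrincipalIdealRing_stalk hdim x (hn x)
  let T := (Coh.structureModule X).presheaf.stalk x
  obtain ⟨bT⟩ := SplitP1.nonempty_basis_stalk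
    (PicLib.isFinLocFreeOfRank_one (AmpleLib.isInvertible_structureModule (X := X))) x
  haveI : Module.Free O T := Module.Free.of_basis bT
  haveI : Module.Finite O T := Module.Finite.of_basis bT
  let φ : J.presheaf.stalk x →ₗ[O] T := ((St x).map ι).hom
  have hinj : Function.Injective φ := (ModuleCat.mono_iff_injective ((St x).map ι)).1 inferInstance
  let E := LinearEquiv.ofInjective φ hinj
  haveI : Module.Finite O (LinearMap.range φ) := Module.IsNoetherian.finite O _
  haveI : Module.Free O (LinearMap.range φ) := Module.Free.of_basis ((LinearMap.range φ).basisOfPid bT).2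
  haveI : Module.Free O (J.presheaf.stalk x) := Module.Free.of_equiv E.symm
  haveI : Module.Finite O (J.presheaf.stalk x) := Module.Finite.equiv E.symm
  have hr : Module.finrank O (J.presheaf.stalk x) = 1 := by
    refine le_antisymm ?_ ?_
    · rw [E.finrank_eq]
      refine (Submodule.finrank_le _).trans ?_
      rw [Module.finrank_eq_card_basis bT, Fintype.card_fin]
    · haveI := hne x
      exact Module.finrank_pos
  obtain ⟨U, n, hxU, ⟨eU⟩⟩ := Props12.exists_nhd_free J (isFP_of_isCoh hJ) x inferInstance
  obtain ⟨W, hW, hxW, hWU⟩ := Opens.isBasis_iff_nbhd.mp X.isBasis_affineOpens hxU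
  obtain ⟨b⟩ := Props12.exists_basis_sections eU hWU
  let _ := (X.presheaf.germ W x hxW).hom.toAlgebra
  let _ := Module.compHom (J.presheaf.stalk x) (X.presheaf.germ W x hxW).hom
  have : IsScalarTower Γ(X, W) O (J.presheaf.stalk x) := IsScalarTower.of_algebraMap_smul fun _ _ => rfl
  let ψ : Γ(J, W) →ₗ[Γ(X, W)] J.presheaf.stalk x :=
    { toFun := J.presheaf.germ W x hxW
      map_add' := map_add _
      map_smul' := QCohLoc.germ_smul' (M := J) hxW }
  have := EGA43.QcohFP.isLocalizedModule_germ J hW hxW ψ fun _ => rfl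
  have := hW.isLocalization_stalk ⟨x, hxW⟩
  have hn1 : n = 1 := by
    rw [← hr, Module.finrank_eq_card_basis
      (b.ofIsLocalizedModule O (hW.primeIdealOf ⟨x, hxW⟩).asIdeal.primeCompl ψ), Fintype.card_fin]
  subst hn1
  exact ⟨U, hxU, ⟨eU ≪≫ freeModOneIso _⟩⟩

end Groth.Agent.Clifford24
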