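import Groth.Agent.Clifford24.Pencil
import Groth.Agent.CurveRR24.Ample

/-!
# Pencils of degree five on a genus nine curve of Clifford index three
-/

set_option autoImplicit false
set_option linter.style.haveILetI false
set_option linter.unusedSectionVars false
set_option backward.isDefEq.respectTransparency.types false

universe u

open CategoryTheory CategoryTheory.Limits AlgebraicGeometry Opposite TopologicalSpace
open Groth.Agent.Coherent Groth.Agent.PicLib Groth.Agent.AmpleLib Groth.Agent.EulerLib Groth.Agent.CurveRR24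

namespace Groth.Agent.Clifford24

variable {X : Scheme.{u}} (k : Type u) [Field k] [IsAlgClosed k] [X.Over (Spec (CommRingCat.of k))]
  [IsProper (X ↘ Spec (CommRingCat.of k))] [IsIntegral X]
  [Smooth (X ↘ Spec (CommRingCat.of k))] [GeometricallyIntegral (X ↘ Spec (CommRingCat.of k))]
  (hdim : topologicalKrullDim X = 1) (hg : Curv2.genus k X = 9)
  (hmin : ∀ M : X.Modules, PicF.IsInvertible M → 2 ≤ Module.finrank k (Coh.HH X M 0) →
      2 ≤ Module.finrank k (Coh.HH X M 1) → 2 * (Module.finrank k (Coh.HH X M 0) : ℤ) + 1 ≤ Curv2.deg k X M 1)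

include hdim hg in
/-- Riemann–Roch in genus nine. -/
theorem h0_sub_h1_nine {M : X.Modules} (hM : PicF.IsInvertible M) :
    (Module.finrank k (Coh.HH X M 0) : ℤ) - Module.finrank k (Coh.HH X M 1) = Curv2.deg k X M 1 - 8 := by
  have hO := CurveRR24.h0_structure_of_geomIntegral k (X := X)
  have e1 := CurveRR24.euler_eq_h0_sub_h1 k hdim.le M (CurveRR24.isCoh_of_isInvertible k hM).1
  have e2 := CurveRR24.euler_eq_h0_sub_h1 k hdim.le (Coh.structureModule X) Coherent.isQCoh_structureModule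
  rw [hO] at e2
  have hg' : (Module.finrank k (Coh.HH X (Coh.structureModule X) 1) : ℤ) = 9 := by
    have : Module.finrank k (Coh.HH X (Coh.structureModule X) 1) = 9 := hg
    rw [this]; rfl
  rw [hg'] at e2
  simp only [Curv2.deg, Nat.cast_one, one_mul]
  rw [e1, e2]
  push_cast
  ring

include hdim in
/-- `h¹(P) = h⁰(Q)` when `P ⊗ Q ≅ Ω`. -/
theorem h1_eq_h0_of_tensor_omega {P Q : X.Modules} (hP : PicF.IsInvertible P) (hQ : PicF.IsInvertible Q)
    (e : CohB1.tensorMod P Q ≅ Omega.sheaf (X ↘ Spec (CommRingCat.of k))) :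
    Module.finrank k (Coh.HH X P 1) = Module.finrank k (Coh.HH X Q 0) := by
  obtain ⟨N, hN, ⟨eN⟩⟩ := CurveRR24.exists_inverse k hP
  let Ω := Omega.sheaf (X ↘ Spec (CommRingCat.of k))
  have hΩ : PicF.IsInvertible Ω := OmegaDual24.isInvertible_omega (k := k) hdim
  obtain ⟨a⟩ := exists_assocIso' Ω hN hP
  have e' : CohB1.tensorMod P (CohB1.tensorMod Ω N) ≅ Ω :=
    tensorComm _ _ ≪≫ a ≪≫ AmpleLib.tensorIso (Iso.refl Ω) (tensorComm N P ≪≫ eN) ≪≫ tensorComm _ _ ≪≫ unitTensorIso Ω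
  obtain ⟨eQ⟩ := nonempty_iso_of_tensor_iso k hP hQ (AmpleLib.isInvertible_tensorMod hΩ hN) (e ≪≫ e'.symm)
  rw [h1_eq_h0_omega k hdim hP hN eN, CurveRR24.finrank_HH_congr k eQ 0]

include hdim hg hmin in
/-- `h⁰ ≤ 4` in degree ten. -/
theorem h0_le_four_of_deg_ten {M : X.Modules} (hM : PicF.IsInvertible M) (hd : Curv2.deg k X M 1 = 10) :
    Module.finrank k (Coh.HH X M 0) ≤ 4 := by
  have h := h0_sub_h1_nine k hdim hg hM
  by_contra hc
  have := hmin M hM (by omega) (by omega)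
  omega

include hdim hg hmin in
theorem h0_tensor_pencils {D₁ D₂ : X.Modules} (h₁ : PicF.IsInvertible D₁) (h₂ : PicF.IsInvertible D₂)
    (hg₁ : Curv2.IsGloballyGenerated D₁) (hd₁ : Curv2.deg k X D₁ 1 = 5) (hd₂ : Curv2.deg k X D₂ 1 = 5)
    (h0₁ : Module.finrank k (Coh.HH X D₁ 0) = 2) (h0₂ : Module.finrank k (Coh.HH X D₂ 0) = 2)
    (hne : IsEmpty (D₁ ≅ D₂)) :
    Module.finrank k (Coh.HH X (CohB1.tensorMod D₁ D₂) 0) = 4 := by
  obtain ⟨N, hN, ⟨eN⟩⟩ := CurveRR24.exists_inverse k h₁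
  let A := CohB1.tensorMod D₂ N
  have hA : PicF.IsInvertible A := AmpleLib.isInvertible_tensorMod h₂ hN
  have hdA : Curv2.deg k X A 1 = 0 := by
    rw [deg_tensor k hdim.le h₂ hN]
    have h := deg_tensor k hdim.le h₁ hN
    rw [deg_congr k eN, deg_structure, hd₁] at h
    omega
  obtain ⟨a⟩ := exists_assocIso' D₂ hN h₁
  let eAD : CohB1.tensorMod A D₁ ≅ D₂ :=
    a ≪≫ AmpleLib.tensorIso (Iso.refl D₂) (tensorComm N D₁ ≪≫ eN) ≪≫ tensorComm _ _ ≪≫ unitTensorIso D₂
  have hA0 : Module.finrank k (Coh.HH X A 0) = 0 := by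
    by_contra hpos
    obtain ⟨eA⟩ := (deg_nonneg_of_section k hdim.le hA
      (Module.nontrivial_of_finrank_pos (R := k) (Nat.pos_of_ne_zero hpos))).2.1 hdA
    exact hne.false ((eAD.symm ≪≫ AmpleLib.tensorIso eA (Iso.refl D₁) ≪≫ unitTensorIso D₁).symm)
  have h := pencil_trick k hdim h₁ hg₁ h0₁ hA
  rw [CurveRR24.finrank_HH_congr k eAD 0, h0₂, hA0,
    CurveRR24.finrank_HH_congr k (AmpleLib.tensorIso eAD (Iso.refl D₁) ≪≫ tensorComm _ _) 0] at h
  have hle := h0_le_four_of_deg_ten k hdim hg hmin (AmpleLib.isInvertible_tensorMod h₁ h₂)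
    (by rw [deg_tensor k hdim.le h₁ h₂, hd₁, hd₂]; norm_num)
  omega

include hdim hg hmin in
theorem h0_difference {H D : X.Modules} (hH : PicF.IsInvertible H) (hdH : Curv2.deg k X H 1 = 7)
    (h0H : Module.finrank k (Coh.HH X H 0) = 3) (hD : PicF.IsInvertible D) (hgD : Curv2.IsGloballyGenerated D)
    (hdD : Curv2.deg k X D 1 = 5) (h0D : Module.finrank k (Coh.HH X D 0) = 2)
    (N : X.Modules) (e : CohB1.tensorMod D N ≅ H) :
    Module.finrank k (Coh.HH X N 0) = 1 := by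
  obtain ⟨N', hN', ⟨eN'⟩⟩ := CurveRR24.exists_inverse k hH
  obtain ⟨D', hD', ⟨eD'⟩⟩ := CurveRR24.exists_inverse k hD
  have hT : ∀ z : X, ∃ W : X.Opens, z ∈ W ∧ Nonempty ((CohB1.tensorMod D N).restrict W.ι ≅ Coh.structureModule W.toScheme) := by
    intro z
    obtain ⟨W, hz, ⟨e'⟩⟩ := hH z
    exact ⟨W, hz, ⟨(Scheme.Modules.restrictFunctor W.ι).mapIso e ≪≫ e'⟩⟩
  have hN : PicF.IsInvertible N := PicLib.PicM.isInvertible_of_tensor hD hT
  have hdN : Curv2.deg k X N 1 = 2 := by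
    have h := deg_tensor k hdim.le hD hN
    rw [deg_congr k e, hdH, hdD] at h
    omega
  let eND : CohB1.tensorMod N D ≅ H := tensorComm N D ≪≫ e
  have h := pencil_trick k hdim hD hgD h0D hN
  rw [CurveRR24.finrank_HH_congr k eND 0, h0H,
    CurveRR24.finrank_HH_congr k (AmpleLib.tensorIso eND (Iso.refl D)) 0] at h
  have hM := AmpleLib.isInvertible_tensorMod hH hD
  have hdM : Curv2.deg k X (CohB1.tensorMod H D) 1 = 12 := by
    rw [deg_tensor k hdim.le hH hD, hdH, hdD]; norm_num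
  have hle : Module.finrank k (Coh.HH X (CohB1.tensorMod H D) 0) ≤ 5 := by
    have hr := h0_sub_h1_nine k hdim hg hM
    by_contra hc
    have := hmin _ hM (by omega) (by omega)
    omega
  have hN1 : Module.finrank k (Coh.HH X N 0) ≤ 1 := by
    have hr := h0_sub_h1_nine k hdim hg hN
    by_contra hc
    have := hmin _ hN (by omega) (by omega)
    omega
  omega

include hdim hg hmin in
theorem h0_pencil_powers {D : X.Modules} (hD : PicF.IsInvertible D) (hgD : Curv2.IsGloballyGenerated D)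
    (hdD : Curv2.deg k X D 1 = 5) (h0D : Module.finrank k (Coh.HH X D 0) = 2) :
    (Module.finrank k (Coh.HH X (CohB1.tensorPow D 2) 0) = 3 ∨
        Module.finrank k (Coh.HH X (CohB1.tensorPow D 2) 0) = 4) ∧
      (Module.finrank k (Coh.HH X (CohB1.tensorPow D 3) 0) = 7 ∨
        Module.finrank k (Coh.HH X (CohB1.tensorPow D 3) 0) = 8) ∧
      (Module.finrank k (Coh.HH X (CohB1.tensorPow D 2) 0) = 3 →
        Module.finrank k (Coh.HH X (CohB1.tensorPow D 3) 0) = 7) := by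
  have h2 := AmpleLib.isInvertible_tensorPow hD 2
  have h3 := AmpleLib.isInvertible_tensorPow hD 3
  have hd2 : Curv2.deg k X (CohB1.tensorPow D 2) 1 = 10 := by
    rw [deg_tensorPow k hdim.le hD, hdD]; norm_num
  have hd3 : Curv2.deg k X (CohB1.tensorPow D 3) 1 = 15 := by
    rw [deg_tensorPow k hdim.le hD, hdD]; norm_num
  have r2 := h0_sub_h1_nine k hdim hg h2
  have r3 := h0_sub_h1_nine k hdim hg h3
  rw [hd2] at r2
  rw [hd3] at r3
  have hle2 := h0_le_four_of_deg_ten k hdim hg hmin h2 hd2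
  have hle3 : Module.finrank k (Coh.HH X (CohB1.tensorPow D 3) 0) ≤ 8 := by
    by_contra hc
    have := hmin _ h3 (by omega) (by omega)
    omega
  have hge2 : 3 ≤ Module.finrank k (Coh.HH X (CohB1.tensorPow D 2) 0) := by
    have h := h0_add_h0_le k hdim (fun P _ => isIntegrallyClosed_stalk_of_smooth k P) hD hD
      (Module.nontrivial_of_finrank_pos (R := k) (by omega)) (Module.nontrivial_of_finrank_pos (R := k) (by omega))
    have e2 : CohB1.tensorPow D 2 ≅ CohB1.tensorMod D D := AmpleLib.tensorIso (unitTensorIso D) (Iso.refl D)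
    rw [CurveRR24.finrank_HH_congr k e2 0]
    omega
  refine ⟨by omega, by omega, fun h => ?_⟩
  by_contra h7
  let Ω := Omega.sheaf (X ↘ Spec (CommRingCat.of k))
  have hΩ : PicF.IsInvertible Ω := OmegaDual24.isInvertible_omega (k := k) hdim
  obtain ⟨N3, hN3, ⟨e3⟩⟩ := CurveRR24.exists_inverse k h3
  obtain ⟨N1, hN1, ⟨e1⟩⟩ := CurveRR24.exists_inverse k hD
  let L3 := CohB1.tensorMod Ω N3
  have hL3 : PicF.IsInvertible L3 := AmpleLib.isInvertible_tensorMod hΩ hN3
  let A := CohB1.tensorMod L3 N1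
  have hA : PicF.IsInvertible A := AmpleLib.isInvertible_tensorMod hL3 hN1
  obtain ⟨a1⟩ := exists_assocIso' L3 hN1 hD
  let eAD : CohB1.tensorMod A D ≅ L3 :=
    a1 ≪≫ AmpleLib.tensorIso (Iso.refl L3) (tensorComm N1 D ≪≫ e1) ≪≫ tensorComm _ _ ≪≫ unitTensorIso L3
  obtain ⟨a3⟩ := exists_assocIso' Ω hN3 h3
  let e33 : CohB1.tensorMod (CohB1.tensorPow D 3) L3 ≅ Ω :=
    tensorComm _ _ ≪≫ a3 ≪≫ AmpleLib.tensorIso (Iso.refl Ω) (tensorComm N3 _ ≪≫ e3) ≪≫ tensorComm _ _ ≪≫ unitTensorIso Ω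
  have hh3 := h1_eq_h0_of_tensor_omega k hdim h3 hL3 e33
  obtain ⟨a2⟩ := exists_assocIso' (CohB1.tensorPow D 2) hD hL3
  let e22 : CohB1.tensorMod (CohB1.tensorPow D 2) (CohB1.tensorMod L3 D) ≅ Ω :=
    AmpleLib.tensorIso (Iso.refl _) (tensorComm L3 D) ≪≫ a2.symm ≪≫ e33
  have hh2 := h1_eq_h0_of_tensor_omega k hdim h2 (AmpleLib.isInvertible_tensorMod hL3 hD) e22
  have hA0 : Module.finrank k (Coh.HH X A 0) = 0 := by
    have hdA : Curv2.deg k X A 1 < 0 := by
      have hd' : Curv2.deg k X Ω 1 = 2 * (Curv2.genus k X : ℤ) - 2 := OmegaDual24.deg_omega k hdim (X := X)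
      rw [deg_tensor k hdim.le hL3 hN1, deg_tensor k hdim.le hΩ hN3, hd', hg]
      have h' := deg_tensor k hdim.le hD hN1
      rw [deg_congr k e1, deg_structure, hdD] at h'
      have h'' := deg_tensor k hdim.le h3 hN3
      rw [deg_congr k e3, deg_structure, hd3] at h''
      omega
    haveI := subsingleton_h0_of_deg_neg k hdim.le hA hdA
    exact Module.finrank_zero_of_subsingleton
  have ht := pencil_trick k hdim hD hgD h0D hA
  rw [CurveRR24.finrank_HH_congr k eAD 0, hA0,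
    CurveRR24.finrank_HH_congr k (AmpleLib.tensorIso eAD (Iso.refl D)) 0] at ht
  omega

end Groth.Agent.Clifford24
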