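import Groth.Prelude.Def_Tors
import Mathlib

/-! `H¹ = 0` iff all torsors have sections. -/

set_option autoImplicit false
universe u
open CategoryTheory CategoryTheory.Limits Opposite Abelian

namespace Groth.Agent.Clifford24.H1Tors

variable {C : Type u} [SmallCategory C] {J : GrothendieckTopology C}

/-- compatible values on a covering class of objects glue to a compatible family -/
theorem glue_global {F : Cᵒᵖ ⥤ Type u} (hF : Presieve.IsSheaf J F) (Good : C → Prop)
    (hd : ∀ {V U : C}, (V ⟶ U) → Good U → Good V)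
    (hc : ∀ U, ∃ S ∈ J U, ∀ ⦃V : C⦄ (f : V ⟶ U), S f → Good V)
    (x : ∀ U, Good U → F.obj (op U))
    (hx : ∀ {V U : C} (f : V ⟶ U) (h : Good U), F.map f.op (x U h) = x V (hd f h)) :
    ∃ y : ∀ U, F.obj (op U), (∀ {V U : C} (f : V ⟶ U), F.map f.op (y U) = y V) ∧
      ∀ U h, y U = x U h := by
  choose S hS hgood using hc
  let fam : ∀ U, Presieve.FamilyOfElements F (S U : Presieve U) := fun U V f hf => x V (hgood U f hf)
  have hfam : ∀ U, (fam U).Compatible := by
    intro U Y₁ Y₂ Z g₁ g₂ f₁ f₂ h₁ h₂ _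
    simp only [fam, hx]
  let y : ∀ U, F.obj (op U) := fun U => (hF (S U) (hS U)).amalgamate (fam U) (hfam U)
  have hy : ∀ U, (fam U).IsAmalgamation (y U) := fun U => (hF (S U) (hS U)).isAmalgamation (hfam U)
  have key : ∀ U h, y U = x U h := fun U h =>
    (hF (S U) (hS U)).isSeparatedFor (fam U) _ _ (hy U) fun V f hf => hx f h
  refine ⟨y, fun {V U} f => ?_, key⟩
  refine (hF (S V) (hS V)).isSeparatedFor (fam V) _ _ ?_ (hy V)
  intro W g hg
  have hgW := hgood V g hg
  rw [← FunctorToTypes.map_comp_apply, ← op_comp]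
  show F.map (g ≫ f).op (y U) = x W hgW
  refine (hF (S W) (hS W)).isSeparatedFor (fam W) _ _ ?_ ?_
  · intro Z e he
    rw [← FunctorToTypes.map_comp_apply, ← op_comp]
    have hZ := hgood W e he
    -- on `Z` both sides are `x Z`
    obtain ⟨T, hT, hTgood⟩ : ∃ T ∈ J Z, ∀ ⦃Y : C⦄ (r : Y ⟶ Z), T r → S U (r ≫ e ≫ g ≫ f) :=
      ⟨(S U).pullback (e ≫ g ≫ f), J.pullback_stable _ (hS U), fun Y r hr => hr⟩
    refine (hF T hT).isSeparatedFor (fun Y r hr => x Y (hd r hZ)) _ _ ?_ fun Y r hr => hx r hZ
    intro Y r hr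
    rw [← FunctorToTypes.map_comp_apply, ← op_comp]
    exact hy U (r ≫ e ≫ g ≫ f) (hTgood r hr)
  · intro Z e he
    exact hx e hgW

theorem isSheaf_ab (A : Sheaf J AddCommGrpCat.{u}) :
    Presieve.IsSheaf J (A.obj ⋙ forget AddCommGrpCat.{u}) :=
  (isSheaf_iff_isSheaf_of_type J _).mp ((sheafCompose J (forget AddCommGrpCat.{u})).obj A).property

noncomputable abbrev Z : Sheaf J AddCommGrpCat.{u} :=
  (constantSheaf J AddCommGrpCat.{u}).obj (AddCommGrpCat.of (ULift.{u} ℤ))

noncomputable def adjHom (A : Sheaf J AddCommGrpCat.{u}) :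
    ((Z : Sheaf J AddCommGrpCat.{u}) ⟶ A) ≃
      ((Functor.const Cᵒᵖ).obj (AddCommGrpCat.of (ULift.{u} ℤ)) ⟶ A.obj) :=
  (sheafificationAdjunction J AddCommGrpCat.{u}).homEquiv _ A

/-- the family of values at `1` -/
noncomputable def val (A : Sheaf J AddCommGrpCat.{u}) (a : (Z : Sheaf J AddCommGrpCat.{u}) ⟶ A)
    (U : Cᵒᵖ) : A.obj.obj U :=
  ((adjHom A a).app U).hom (ULift.up 1)

theorem val_map (A : Sheaf J AddCommGrpCat.{u}) (a : Z ⟶ A) {U V : Cᵒᵖ} (f : U ⟶ V) :
    A.obj.map f (val A a U) = val A a V :=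
  (congrArg (fun φ => φ.hom (ULift.up (1 : ℤ))) ((adjHom A a).naturality f)).symm

theorem val_comp {A B : Sheaf J AddCommGrpCat.{u}} (a : Z ⟶ A) (φ : A ⟶ B) (U : Cᵒᵖ) :
    val B (a ≫ φ) U = φ.hom.app U (val A a U) := by
  simp only [val, adjHom, Adjunction.homEquiv_naturality_right]
  rfl

theorem val_injective {A : Sheaf J AddCommGrpCat.{u}} {a b : Z ⟶ A} (h : ∀ U, val A a U = val A b U) :
    a = b := by
  refine (adjHom A).injective (NatTrans.ext (funext fun U => ?_))
  ext n
  obtain ⟨n⟩ := n
  have : (ULift.up n : ULift.{u} ℤ) = n • ULift.up 1 := by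
    apply ULift.ext; simp
  rw [this]
  show ((adjHom A a).app U).hom _ = ((adjHom A b).app U).hom _
  rw [map_zsmul, map_zsmul]
  exact congrArg (n • ·) (h U)

theorem exists_hom {A : Sheaf J AddCommGrpCat.{u}} (s : ∀ U, A.obj.obj U)
    (hs : ∀ {U V : Cᵒᵖ} (f : U ⟶ V), A.obj.map f (s U) = s V) :
    ∃ a : Z ⟶ A, ∀ U, val A a U = s U := by
  let η : (Functor.const Cᵒᵖ).obj (AddCommGrpCat.of (ULift.{u} ℤ)) ⟶ A.obj :=
    { app := fun U => AddCommGrpCat.ofHom
        ((zmultiplesHom (A.obj.obj U) (s U)).comp AddEquiv.ulift.toAddMonoidHom)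
      naturality := fun U V f => by
        ext n
        show n.down • s V = A.obj.map f (n.down • s U)
        rw [map_zsmul, hs] }
  refine ⟨(adjHom A).symm η, fun U => ?_⟩
  simp only [val, Equiv.apply_symm_apply]
  exact one_zsmul (s U)

theorem hasSection_of_family {G : Sheaf J AddCommGrpCat.{u}} (T : Tors.Torsor G)
    (s : ∀ U : C, T.P.obj.obj (op U)) (hs : ∀ {V U : C} (f : V ⟶ U), T.P.obj.map f.op (s U) = s V) :
    T.HasSection := by
  let one : Sheaf J (Type u) :=
    ⟨(Functor.const Cᵒᵖ).obj PUnit.{u + 1}, by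
      rw [isSheaf_iff_isSheaf_of_type]
      intro X S _ x _
      exact ⟨PUnit.unit, fun Y g hg => rfl, fun t _ => rfl⟩⟩
  let τ : one ⟶ T.P :=
    { hom :=
      { app := fun U => ↾fun _ => s U.unop
        naturality := fun U V f => by
          ext a
          exact (hs f.unop).symm } }
  refine ⟨?_⟩
  have hterm : IsTerminal one := IsTerminal.ofUniqueHom
    (fun W => { hom := { app := fun U => ↾fun _ => PUnit.unit } })
    (fun W m => by apply Sheaf.hom_ext; ext U x; rfl)
  exact hterm.from _ ≫ τ

theorem family_of_hasSection {G : Sheaf J AddCommGrpCat.{u}} (T : Tors.Torsor G) (h : T.HasSection) :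
    ∃ s : ∀ U : C, T.P.obj.obj (op U), ∀ {V U : C} (f : V ⟶ U), T.P.obj.map f.op (s U) = s V := by
  let one : Sheaf J (Type u) :=
    ⟨(Functor.const Cᵒᵖ).obj PUnit.{u + 1}, by
      rw [isSheaf_iff_isSheaf_of_type]
      intro X S _ x _
      exact ⟨PUnit.unit, fun Y g hg => rfl, fun t _ => rfl⟩⟩
  obtain ⟨σ⟩ := h
  let τ : one ⟶ T.P := Limits.terminal.from one ≫ σ
  exact ⟨fun U => τ.hom.app (op U) PUnit.unit, fun {V U} f =>
    (ConcreteCategory.congr_hom (τ.hom.naturality f.op) PUnit.unit).symm⟩

section Seq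

variable (G : Sheaf J AddCommGrpCat.{u})

theorem main : Subsingleton (Sheaf.H.{u} G 1) ↔ ∀ T : Tors.Torsor G, T.HasSection := by
  classical
  let I := Injective.under G
  let ι : G ⟶ I := Injective.ι G
  let S : ShortComplex (Sheaf J AddCommGrpCat.{u}) := ShortComplex.mk ι (cokernel.π ι) (cokernel.condition ι)
  have hS : S.ShortExact := { exact := ShortComplex.exact_cokernel ι }
  haveI : Injective I.obj :=
    Injective.injective_of_adjoint (sheafificationAdjunction J AddCommGrpCat.{u}) I
  let p : I ⟶ cokernel ι := cokernel.π ι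
  -- left exactness on sections
  haveI : Mono ι.hom := inferInstanceAs (Mono ((sheafToPresheaf J AddCommGrpCat.{u}).map ι))
  have hιinj : ∀ U, Function.Injective (ι.hom.app U).hom := fun U =>
    (AddCommGrpCat.mono_iff_injective _).mp inferInstance
  have hex : ∀ (U : Cᵒᵖ) (i : I.obj.obj U), p.hom.app U i = 0 → ∃ g, ι.hom.app U g = i := by
    intro U i hi
    have h := ((hS.exact.map_of_mono_of_preservesKernel
      (sheafToPresheaf J AddCommGrpCat.{u} ⋙ (evaluation Cᵒᵖ AddCommGrpCat.{u}).obj U)
      (by infer_instance) (by infer_instance)))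
    exact (ShortComplex.ab_exact_iff _).mp h i hi
  have hcomp : ∀ U g, p.hom.app U (ι.hom.app U g) = 0 := fun U g => by
    have h : (ι ≫ p).hom.app U g = (0 : G ⟶ cokernel ι).hom.app U g := by rw [cokernel.condition]
    exact h
  constructor
  · intro hH T
    -- a map of the torsor into `I`
    let R : ∀ U : Cᵒᵖ, AddSubgroup ((T.P.obj.obj U →₀ ℤ) × G.obj.obj U) := fun U =>
      AddSubgroup.closure (Set.range fun q : G.obj.obj U × T.P.obj.obj U =>
        (Finsupp.single (T.vadd q.1 q.2) (1 : ℤ) - Finsupp.single q.2 1, -q.1))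
    have hR : ∀ {U V : Cᵒᵖ} (f : U ⟶ V), R U ≤ (R V).comap
        ((Finsupp.mapDomain.addMonoidHom (T.P.obj.map f)).prodMap (G.obj.map f).hom) := by
      intro U V f
      rw [AddSubgroup.closure_le]
      rintro _ ⟨⟨g, q⟩, rfl⟩
      refine AddSubgroup.subset_closure ⟨(G.obj.map f g, T.P.obj.map f q), ?_⟩
      simp only [AddMonoidHom.coe_prodMap, Prod.map_apply, map_sub, map_neg,
        Finsupp.mapDomain.addMonoidHom_apply, Finsupp.mapDomain_single, T.map_vadd]
    let E : Cᵒᵖ ⥤ AddCommGrpCat.{u} :=
      { obj := fun U => AddCommGrpCat.of (((T.P.obj.obj U →₀ ℤ) × G.obj.obj U) ⧸ R U)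
        map := fun {U V} f => AddCommGrpCat.ofHom (QuotientAddGroup.map (R U) (R V) _ (hR f))
        map_id := fun U => by
          refine AddCommGrpCat.hom_ext (QuotientAddGroup.addMonoidHom_ext _ (AddMonoidHom.ext fun z => ?_))
          obtain ⟨z, g⟩ := z
          show QuotientAddGroup.mk (Finsupp.mapDomain (T.P.obj.map (𝟙 U)) z, G.obj.map (𝟙 U) g) = _
          rw [show (⇑(ConcreteCategory.hom (T.P.obj.map (𝟙 U)))) = id from funext fun q => by simp,
            Finsupp.mapDomain_id, G.obj.map_id]
          rfl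
        map_comp := fun {U V W} f f' => by
          refine AddCommGrpCat.hom_ext (QuotientAddGroup.addMonoidHom_ext _ (AddMonoidHom.ext fun z => ?_))
          obtain ⟨z, g⟩ := z
          show QuotientAddGroup.mk (Finsupp.mapDomain (T.P.obj.map (f ≫ f')) z, G.obj.map (f ≫ f') g) =
            QuotientAddGroup.mk (Finsupp.mapDomain (T.P.obj.map f') (Finsupp.mapDomain (T.P.obj.map f) z),
              G.obj.map f' (G.obj.map f g))
          rw [← Finsupp.mapDomain_comp, G.obj.map_comp,
            show (⇑(ConcreteCategory.hom (T.P.obj.map (f ≫ f')))) =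
              (⇑(ConcreteCategory.hom (T.P.obj.map f'))) ∘ (⇑(ConcreteCategory.hom (T.P.obj.map f))) from
              funext fun q => by simp]
          rfl }
    let incl : G.obj ⟶ E :=
      { app := fun U => AddCommGrpCat.ofHom ((QuotientAddGroup.mk' (R U)).comp (AddMonoidHom.inr _ _))
        naturality := fun U V f => by
          ext g
          show QuotientAddGroup.mk (0, G.obj.map f g) =
            QuotientAddGroup.mk (Finsupp.mapDomain (T.P.obj.map f) 0, G.obj.map f g)
          rw [Finsupp.mapDomain_zero] }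
    haveI : ∀ U, Mono (incl.app U) := fun U => by
      rw [AddCommGrpCat.mono_iff_injective, injective_iff_map_eq_zero]
      intro g hg
      have hmem : ((0 : T.P.obj.obj U →₀ ℤ), g) ∈ R U := (QuotientAddGroup.eq_zero_iff _).mp hg
      rcases isEmpty_or_nonempty (T.P.obj.obj U) with he | ⟨⟨p₀⟩⟩
      · have : R U ≤ ⊥ := by
          rw [AddSubgroup.closure_le]
          rintro _ ⟨⟨_, q⟩, rfl⟩
          exact he.elim q
        simpa using this hmem
      · let δ : T.P.obj.obj U → G.obj.obj U := fun q => (T.free_transitive p₀ q).choose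
        have hδ : ∀ q, T.vadd (δ q) p₀ = q := fun q => (T.free_transitive p₀ q).choose_spec.1
        let r : ((T.P.obj.obj U →₀ ℤ) × G.obj.obj U) →+ G.obj.obj U :=
          (Finsupp.liftAddHom fun q => zmultiplesHom (G.obj.obj U) (δ q)).coprod (AddMonoidHom.id _)
        have hr : R U ≤ r.ker := by
          rw [AddSubgroup.closure_le]
          rintro _ ⟨⟨g', q⟩, rfl⟩
          have : δ (T.vadd g' q) = g' + δ q := (T.free_transitive p₀ _).unique (hδ _)
            (by rw [T.add_vadd, hδ])
          simp only [SetLike.mem_coe, AddMonoidHom.mem_ker, r, AddMonoidHom.coprod_apply, map_sub,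
            Finsupp.liftAddHom_apply_single, zmultiplesHom_apply, one_zsmul, AddMonoidHom.id_apply, this]
          abel
        simpa [r] using hr hmem
    haveI : Mono incl := NatTrans.mono_of_mono_app incl
    let φ : E ⟶ I.obj := Injective.factorThru ι.hom incl
    have hφ : incl ≫ φ = ι.hom := Injective.comp_factorThru _ _
    let f : ∀ U, T.P.obj.obj U → I.obj.obj U := fun U q =>
      φ.app U (QuotientAddGroup.mk (Finsupp.single q (1 : ℤ), (0 : G.obj.obj U)))
    have hf : ∀ U g q, f U (T.vadd g q) = ι.hom.app U g + f U q := by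
      intro U g q
      have h1 : ι.hom.app U g = φ.app U (QuotientAddGroup.mk ((0 : T.P.obj.obj U →₀ ℤ), g)) := by
        rw [← hφ]; rfl
      simp only [f]
      rw [h1, ← map_add]
      congr 1
      show _ = QuotientAddGroup.mk (((0 : T.P.obj.obj U →₀ ℤ), g) + (Finsupp.single q (1 : ℤ), 0))
      refine QuotientAddGroup.eq_iff_sub_mem.mpr (AddSubgroup.subset_closure ⟨(g, q), ?_⟩)
      simp
    have hfnat : ∀ {U V : Cᵒᵖ} (e : U ⟶ V) (q : T.P.obj.obj U),
        I.obj.map e (f U q) = f V (T.P.obj.map e q) := by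
      intro U V e q
      have := ConcreteCategory.congr_hom (φ.naturality e)
        (QuotientAddGroup.mk (Finsupp.single q (1 : ℤ), (0 : G.obj.obj U)))
      refine this.symm.trans ?_
      show φ.app V (QuotientAddGroup.mk (Finsupp.mapDomain (T.P.obj.map e) (Finsupp.single q 1),
        G.obj.map e 0)) = _
      rw [Finsupp.mapDomain_single, map_zero]
    -- its class
    let Good : C → Prop := fun U => Nonempty (T.P.obj.obj (op U))
    have hd : ∀ {V U : C}, (V ⟶ U) → Good U → Good V := fun e ⟨q⟩ => ⟨T.P.obj.map e.op q⟩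
    have hindep : ∀ U q q', p.hom.app U (f U q) = p.hom.app U (f U q') := by
      intro U q q'
      obtain ⟨g, hg, -⟩ := T.free_transitive q q'
      rw [← hg, hf, map_add, hcomp, zero_add]
    obtain ⟨qq, hqq, hqv⟩ := glue_global (isSheaf_ab (cokernel ι)) Good hd T.locally_nonempty
      (fun U h => p.hom.app _ (f _ h.some)) (fun {V U} e h => by
        show (cokernel ι).obj.map e.op (p.hom.app _ (f _ h.some)) = _
        refine (ConcreteCategory.congr_hom (p.hom.naturality e.op) _).symm.trans ?_
        show p.hom.app _ (I.obj.map e.op (f _ h.some)) = _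
        rw [hfnat]; exact hindep _ _ _)
    obtain ⟨a, ha⟩ := exists_hom (A := cokernel ι) (fun U => qq U.unop) (fun {U V} e => hqq e.unop)
    obtain ⟨x₂, hx₂⟩ := Ext.covariant_sequence_exact₃ _ hS (Ext.mk₀ a) (n₁ := 1) (zero_add 1)
      (hH.elim _ _)
    obtain ⟨b, rfl⟩ := (Ext.mk₀_bijective _ _).2 x₂
    rw [Ext.mk₀_comp_mk₀] at hx₂
    have hb : b ≫ p = a := (Ext.mk₀_bijective _ _).1 hx₂
    have hbv : ∀ U q, ∃ g, ι.hom.app U g = val I b U - f U q := fun U q => by
      refine hex U _ ?_
      rw [map_sub, ← val_comp, hb, ha]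
      have h' : Good U.unop := ⟨q⟩
      rw [hqv U.unop h', hindep _ _ q, sub_eq_zero]
    choose g hg using hbv
    -- `g U q • q` does not depend on `q`
    have hsec : ∀ U q q', T.vadd (g U q) q = T.vadd (g U q') q' := by
      intro U q q'
      obtain ⟨c, rfl, -⟩ := T.free_transitive q q'
      have : g U q = g U (T.vadd c q) + c := hιinj U (by
        rw [map_add, hg, hg, hf]; abel)
      rw [this, T.add_vadd]
    obtain ⟨s, hs, -⟩ := glue_global ((isSheaf_iff_isSheaf_of_type J _).mp T.P.property) Good hd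
      T.locally_nonempty (fun U h => T.vadd (g _ h.some) h.some) (fun {V U} e h => by
        rw [T.map_vadd]
        have : G.obj.map e.op (g _ h.some) = g _ (T.P.obj.map e.op h.some) := hιinj _ (by
          rw [hg, ← hfnat]
          refine (ConcreteCategory.congr_hom (ι.hom.naturality e.op) _).trans ?_
          show I.obj.map e.op (ι.hom.app _ (g _ h.some)) = _
          rw [hg, map_sub, val_map])
        rw [this]; exact hsec _ _ _)
    exact hasSection_of_family T s hs
  · intro hT
    refine ⟨fun x y => ?_⟩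
    suffices hzero : ∀ x : Sheaf.H.{u} G 1, x = 0 by rw [hzero x, hzero y]
    intro x
    obtain ⟨x₃, rfl⟩ := Ext.covariant_sequence_exact₁ _ hS x (Ext.eq_zero_of_injective _) (zero_add 1)
    obtain ⟨a, rfl⟩ := (Ext.mk₀_bijective _ _).2 x₃
    -- the torsor of lifts
    let P : Subfunctor (I.obj ⋙ forget AddCommGrpCat.{u}) :=
      { obj := fun U => {i | p.hom.app U i = val (cokernel ι) a U}
        map := fun {U V} e i hi => by
          show p.hom.app V (I.obj.map e i) = _
          refine (ConcreteCategory.congr_hom (p.hom.naturality e) _).trans ?_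
          show (cokernel ι).obj.map e (p.hom.app U i) = _
          rw [Set.mem_setOf_eq.mp hi, val_map] }
    have hP : Presheaf.IsSheaf J P.toFunctor := by
      rw [isSheaf_iff_isSheaf_of_type, P.isSheaf_iff (isSheaf_ab I)]
      intro U i hi
      refine (isSheaf_ab (cokernel ι) _ hi).isSeparatedFor.ext fun W e he => ?_
      show (cokernel ι).obj.map e.op (p.hom.app U i) = (cokernel ι).obj.map e.op (val _ a U)
      rw [val_map]
      refine ((ConcreteCategory.congr_hom (p.hom.naturality e.op) i).symm).trans ?_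
      exact he
    let T : Tors.Torsor G :=
      { P := ⟨P.toFunctor, hP⟩
        vadd := fun {U} g q => ⟨ι.hom.app U g + q.1, by
          show p.hom.app U (_ + q.1) = _
          rw [map_add, hcomp, zero_add]; exact q.2⟩
        zero_vadd := fun {U} q => Subtype.ext (by show ι.hom.app U 0 + q.1 = q.1; rw [map_zero, zero_add])
        add_vadd := fun {U} g h q => Subtype.ext (by
          show ι.hom.app U (g + h) + q.1 = ι.hom.app U g + (ι.hom.app U h + q.1)
          rw [map_add, add_assoc])
        map_vadd := fun {U V} e g q => Subtype.ext (by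
          show I.obj.map e (ι.hom.app U g + q.1) = ι.hom.app V (G.obj.map e g) + I.obj.map e q.1
          rw [map_add]; congr 1
          exact (ConcreteCategory.congr_hom (ι.hom.naturality e) g).symm)
        free_transitive := fun {U} q q' => by
          have key : ∀ i i' : I.obj.obj U, p.hom.app U i = p.hom.app U i' →
              ∃ g, ι.hom.app U g + i = i' ∧ ∀ g', ι.hom.app U g' + i = i' → g' = g := by
            intro i i' h
            obtain ⟨g, hg⟩ := hex U (i' - i) (by rw [map_sub, h, sub_self])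
            refine ⟨g, by rw [hg, sub_add_cancel], fun g' hg' => hιinj U ?_⟩
            rw [hg, eq_sub_iff_add_eq]
            exact hg'
          obtain ⟨g, hg, hu⟩ := key q.1 q'.1 (q.2.trans q'.2.symm)
          exact ⟨g, Subtype.ext hg, fun g' hg' => hu g' (congrArg Subtype.val hg')⟩
        locally_nonempty := fun U => by
          haveI : Sheaf.IsLocallySurjective p :=
            (Sheaf.isLocallySurjective_iff_epi' _ p).mpr inferInstance
          refine ⟨Presheaf.imageSieve p.hom (val (cokernel ι) a (op U)),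
            Presheaf.imageSieve_mem J p.hom _, fun V e ⟨i, hi⟩ => ⟨⟨i, ?_⟩⟩⟩
          show p.hom.app _ i = _
          exact hi.trans (val_map _ a e.op) }
    obtain ⟨s, hs⟩ := family_of_hasSection T (hT T)
    obtain ⟨b, hb⟩ := exists_hom (A := I) (fun U => (s U.unop).1)
      (fun {U V} e => congrArg Subtype.val (hs e.unop))
    have : b ≫ p = a := val_injective fun U => by rw [val_comp, hb]; exact (s U.unop).2
    rw [← this, ← Ext.mk₀_comp_mk₀]
    exact (Ext.comp_assoc_of_second_deg_zero _ _ _ (zero_add 1)).trans (by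
      rw [show (Ext.mk₀ p).comp hS.extClass (zero_add 1) = 0 from hS.comp_extClass, Ext.comp_zero])

end Seq

end Groth.Agent.Clifford24.H1Tors
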