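import Mathlib.RingTheory.Unramified.LocalRing
import Mathlib.RingTheory.Etale.Field
import Mathlib.RingTheory.Etale.Kaehler
import Mathlib.RingTheory.Kaehler.Basic

/-!
# Ramified points have residue field separable over the ground field
-/

set_option autoImplicit false

universe u

open TensorProduct KaehlerDifferential IsLocalRing

namespace Groth.Agent.Clifford24.InsepResidue

theorem map_maximalIdeal_eq_of_not_isSeparable {k A B : Type u} [Field k] [CommRing A] [CommRing B]
    [IsLocalRing A] [IsLocalRing B] [Algebra k A] [Algebra k B] [Algebra B A] [IsScalarTower k B A]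
    [IsLocalHom (algebraMap B A)] [Algebra.EssFiniteType k A] [Algebra.EssFiniteType k B]
    (b : Module.Basis (Fin 1) A Ω[A⁄k])
    [Algebra.IsSeparable (ResidueField B) (ResidueField A)]
    (hns : ¬ Algebra.IsSeparable k (ResidueField A)) :
    (maximalIdeal B).map (algebraMap B A) = maximalIdeal A := by
  haveI : IsScalarTower k (ResidueField B) (ResidueField A) := IsScalarTower.of_algebraMap_eq fun c => by
    rw [IsScalarTower.algebraMap_apply k B (ResidueField B), ← IsScalarTower.algebraMap_apply B (ResidueField B) (ResidueField A),
      IsScalarTower.algebraMap_apply B A (ResidueField A), ← IsScalarTower.algebraMap_apply k B A,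
      ← IsScalarTower.algebraMap_apply k A (ResidueField A)]
  haveI : Algebra.EssFiniteType k (ResidueField B) := .comp k B _
  haveI : Algebra.EssFiniteType B A := .of_comp k B A
  haveI : Algebra.FormallyEtale (ResidueField B) (ResidueField A) := .of_isSeparable _ _
  have hnt : ¬ Subsingleton Ω[ResidueField B⁄k] := fun h => hns (by
    haveI : Algebra.FormallyUnramified k (ResidueField B) := ⟨h⟩
    haveI : Algebra.IsSeparable k (ResidueField B) := Algebra.FormallyUnramified.isSeparable _ _
    exact Algebra.IsSeparable.trans k (ResidueField B) (ResidueField A))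
  obtain ⟨w, hw⟩ : ∃ w : ResidueField B, D k (ResidueField B) w ≠ 0 := by
    by_contra! hall
    refine hnt ⟨fun a c => ?_⟩
    have h : ∀ z : Ω[ResidueField B⁄k], z = 0 := fun z => by
      have hz : z ∈ Submodule.span (ResidueField B) (Set.range (D k (ResidueField B))) := by
        rw [KaehlerDifferential.span_range_derivation]; trivial
      refine Submodule.span_induction ?_ rfl (fun x y _ _ hx hy => by rw [hx, hy, add_zero])
        (fun r x _ hx => by rw [hx, smul_zero]) hz
      rintro _ ⟨r, rfl⟩
      exact hall r
    rw [h a, h c]
  obtain ⟨β, rfl⟩ := residue_surjective w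
  let a₀ := algebraMap B A β
  have himg : D k (ResidueField A) (residue A a₀) ≠ 0 := by
    intro h0
    apply hw
    have h1 : KaehlerDifferential.tensorKaehlerEquivOfFormallyEtale k (ResidueField B) (ResidueField A)
        (1 ⊗ₜ[ResidueField B] D k (ResidueField B) (residue B β)) = 0 := by
      show KaehlerDifferential.mapBaseChange k (ResidueField B) (ResidueField A) _ = 0
      rw [KaehlerDifferential.mapBaseChange_tmul, one_smul, KaehlerDifferential.map_D]
      exact h0
    rw [LinearEquiv.map_eq_zero_iff] at h1
    have hinj : Function.Injective (fun z : Ω[ResidueField B⁄k] => (1 : ResidueField A) ⊗ₜ[ResidueField B] z) := by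
      refine fun x y hxy => sub_eq_zero.mp ?_
      have h2 : ((Algebra.linearMap (ResidueField B) (ResidueField A)).rTensor Ω[ResidueField B⁄k])
          (1 ⊗ₜ (x - y)) = 0 := by
        rw [LinearMap.rTensor_tmul, Algebra.linearMap_apply, map_one, TensorProduct.tmul_sub]
        exact sub_eq_zero.mpr hxy
      have h3 := (map_eq_zero_iff _ (Module.Flat.rTensor_preserves_injective_linearMap _
        (RingHom.injective (algebraMap (ResidueField B) (ResidueField A))))).mp h2
      simpa using congrArg (TensorProduct.lid (ResidueField B) _) h3
    exact hinj (h1.trans (TensorProduct.tmul_zero _ _).symm)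
  set c := b.repr (D k A a₀) 0 with hc
  have hrepr : D k A a₀ = c • b 0 := by
    conv_lhs => rw [← b.sum_repr (D k A a₀)]
    rw [Fin.sum_univ_one]
  have hcu : IsUnit c := by
    by_contra hcn
    apply himg
    have h1 : KaehlerDifferential.map k k A (ResidueField A) (D k A a₀) = 0 := by
      rw [hrepr, map_smul, ← algebraMap_smul (ResidueField A) c,
        show algebraMap A (ResidueField A) c = 0 from (residue_eq_zero_iff c).mpr ((mem_maximalIdeal c).mpr hcn),
        zero_smul]
    rwa [KaehlerDifferential.map_D] at h1
  haveI : Algebra.FormallyUnramified B A := ⟨⟨fun x y => by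
    have h0 : ∀ z : Ω[A⁄B], z = 0 := fun z => by
      obtain ⟨z', rfl⟩ := KaehlerDifferential.map_surjective k B A z
      have hb : KaehlerDifferential.map k B A A (b 0) = 0 := by
        have h2 : KaehlerDifferential.map k B A A (D k A a₀) = 0 := by
          rw [KaehlerDifferential.map_D]
          exact Derivation.map_algebraMap _ β
        rw [hrepr, map_smul] at h2
        exact (hcu.smul_eq_zero).mp h2
      rw [← b.sum_repr z', Fin.sum_univ_one, map_smul, hb, smul_zero]
    rw [h0 x, h0 y]⟩⟩
  exact Algebra.FormallyUnramified.map_maximalIdeal

end Groth.Agent.Clifford24.InsepResidue
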