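import Groth.Prelude.Def_Coh
import Mathlib

/-!
Global functions integral over the base field: on a connected reduced scheme locally of finite type
over a field they are exactly the members of subfields of the ring of global functions.
-/

set_option autoImplicit false
universe u
open CategoryTheory AlgebraicGeometry Polynomial TopologicalSpace Opposite

namespace Groth.Agent.Clifford24.IntegralField

section Alg

theorem exists_eq_mul_sq {k A : Type*} [Field k] [CommRing A] [IsReduced A] [Algebra k A] (y : A)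
    (hy : IsAlgebraic k y) : ∃ z ∈ Algebra.adjoin k ({y} : Set A), y = z * y ^ 2 := by
  obtain ⟨f, hf0, hf⟩ := hy
  obtain ⟨q, hq, hnd⟩ := Polynomial.exists_eq_pow_rootMultiplicity_mul_and_not_dvd f hf0 0
  simp only [map_zero, sub_zero] at hq hnd
  have hyq : y * aeval y q = 0 := by
    refine IsReduced.eq_zero _ ⟨f.rootMultiplicity 0 + 1, ?_⟩
    have h0 : y ^ f.rootMultiplicity 0 * aeval y q = 0 := by
      rw [← hf]; conv_rhs => rw [hq]
      simp
    rw [mul_pow, pow_succ' (aeval y q), pow_succ y]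
    calc _ = (y ^ f.rootMultiplicity 0 * aeval y q) *
          (y * aeval y q ^ f.rootMultiplicity 0) := by ring
      _ = 0 := by rw [h0, zero_mul]
  have hc : q.coeff 0 ≠ 0 := fun h => hnd (Polynomial.X_dvd_iff.mpr h)
  refine ⟨algebraMap k A (-(q.coeff 0)⁻¹) * aeval y q.divX, ?_, ?_⟩
  · exact mul_mem (Subalgebra.algebraMap_mem _ _) (aeval_mem_adjoin_singleton k y)
  · have h1 : aeval y q = y * aeval y q.divX + algebraMap k A (q.coeff 0) := by
      have h := congrArg (aeval y) (Polynomial.X_mul_divX_add q)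
      rw [map_add, map_mul, aeval_X, aeval_C] at h
      exact h.symm
    rw [h1] at hyq
    have h2 : algebraMap k A (q.coeff 0)⁻¹ * algebraMap k A (q.coeff 0) = 1 := by
      rw [← map_mul, inv_mul_cancel₀ hc, map_one]
    linear_combination (algebraMap k A (q.coeff 0)⁻¹) * hyq - y * h2 + (map_neg (algebraMap k A) (q.coeff 0)⁻¹) * (-(y ^ 2) * aeval y q.divX)

theorem algebraicClosure_avoid {k : Type*} [Field k] (h : k[X]) (hh : h ≠ 0) :
    ∃ g : ℤ[X], ¬ IsUnit (g.map (Int.castRingHom k)) ∧ g.map (Int.castRingHom k) ≠ 0 ∧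
      IsCoprime h (g.map (Int.castRingHom k)) := by
  classical
  let L := AlgebraicClosure k
  let R : Finset L := (h.aroots L).toFinset.filter (fun r => IsIntegral ℤ r)
  let G : ℤ[X] := ∏ r ∈ R, minpoly ℤ r
  have hGm : G.Monic := monic_prod_of_monic _ _ fun r hr =>
    minpoly.monic (Finset.mem_filter.mp hr).2
  let g : ℤ[X] := X * G + 1
  have hXG : (X * G).Monic := monic_X.mul hGm
  have hnd : (1 : ℤ[X]).natDegree < (X * G).natDegree := by
    rw [natDegree_one, natDegree_X_mul hGm.ne_zero]; omega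
  have hgm : g.Monic := hXG.add_of_left (degree_lt_degree hnd)
  have hgpos : 0 < g.natDegree := by
    show 0 < (X * G + 1).natDegree
    rw [natDegree_add_eq_left_of_natDegree_lt hnd, natDegree_X_mul hGm.ne_zero]; omega
  refine ⟨g, fun hu => ?_, (hgm.map _).ne_zero, ?_⟩
  · have := Polynomial.natDegree_eq_zero_of_isUnit hu
    rw [hgm.natDegree_map] at this
    omega
  · refine (Polynomial.isCoprime_iff_aeval_ne_zero_of_isAlgClosed k L _ _).mpr fun r => ?_
    by_contra hc
    push Not at hc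
    obtain ⟨hr1, hr2⟩ := hc
    have hr2' : aeval r g = 0 := by
      rw [← hr2, ← algebraMap_int_eq k, aeval_map_algebraMap]
    have hint : IsIntegral ℤ r := ⟨g, hgm, hr2'⟩
    have hrR : r ∈ R := Finset.mem_filter.mpr ⟨Multiset.mem_toFinset.mpr
      ((mem_aroots.mpr ⟨hh, hr1⟩)), hint⟩
    have hG0 : aeval r G = 0 := by
      rw [map_prod]; exact Finset.prod_eq_zero hrR (minpoly.aeval _ _)
    simp [g, hG0] at hr2'

/-- an element of a finitely generated algebra over a field which lies in the image of a field is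
algebraic over the base field -/
theorem isAlgebraic_of_fieldHom_domain {k A F : Type u} [Field k] [CommRing A] [IsDomain A]
    [Algebra k A] [Algebra.FiniteType k A] [Field F] (φ : F →+* A) (x : F) :
    IsAlgebraic k (φ x) := by
  by_contra htr
  let e : k[X] →+* A := (aeval (φ x)).toRingHom
  have hinj : Function.Injective e := transcendental_iff_injective.mp htr
  letI : Algebra k[X] A := e.toAlgebra
  haveI : IsScalarTower k k[X] A := IsScalarTower.of_algebraMap_eq fun c => by
    simp [RingHom.algebraMap_toAlgebra, e]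
  haveI : Algebra.FiniteType k[X] A := Algebra.FiniteType.of_restrictScalars_finiteType k k[X] A
  haveI : Algebra.FinitePresentation k[X] A := Algebra.FinitePresentation.of_finiteType.mp inferInstance
  haveI : Module.IsTorsionFree k[X] A :=
    Module.isTorsionFree_iff_smul_eq_zero.mpr fun c m hm => by
      rw [Algebra.smul_def, mul_eq_zero] at hm
      exact hm.imp (fun h => hinj (h.trans (map_zero e).symm)) id
  haveI : Module.Flat k[X] A := inferInstance
  have hopen := PrimeSpectrum.isOpenMap_comap_of_hasGoingDown_of_finitePresentation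
    (R := k[X]) (S := A) _ isOpen_univ
  have hmem : (⟨⊥, Ideal.bot_prime⟩ : PrimeSpectrum k[X]) ∈
      PrimeSpectrum.comap (algebraMap k[X] A) '' Set.univ := by
    refine ⟨⟨⊥, Ideal.bot_prime⟩, trivial, PrimeSpectrum.ext ?_⟩
    exact (RingHom.injective_iff_ker_eq_bot _).mp hinj
  obtain ⟨_, ⟨h, rfl⟩, hh1, hh2⟩ :=
    PrimeSpectrum.isTopologicalBasis_basic_opens.exists_subset_of_mem_open hmem hopen
  have hh0 : h ≠ 0 := fun h0 => hh1 (by simp [h0])
  obtain ⟨g, hgu, hg0, hcop⟩ := algebraicClosure_avoid h hh0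
  obtain ⟨q, hqmax, hgq⟩ := exists_max_ideal_of_mem_nonunits hgu
  have hhq : h ∉ q := fun hq => by
    obtain ⟨a, b, hab⟩ := hcop
    exact hqmax.ne_top ((Ideal.eq_top_iff_one _).mpr
      (hab ▸ add_mem (q.mul_mem_left _ hq) (q.mul_mem_left _ hgq)))
  obtain ⟨Q, -, hQ⟩ := hh2 (show (⟨q, hqmax.isPrime⟩ : PrimeSpectrum k[X]) ∈
    (PrimeSpectrum.basicOpen h : Set _) from hhq)
  have heg : e (g.map (Int.castRingHom k)) = φ (aeval x g) := by
    show aeval (φ x) (g.map (Int.castRingHom k)) = _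
    rw [← algebraMap_int_eq k, aeval_map_algebraMap, aeval_def, aeval_def, hom_eval₂]
    congr 1
    exact RingHom.ext_int _ _
  have hne : aeval x g ≠ 0 := fun h0 => hg0 (hinj (by rw [heg, h0, map_zero, map_zero]))
  refine Q.2.ne_top (Ideal.eq_top_of_isUnit_mem _ ?_ ((IsUnit.mk0 _ hne).map φ))
  rw [← heg]
  have hQ' : Ideal.comap e Q.asIdeal = q := congrArg PrimeSpectrum.asIdeal hQ
  show g.map (Int.castRingHom k) ∈ Ideal.comap e Q.asIdeal
  rw [hQ']; exact hgq

theorem isAlgebraic_of_fieldHom {k A F : Type u} [Field k] [CommRing A]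
    [Algebra k A] [Algebra.FiniteType k A] [Field F] (φ : F →+* A) (x : F) :
    IsAlgebraic k (φ x) := by
  classical
  haveI : IsNoetherianRing A := Algebra.FiniteType.isNoetherianRing k A
  have hall : ∀ p ∈ minimalPrimes A, ∃ f : k[X], f ≠ 0 ∧ aeval (φ x) f ∈ p := by
    intro p hp
    haveI : p.IsPrime := hp.1.1
    obtain ⟨f, hf, hf0⟩ := isAlgebraic_of_fieldHom_domain (k := k) ((Ideal.Quotient.mk p).comp φ) x
    refine ⟨f, hf, Ideal.Quotient.eq_zero_iff_mem.mp ?_⟩
    rw [← hf0, ← Ideal.Quotient.mkₐ_eq_mk k, ← aeval_algHom_apply]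
    rfl
  choose f hf0 hfp using hall
  let P := (minimalPrimes.finite_of_isNoetherianRing A).toFinset
  let F' : k[X] := ∏ p : P, f p.1 ((minimalPrimes.finite_of_isNoetherianRing A).mem_toFinset.mp p.2)
  have hnil : aeval (φ x) F' ∈ nilradical A := by
    rw [nilradical, Ideal.zero_eq_bot, ← Ideal.sInf_minimalPrimes, Ideal.mem_sInf]
    intro p hp
    rw [map_prod]
    exact Ideal.mem_of_dvd _ (Finset.dvd_prod_of_mem _ (Finset.mem_univ
      (⟨p, (minimalPrimes.finite_of_isNoetherianRing A).mem_toFinset.mpr hp⟩ : P))) (hfp p hp)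
  obtain ⟨n, hn⟩ := hnil
  exact ⟨F' ^ n, pow_ne_zero _ (Finset.prod_ne_zero_iff.mpr fun p _ => hf0 _ _), by rw [map_pow, hn]⟩

end Alg

section Scheme

variable {X : Scheme.{u}}

theorem finiteType_res {k : Type u} [Field k] (a : X ⟶ Spec (CommRingCat.of k))
    [LocallyOfFiniteType a] {V : X.Opens} (hV : IsAffineOpen V) :
    ((X.presheaf.map (homOfLE (le_top : V ≤ ⊤)).op).hom.comp (Coh.toGlobal a)).FiniteType := by
  have h := HasRingHomProperty.appLE @LocallyOfFiniteType a inferInstance
    ⟨⊤, isAffineOpen_top _⟩ ⟨V, hV⟩ le_top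
  have e : (X.presheaf.map (homOfLE (le_top : V ≤ ⊤)).op).hom.comp a.appTop.hom =
      (a.appLE ⊤ V le_top).hom := by
    rw [← CommRingCat.hom_comp]; rfl
  rw [Coh.toGlobal, ← RingHom.comp_assoc]
  refine Eq.subst (motive := fun f : Γ(Spec (CommRingCat.of k), ⊤) →+* Γ(X, V) =>
    (f.comp (Scheme.ΓSpecIso (CommRingCat.of k)).inv.hom).FiniteType) e.symm ?_
  exact RingHom.FiniteType.comp h (RingHom.FiniteType.of_surjective
    (Scheme.ΓSpecIso (CommRingCat.of k)).inv.hom
    (ConcreteCategory.bijective_of_isIso (Scheme.ΓSpecIso (CommRingCat.of k)).inv).2)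

theorem eq_zero_or_one_of_idem [ConnectedSpace X] (e : Γ(X, ⊤)) (he : e * e = e) :
    e = 0 ∨ e = 1 := by
  have hdisj : X.basicOpen e ⊓ X.basicOpen (1 - e) = ⊥ := by
    rw [← Scheme.basicOpen_mul, mul_sub, mul_one, he, sub_self, Scheme.basicOpen_zero]
  have hcov : ∀ p : X, p ∈ X.basicOpen e ∨ p ∈ X.basicOpen (1 - e) := by
    intro p
    rw [X.mem_basicOpen _ p (TopologicalSpace.Opens.mem_top p), X.mem_basicOpen _ p (TopologicalSpace.Opens.mem_top p), map_sub, map_one]
    exact IsLocalRing.isUnit_or_isUnit_one_sub_self _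
  have hclopen : IsClopen (X.basicOpen e : Set X) := by
    refine ⟨⟨?_⟩, (X.basicOpen e).2⟩
    have : (X.basicOpen e : Set X)ᶜ = (X.basicOpen (1 - e) : Set X) := by
      ext p
      refine ⟨fun h => (hcov p).resolve_left h, fun h h' => ?_⟩
      have : p ∈ X.basicOpen e ⊓ X.basicOpen (1 - e) := ⟨h', h⟩
      rw [hdisj] at this
      exact this
    rw [this]; exact (X.basicOpen (1 - e)).2
  rcases isClopen_iff.mp hclopen with h | h
  · left
    have h1 : IsUnit (1 - e) := by
      refine (RingedSpace.isUnit_of_isUnit_germ X.toRingedSpace _ _ fun p hp => ?_)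
      exact (X.mem_basicOpen _ p (TopologicalSpace.Opens.mem_top p)).mp ((hcov p).resolve_left (by rw [← SetLike.mem_coe, h]; simp))
    refine h1.mul_left_cancel ?_
    rw [sub_mul, one_mul, he, sub_self, mul_zero]
  · right
    have h1 : IsUnit e := by
      refine (RingedSpace.isUnit_of_isUnit_germ X.toRingedSpace _ _ fun p hp => ?_)
      exact (X.mem_basicOpen _ p (TopologicalSpace.Opens.mem_top p)).mp (by rw [← SetLike.mem_coe, h]; trivial)
    refine h1.mul_left_cancel ?_
    rw [he, mul_one]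

variable {k : Type u} [Field k] (a : X ⟶ Spec (CommRingCat.of k))

theorem exists_field_of_integral [IsReduced X] [ConnectedSpace X] (x : Coh.Γtop X)
    (hx : (Coh.toGlobal a).IsIntegralElem x) :
    ∃ (F : Type u) (_ : Field F) (φ : F →+* Γ(X, ⊤)) (y : F), φ y = x := by
  letI : Algebra k Γ(X, ⊤) := RingHom.toAlgebra (Coh.toGlobal a)
  let x' : Γ(X, ⊤) := x
  let S := Algebra.adjoin k ({x'} : Set Γ(X, ⊤))
  haveI : Algebra.IsIntegral k S := Algebra.IsIntegral.adjoin fun y hy => by
    rw [Set.mem_singleton_iff] at hy; subst hy; exact hx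
  haveI : Nonempty ↥(⊤ : X.Opens) := ⟨⟨Classical.arbitrary X, TopologicalSpace.Opens.mem_top _⟩⟩
  haveI : Nontrivial Γ(X, ⊤) := inferInstance
  haveI : _root_.IsReduced S := isReduced_of_injective S.val Subtype.val_injective
  haveI : Nontrivial S := ⟨⟨0, 1, fun h => zero_ne_one (α := Γ(X, ⊤)) (congrArg Subtype.val h)⟩⟩
  have hF : IsField S := by
    refine ⟨⟨0, 1, zero_ne_one⟩, mul_comm, fun {y} hy => ?_⟩
    obtain ⟨z, -, hz⟩ := exists_eq_mul_sq (k := k) y (Algebra.IsIntegral.isIntegral y).isAlgebraic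
    refine ⟨z, ?_⟩
    have hz' : (y : Γ(X, ⊤)) = z.1 * (y.1 * y.1) := by
      rw [← pow_two]; exact congrArg Subtype.val hz
    rcases eq_zero_or_one_of_idem (X := X) (z.1 * y.1) (by rw [mul_mul_mul_comm, mul_assoc, ← hz']) with h | h
    · exact absurd (Subtype.ext (by rw [hz', ← mul_assoc, h, zero_mul]; rfl)) hy
    · exact Subtype.ext ((mul_comm _ _).trans h)
  letI := hF.toField
  exact ⟨S, inferInstance, S.val.toRingHom, ⟨x', Algebra.self_mem_adjoin_singleton k x'⟩, rfl⟩

theorem integral_of_field [IsReduced X] [ConnectedSpace X] [LocallyOfFiniteType a] {F : Type u}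
    [Field F] (φ : F →+* Γ(X, ⊤)) (y : F) : (Coh.toGlobal a).IsIntegralElem (φ y) := by
  let c : k →+* Γ(X, ⊤) := Coh.toGlobal a
  letI : Algebra k Γ(X, ⊤) := c.toAlgebra
  have halg : ∀ V : X.affineOpens, ∀ s : Γ(X, ⊤),
      (∃ (f : k[X]) , s = aeval (φ y) f) →
      ∃ z : Γ(X, V.1), (X.presheaf.map (homOfLE le_top).op).hom s =
        z * (X.presheaf.map (homOfLE (le_top : V.1 ≤ ⊤)).op).hom s ^ 2 := by
    intro V s hs
    let res := (X.presheaf.map (homOfLE (le_top : V.1 ≤ ⊤)).op).hom
    letI : Algebra k Γ(X, V.1) := (res.comp c).toAlgebra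
    haveI : Algebra.FiniteType k Γ(X, V.1) := finiteType_res a V.2
    have hy : IsIntegral k (res (φ y)) :=
      isAlgebraic_iff_isIntegral.mp (isAlgebraic_of_fieldHom (res.comp φ) y)
    obtain ⟨f, rfl⟩ := hs
    have hres : res (aeval (φ y) f) = aeval (res (φ y)) f := by
      rw [aeval_def, aeval_def, hom_eval₂]; rfl
    obtain ⟨z, -, hz⟩ := exists_eq_mul_sq (k := k) (res (aeval (φ y) f)) (by
      rw [hres]; exact (IsIntegral.of_mem_of_fg _ hy.fg_adjoin_singleton _
        (aeval_mem_adjoin_singleton k _)).isAlgebraic)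
    exact ⟨z, hz⟩
  obtain ⟨p⟩ := (inferInstance : Nonempty X)
  obtain ⟨U, hU, hpU, -⟩ := exists_isAffineOpen_mem_and_subset (x := p) (U := ⊤) trivial
  let resU := (X.presheaf.map (homOfLE (le_top : U ≤ ⊤)).op).hom
  letI : Algebra k Γ(X, U) := (resU.comp c).toAlgebra
  haveI : Algebra.FiniteType k Γ(X, U) := finiteType_res a hU
  obtain ⟨f, hfm, hf⟩ := isAlgebraic_iff_isIntegral.mp
    (isAlgebraic_of_fieldHom (k := k) (resU.comp φ) y)
  refine ⟨f, hfm, ?_⟩
  show aeval (φ y) f = 0
  set s := aeval (φ y) f with hs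
  have hsU : resU s = 0 := by
    rw [hs, aeval_def, hom_eval₂]; exact hf
  have hcl : IsClopen (X.basicOpen s : Set X) := by
    refine ⟨⟨?_⟩, (X.basicOpen s).2⟩
    rw [isOpen_iff_forall_mem_open]
    intro q hq
    obtain ⟨V, hV, hqV, -⟩ := exists_isAffineOpen_mem_and_subset (x := q) (U := ⊤) trivial
    obtain ⟨z, hz⟩ := halg ⟨V, hV⟩ s ⟨f, hs⟩
    set t := (X.presheaf.map (homOfLE (le_top : V ≤ ⊤)).op).hom s with ht
    have htD : X.basicOpen t = V ⊓ X.basicOpen s := X.basicOpen_res s (homOfLE le_top).op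
    refine ⟨(X.basicOpen (1 - z * t) : Set X), fun r hr hr' => ?_, (X.basicOpen _).2, ?_⟩
    · have hrV : r ∈ V := X.basicOpen_le _ hr
      have : r ∈ X.basicOpen t ⊓ X.basicOpen (1 - z * t) := ⟨htD.symm ▸ ⟨hrV, hr'⟩, hr⟩
      rw [← Scheme.basicOpen_mul, mul_sub, mul_one, mul_left_comm, ← pow_two, ← hz, sub_self,
        Scheme.basicOpen_zero] at this
      exact this
    · show q ∈ X.basicOpen (1 - z * t)
      rw [X.mem_basicOpen _ q hqV, map_sub, map_one]
      refine (IsLocalRing.isUnit_or_isUnit_one_sub_self _).resolve_left fun hu => hq ?_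
      have : q ∈ X.basicOpen t := by
        rw [X.mem_basicOpen _ q hqV]
        rw [map_mul] at hu
        exact isUnit_of_mul_isUnit_right hu
      exact (htD ▸ this : q ∈ V ⊓ X.basicOpen s).2
  have hp : p ∉ X.basicOpen s := by
    intro h
    have : p ∈ X.basicOpen (resU s) := by
      rw [X.basicOpen_res s (homOfLE le_top).op]; exact ⟨hpU, h⟩
    rw [hsU, Scheme.basicOpen_zero] at this
    exact this
  rcases isClopen_iff.mp hcl with h | h
  · exact (basicOpen_eq_bot_iff s).mp (TopologicalSpace.Opens.ext h)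
  · exact absurd (show p ∈ (X.basicOpen s : Set X) by rw [h]; trivial) hp

end Scheme

end Groth.Agent.Clifford24.IntegralField
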