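import Groth.Agent.Synt15.FieldScheme
import Groth.Prelude.Def_CurvBase
import Mathlib.AlgebraicGeometry.Morphisms.Smooth
import Mathlib.RingTheory.Smooth.StandardSmoothCotangent
import Mathlib.RingTheory.Etale.Field
import Mathlib.RingTheory.Kaehler.TensorProduct
import Mathlib.RingTheory.Nakayama

/-!
# Differentials of the stalk of a smooth curve
-/

set_option autoImplicit false
set_option backward.isDefEq.respectTransparency.types false
set_option maxHeartbeats 1000000

universe u

open CategoryTheory CategoryTheory.Limits AlgebraicGeometry IsLocalRing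
open scoped TensorProduct

attribute [local instance] Curv2.resAlgebra Curv2.stalkAlgebra

namespace Groth.Agent.Clifford24.KaehlerStalk

variable (k : Type u) [Field k] (R : Type u) [CommRing R] [IsLocalRing R] [Algebra k R]

/-- A generator of the maximal ideal generates the differentials when the residue field has none. -/
theorem span_D_eq_top [Module.Finite R Ω[R⁄k]] [Subsingleton Ω[(ResidueField R)⁄k]] (s : R)
    (hs : maximalIdeal R = Ideal.span {s}) : Submodule.span R {KaehlerDifferential.D k R s} = ⊤ := by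
  have hsurj : Function.Surjective (algebraMap R (ResidueField R)) := residue_surjective
  refine IsLocalRing.map_tensorProduct_mk_eq_top.1 (eq_top_iff.2 ?_)
  rintro w -
  have hw : KaehlerDifferential.mapBaseChange k R (ResidueField R) w = 0 := Subsingleton.elim _ _
  obtain ⟨v, rfl⟩ := (KaehlerDifferential.exact_kerCotangentToTensor_mapBaseChange k R (ResidueField R) hsurj w).1 hw
  obtain ⟨⟨a, ha⟩, rfl⟩ := Ideal.toCotangent_surjective _ v
  have ha' : a ∈ Ideal.span {s} := by
    rw [← hs, ← IsLocalRing.ker_residue]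
    exact ha
  obtain ⟨b, rfl⟩ := Ideal.mem_span_singleton'.1 ha'
  rw [KaehlerDifferential.kerCotangentToTensor_toCotangent]
  refine ⟨b • KaehlerDifferential.D k R s, Submodule.smul_mem _ b (Submodule.mem_span_singleton_self _), ?_⟩
  show (1 : ResidueField R) ⊗ₜ[R] (b • KaehlerDifferential.D k R s) = (1 : ResidueField R) ⊗ₜ[R] KaehlerDifferential.D k R (b * s)
  rw [Derivation.leibniz, TensorProduct.tmul_add]
  have h0 : (1 : ResidueField R) ⊗ₜ[R] (s • KaehlerDifferential.D k R b) = 0 := by
    rw [← TensorProduct.smul_tmul, Algebra.smul_def, mul_one]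
    have : algebraMap R (ResidueField R) s = 0 :=
      (residue_eq_zero_iff s).2 (hs ▸ Ideal.mem_span_singleton_self s)
    rw [this, TensorProduct.zero_tmul]
  rw [h0, add_zero]

theorem bijective_smul_D [Subsingleton Ω[(ResidueField R)⁄k]] (s : R) (hs : maximalIdeal R = Ideal.span {s})
    (e : R ≃ₗ[R] Ω[R⁄k]) : Function.Bijective (fun a : R => a • KaehlerDifferential.D k R s) := by
  haveI : Module.Finite R Ω[R⁄k] := Module.Finite.equiv e
  have hsp := span_D_eq_top k R s hs
  have hsur : Function.Surjective (fun a : R => a • KaehlerDifferential.D k R s) := fun w =>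
    Submodule.mem_span_singleton.1 (hsp ▸ Submodule.mem_top)
  refine ⟨fun a b hab => ?_, hsur⟩
  let φ : R →ₗ[R] R := e.symm.toLinearMap.comp (LinearMap.toSpanSingleton R Ω[R⁄k] (KaehlerDifferential.D k R s))
  have hφs : Function.Surjective φ := e.symm.surjective.comp hsur
  exact OrzechProperty.injective_of_surjective_endomorphism φ hφs (congrArg e.symm hab)

/-- An irreducible element generates the maximal ideal of a formally smooth local ring whose differentials
have rank one and whose residue field is formally etale. -/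
theorem maximalIdeal_eq_span [IsNoetherianRing R] [Algebra.FormallySmooth k R]
    [Algebra.FormallyEtale k (ResidueField R)] (e : R ≃ₗ[R] Ω[R⁄k]) (s : R) (hs : Irreducible s) :
    maximalIdeal R = Ideal.span {s} := by
  let κ := ResidueField R
  have hsurj : Function.Surjective (algebraMap R κ) := residue_surjective
  have hinj : Function.Injective (KaehlerDifferential.kerCotangentToTensor k R κ) :=
    (Algebra.FormallySmooth.kerCotangentToTensor_injective_iff hsurj).2 inferInstance
  let e' : κ ⊗[R] Ω[R⁄k] ≃ₗ[R] κ := (TensorProduct.congr (LinearEquiv.refl R κ) e.symm) ≪≫ₗ TensorProduct.rid R κ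
  let ψ : RingHom.ker (algebraMap R κ) →ₗ[R] κ :=
    e'.toLinearMap ∘ₗ (KaehlerDifferential.kerCotangentToTensor k R κ) ∘ₗ (RingHom.ker (algebraMap R κ)).toCotangent
  have hψ : ∀ a, ψ a = 0 → (a : R) ∈ maximalIdeal R ^ 2 := fun a ha => by
    have h1 : (RingHom.ker (algebraMap R κ)).toCotangent a = 0 := by
      apply hinj
      rw [map_zero]
      exact e'.injective (by rw [map_zero]; exact ha)
    have h2 := (Ideal.toCotangent_eq_zero _ a).1 h1
    exact SetLike.le_def.1 (congrArg (· ^ 2) (IsLocalRing.ker_residue (R := R))).le h2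
  have hker : RingHom.ker (algebraMap R κ) = maximalIdeal R := IsLocalRing.ker_residue
  have hgen : ∃ t, maximalIdeal R = Ideal.span {t} := by
    by_cases h0 : ∀ a, ψ a = 0
    · refine ⟨0, ?_⟩
      have hle : maximalIdeal R ≤ maximalIdeal R • maximalIdeal R := fun a ha => by
        rw [smul_eq_mul, ← pow_two]
        exact hψ ⟨a, hker ▸ ha⟩ (h0 _)
      rw [Ideal.span_singleton_eq_bot.2 rfl]
      exact Submodule.eq_bot_of_le_smul_of_le_jacobson_bot _ _ (IsNoetherian.noetherian _) hle
        (maximalIdeal_le_jacobson _)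
    · obtain ⟨b, hb⟩ := not_forall.1 h0
      refine ⟨b, le_antisymm ?_ ((Ideal.span_singleton_le_iff_mem _).2 (hker ▸ b.2))⟩
      refine Submodule.le_of_le_smul_of_le_jacobson_bot (I := maximalIdeal R) (IsNoetherian.noetherian _)
        (maximalIdeal_le_jacobson _) fun a ha => ?_
      obtain ⟨r, hr⟩ := hsurj (ψ ⟨a, hker ▸ ha⟩ / ψ b)
      have h1 : ψ (⟨a, hker ▸ ha⟩ - r • b) = 0 := by
        rw [map_sub, map_smul, Algebra.smul_def, hr, div_mul_cancel₀ _ hb, sub_self]
      have h2 := hψ _ h1
      rw [smul_eq_mul, ← pow_two]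
      exact Submodule.mem_sup.2 ⟨r * b, Ideal.mem_span_singleton'.2 ⟨r, rfl⟩, _, h2, by
        show r * (b : R) + (a - r * (b : R)) = a
        ring⟩
  obtain ⟨t, ht⟩ := hgen
  have hst : s ∈ Ideal.span {t} := ht ▸ hs.not_isUnit
  obtain ⟨v, hv⟩ := Ideal.mem_span_singleton'.1 hst
  have ht' : ¬ IsUnit t := fun h =>
    (maximalIdeal.isMaximal R).ne_top (ht.trans (Ideal.span_singleton_eq_top.2 h))
  have hv' : IsUnit v := (hs.isUnit_or_isUnit hv.symm).resolve_right ht'
  rw [ht, ← hv, Ideal.span_singleton_mul_left_unit hv']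

variable {k}

/-- Near a point of smoothness of relative dimension one, the differentials of the stalk are free of rank one. -/
theorem exists_equiv_kaehler_stalk (X : Scheme.{u}) [X.Over (Spec (CommRingCat.of k))] (x : X)
    (hsm : ∃ U : X.Opens, x ∈ U ∧ SmoothOfRelativeDimension 1 (U.ι ≫ (X ↘ (Spec (CommRingCat.of k))))) :
    Nonempty (X.presheaf.stalk x ≃ₗ[X.presheaf.stalk x] Ω[(X.presheaf.stalk x)⁄k]) ∧
      Algebra.FormallySmooth k (X.presheaf.stalk x) ∧ IsNoetherianRing (X.presheaf.stalk x) := by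
  obtain ⟨U, hxU, hU⟩ := hsm
  obtain ⟨U₀, hU₀, V₀, hV₀, hxV₀, le₀, hstd⟩ :=
    hU.exists_isStandardSmoothOfRelativeDimension ⟨x, hxU⟩
  obtain rfl : U₀ = ⊤ := top_unique fun y _ => by
    rw [show y = (U.ι ≫ (X ↘ (Spec (CommRingCat.of k)))) ⟨x, hxU⟩ from @Subsingleton.elim (PrimeSpectrum k) _ _ _]
    exact le₀ hxV₀
  let V : X.Opens := U.ι ''ᵁ V₀
  have hV : IsAffineOpen V := hV₀.image_of_isOpenImmersion U.ι
  have hxV : x ∈ V := ⟨⟨x, hxU⟩, hxV₀, rfl⟩
  let q := X ↘ (Spec (CommRingCat.of k))
  have hstd' : RingHom.IsStandardSmoothOfRelativeDimension 1 (q.appLE ⊤ V le_top).hom := by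
    have e : (U.ι ≫ q).appLE ⊤ V₀ le₀ = q.appLE ⊤ V le_top ≫ (U.ι.appIso V₀).hom := by
      rw [Scheme.Hom.appIso_hom', Scheme.Hom.appLE_comp_appLE]
    rw [e] at hstd
    have := (RingHom.isStandardSmoothOfRelativeDimension_respectsIso (n := 1)).1 _
      (U.ι.appIso V₀).symm.commRingCatIsoToRingEquiv hstd
    convert this using 1
    refine RingHom.ext fun a => ?_
    exact ((U.ι.appIso V₀).hom_inv_id_apply _).symm
  letI algA : Algebra k Γ(X, V) := (Synt15.secMap q V).toAlgebra
  haveI hA : Algebra.IsStandardSmoothOfRelativeDimension 1 k Γ(X, V) := by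
    rw [← RingHom.isStandardSmoothOfRelativeDimension_algebraMap 1]
    exact RingHom.isStandardSmoothOfRelativeDimension_respectsIso.2 _
      (Scheme.ΓSpecIso (CommRingCat.of k)).symm.commRingCatIsoToRingEquiv hstd'
  haveI : Algebra.IsStandardSmooth k Γ(X, V) := hA.isStandardSmooth
  haveI : Nonempty V := ⟨⟨x, hxV⟩⟩
  haveI : Nontrivial Γ(X, V) := inferInstance
  letI algS := TopCat.Presheaf.algebra_section_stalk X.presheaf (⟨x, hxV⟩ : V)
  haveI : IsScalarTower k Γ(X, V) (X.presheaf.stalk x) := IsScalarTower.of_algebraMap_eq' (by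
    refine Eq.trans ?_ (congrArg CommRingCat.Hom.hom (Synt15.secMap_germ q V x hxV))
    have e : q.appLE ⊤ ⊤ le_top = q.appTop := q.appLE_eq_app (U := ⊤)
    rw [e]
    rfl)
  let P := hV.primeIdealOf ⟨x, hxV⟩
  haveI hloc : IsLocalization.AtPrime (X.presheaf.stalk x) P.asIdeal := hV.isLocalization_stalk ⟨x, hxV⟩
  haveI : IsLocalizedModule P.asIdeal.primeCompl
      (KaehlerDifferential.map k k Γ(X, V) (X.presheaf.stalk x)) :=
    KaehlerDifferential.isLocalizedModule_map _ _ _ P.asIdeal.primeCompl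
  have hbc := IsLocalizedModule.isBaseChange P.asIdeal.primeCompl (X.presheaf.stalk x)
    (KaehlerDifferential.map k k Γ(X, V) (X.presheaf.stalk x))
  haveI : Module.Free Γ(X, V) Ω[Γ(X, V)⁄k] := inferInstance
  have hr := Algebra.IsStandardSmoothOfRelativeDimension.rank_kaehlerDifferential (R := k) (S := Γ(X, V)) 1
  haveI : Module.Finite Γ(X, V) Ω[Γ(X, V)⁄k] := inferInstance
  obtain ⟨b⟩ : Nonempty (Module.Basis (Fin 1) Γ(X, V) Ω[Γ(X, V)⁄k]) :=
    ⟨Module.finBasisOfFinrankEq _ _ (Module.finrank_eq_of_rank_eq hr)⟩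
  haveI : IsNoetherianRing Γ(X, V) := Algebra.FiniteType.isNoetherianRing k Γ(X, V)
  haveI : Algebra.FormallySmooth Γ(X, V) (X.presheaf.stalk x) := .of_isLocalization P.asIdeal.primeCompl
  exact ⟨⟨((LinearEquiv.funUnique (Fin 1) _ _).symm ≪≫ₗ (hbc.basis b).equivFun.symm)⟩,
    .comp k Γ(X, V) _, IsLocalization.isNoetherianRing P.asIdeal.primeCompl _ inferInstance⟩

end Groth.Agent.Clifford24.KaehlerStalk
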