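import Groth.Agent.Clifford24.Canonical

/-!
# A special line bundle separating pairs of points forbids a `g¹₂`
-/

set_option autoImplicit false
set_option linter.style.haveILetI false
set_option linter.unusedSectionVars false
set_option backward.isDefEq.respectTransparency.types false

universe u

open CategoryTheory CategoryTheory.Limits AlgebraicGeometry Opposite TopologicalSpace
open Groth.Agent.Coherent Groth.Agent.PicLib Groth.Agent.AmpleLib Groth.Agent.EulerLib Groth.Agent.CurveRR24

namespace Groth.Agent.Clifford24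

variable {X : Scheme.{u}} (k : Type u) [Field k] [X.Over (Spec (CommRingCat.of k))]
  [IsProper (X ↘ Spec (CommRingCat.of k))] [IsIntegral X] [Smooth (X ↘ Spec (CommRingCat.of k))]
  [GeometricallyIntegral (X ↘ Spec (CommRingCat.of k))]

/-- A `g¹₂` is `O(P + Q)` for some closed points `P`, `Q`. -/
theorem exists_points_of_g12 [IsAlgClosed k] (hdim : topologicalKrullDim X = 1)
    (hg : 2 ≤ Curv2.genus k X) {M : X.Modules} (hM : PicF.IsInvertible M)
    (hd : Curv2.deg k X M 1 = 2) (h2 : 2 ≤ Module.finrank k (Coh.HH X M 0)) :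
    ∃ (P Q : X) (hP : IsClosed ({P} : Set X)) (hQ : IsClosed ({Q} : Set X)),
      Nonempty (CohB1.tensorMod M (CohB1.tensorMod (ClSub.idealMod (ptIdeal P hP))
        (ClSub.idealMod (ptIdeal Q hQ))) ≅ Coh.structureModule X) := by
  haveI := EulerLib.isNoetherian_of_proper k (X := X)
  have hI : ∀ {P : X} (hP : IsClosed ({P} : Set X)), PicF.IsInvertible (ClSub.idealMod (ptIdeal P hP)) :=
    fun {P} hP => isInvertible_ptIdeal_of_normal k hdim hP (isIntegrallyClosed_stalk_of_smooth k P)
  haveI := LocallyOfFiniteType.jacobsonSpace (X ↘ Spec (CommRingCat.of k))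
  obtain ⟨P, -, hP⟩ := nonempty_inter_closedPoints (X := X) Set.univ_nonempty isClosed_univ.isLocallyClosed
  have hIP := hI hP
  let N := CohB1.tensorMod M (ClSub.idealMod (ptIdeal P hP))
  have hN : PicF.IsInvertible N := AmpleLib.isInvertible_tensorMod hM hIP
  have hdN : Curv2.deg k X N 1 = 1 := by
    rw [deg_tensor_ptIdeal k hP hM, hd, finrank_resField k hP]; norm_num
  obtain ⟨-, hge⟩ := h0_tensor_ptIdeal k hP hM
  rw [finrank_resField k hP] at hge
  change _ ≤ Module.finrank k (Coh.HH X N 0) + 1 at hge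
  have hN1 : (Module.finrank k (Coh.HH X N 0) : ℤ) ≤ 1 := by
    have := CurveRR24.h0_le_deg k hdim.le (by omega) hN (by omega)
    rwa [hdN] at this
  obtain ⟨s, hs⟩ := exists_ne_zero_of_nontrivial k
    (Module.nontrivial_of_finrank_pos (R := k) (M := Coh.HH X N 0) (by omega))
  have hne : ∃ x, x ∉ glocus N s := by
    by_contra hall
    push Not at hall
    have hempty : CohB1.support (cokernel (unitDesc N s)) = ∅ :=
      Set.subset_empty_iff.1 fun x hx => support_cokernel_unitDesc s hx (hall x)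
    haveI := mono_unitDesc hN hs
    haveI : Epi (unitDesc N s) := Abelian.epi_of_cokernel_π_eq_zero _
      ((isZero_of_support_eq_empty hempty).eq_of_tgt _ _)
    haveI : IsIso (unitDesc N s) := isIso_of_mono_of_epi _
    rw [← deg_congr k (asIso (unitDesc N s)) 1, deg_structure] at hdN
    exact absurd hdN (by norm_num)
  obtain ⟨x, hx⟩ := hne
  obtain ⟨Q, hQx, hQ⟩ := (isClosed_closure (s := ({x} : Set X))).exists_closed_singleton ⟨x, subset_closure rfl⟩
  have hsQ : Q ∉ glocus N s := fun h' => hx ((specializes_iff_mem_closure.2 hQx).mem_open (glocus N s).2 h')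
  haveI := finite_HH_of_isCoh k (CurveRR24.isCoh_of_isInvertible k hN) 0
  haveI : Module.Finite k (GA (baseHom k X) N) := Module.Finite.equiv (hhZero k N)
  have hall : ∀ t : Γ(N, ⊤), Q ∉ glocus N t := by
    intro t ht
    let E := hhZero k N
    obtain ⟨c, hc⟩ := exists_smul_eq_of_finrank_eq_one (show Module.finrank k (Coh.HH X N 0) = 1 by omega)
      (x := E.symm s) (fun h => hs (E.symm.map_eq_zero_iff.1 h)) (E.symm t)
    rw [← map_smul] at hc
    replace hc := E.symm.injective hc
    have hc' : baseHom k X c • s = t := hc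
    refine (mem_glocus_iff_germ hN t Q).1 ht ?_
    rw [← hc', QCohLoc.germ_smul']
    exact Submodule.smul_mem _ _ (not_not.1 ((mem_glocus_iff_germ hN s Q).not.1 hsQ))
  have h00 := h0_eq_of_all_vanish k hQ hN hall
  have hIQ := hI hQ
  have hNQ := AmpleLib.isInvertible_tensorMod hN hIQ
  obtain ⟨e⟩ := (deg_nonneg_of_section k hdim.le hNQ
    (Module.nontrivial_of_finrank_pos (R := k) (by rw [h00]; omega))).2.1
    (by rw [deg_tensor_ptIdeal k hQ hN, hdN, finrank_resField k hQ]; norm_num)
  obtain ⟨a⟩ := exists_assocIso' M hIP hIQ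
  exact ⟨P, Q, hP, hQ, ⟨a.symm ≪≫ e⟩⟩

/-- On a curve with a `g¹₂`, a line bundle separating every pair of points is nonspecial. -/
theorem h1_eq_zero_of_drop_of_g12 [IsAlgClosed k] (hdim : topologicalKrullDim X = 1)
    (hg : 2 ≤ Curv2.genus k X) {A : X.Modules} (hA : PicF.IsInvertible A)
    (hdrop : ∀ (P Q : X) (hP : IsClosed ({P} : Set X)) (hQ : IsClosed ({Q} : Set X)),
      Module.finrank k (Coh.HH X (CohB1.tensorMod A (CohB1.tensorMod (ClSub.idealMod (ptIdeal P hP))
        (ClSub.idealMod (ptIdeal Q hQ)))) 0) + 2 = Module.finrank k (Coh.HH X A 0))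
    {M : X.Modules} (hM : PicF.IsInvertible M) (hd : Curv2.deg k X M 1 = 2)
    (h2 : 2 ≤ Module.finrank k (Coh.HH X M 0)) :
    Module.finrank k (Coh.HH X A 1) = 0 := by
  haveI := EulerLib.isNoetherian_of_proper k (X := X)
  let Ω := Omega.sheaf (X ↘ Spec (CommRingCat.of k))
  have hΩ : PicF.IsInvertible Ω := OmegaDual24.isInvertible_omega (k := k) hdim
  obtain ⟨P, Q, hP, hQ, ⟨eM⟩⟩ := exists_points_of_g12 k hdim hg hM hd h2
  let J := CohB1.tensorMod (ClSub.idealMod (ptIdeal P hP)) (ClSub.idealMod (ptIdeal Q hQ))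
  have hJ : PicF.IsInvertible J := AmpleLib.isInvertible_tensorMod
    (isInvertible_ptIdeal_of_normal k hdim hP (isIntegrallyClosed_stalk_of_smooth k P))
    (isInvertible_ptIdeal_of_normal k hdim hQ (isIntegrallyClosed_stalk_of_smooth k Q))
  have hAJ : PicF.IsInvertible (CohB1.tensorMod A J) := AmpleLib.isInvertible_tensorMod hA hJ
  obtain ⟨N, hN, ⟨eN⟩⟩ := CurveRR24.exists_inverse k hA
  have hNM : PicF.IsInvertible (CohB1.tensorMod N M) := AmpleLib.isInvertible_tensorMod hN hM
  obtain ⟨eAJ⟩ : Nonempty (CohB1.tensorMod (CohB1.tensorMod A J) (CohB1.tensorMod N M) ≅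
      Coh.structureModule X) := by
    obtain ⟨a₁⟩ := exists_assocIso' A hJ hNM
    obtain ⟨a₂⟩ := exists_assocIso' N hM hJ
    exact ⟨a₁ ≪≫ AmpleLib.tensorIso (Iso.refl A) (tensorComm _ _ ≪≫ a₂ ≪≫ AmpleLib.tensorIso (Iso.refl N) eM ≪≫
      tensorComm _ _ ≪≫ unitTensorIso N) ≪≫ eN⟩
  have hdeg : Curv2.deg k X (CohB1.tensorMod A J) 1 = Curv2.deg k X A 1 - 2 := by
    have h1 := deg_tensor k hdim.le hM hJ
    rw [deg_congr k eM 1, deg_structure, hd] at h1
    rw [deg_tensor k hdim.le hA hJ]
    omega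
  have hrrA := riemann_roch_omega k hdim hA hN eN
  have hrrJ := riemann_roch_omega k hdim hAJ hNM eAJ
  have h1A := h1_eq_h0_omega k hdim hA hN eN
  have hdr := hdrop P Q hP hQ
  change Module.finrank k (Coh.HH X (CohB1.tensorMod A J) 0) + 2 = _ at hdr
  change _ - (Module.finrank k (Coh.HH X (CohB1.tensorMod Ω N) 0) : ℤ) = _ at hrrA
  change _ - (Module.finrank k (Coh.HH X (CohB1.tensorMod Ω (CohB1.tensorMod N M)) 0) : ℤ) = _ at hrrJ
  change _ = Module.finrank k (Coh.HH X (CohB1.tensorMod Ω N) 0) at h1A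
  rw [hdeg] at hrrJ
  obtain ⟨a⟩ := exists_assocIso' Ω hN hM
  rw [← finrank_HH_congr k a 0] at hrrJ
  rw [h1A]
  by_contra hne
  have hΩN : PicF.IsInvertible (CohB1.tensorMod Ω N) := AmpleLib.isInvertible_tensorMod hΩ hN
  have hadd := h0_add_h0_le k hdim (fun P _ => isIntegrallyClosed_stalk_of_smooth k P) hΩN hM
    (Module.nontrivial_of_finrank_pos (R := k) (Nat.pos_of_ne_zero hne))
    (Module.nontrivial_of_finrank_pos (R := k) (by omega))
  omega

end Groth.Agent.Clifford24
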