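import Mathlib.RingTheory.DiscreteValuationRing.Basic
import Mathlib.Combinatorics.Additive.CauchyDavenport
import Mathlib.LinearAlgebra.FiniteDimensional.Lemmas

/-!
# Orders of vanishing of a finite dimensional space of functions

In a DVR over a field with trivial residue extension a finite dimensional subspace has exactly as many
orders of vanishing as its dimension; hence `dim VW ≥ dim V + dim W - 1`.
-/

set_option autoImplicit false

open IsDiscreteValuationRing IsLocalRing Pointwise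

namespace Groth.Agent.Clifford24

variable {k O : Type*} [Field k] [CommRing O] [IsDomain O] [IsDiscreteValuationRing O] [Algebra k O]

theorem le_addVal_iff {ϖ : O} (hϖ : Irreducible ϖ) (n : ℕ) (v : O) :
    (n : ℕ∞) ≤ addVal O v ↔ ϖ ^ n ∣ v := by
  rw [← addVal_le_iff_dvd, addVal_pow, addVal_uniformizer hϖ, nsmul_one]

theorem exists_eq_of_ne_zero {v : O} (hv : v ≠ 0) : ∃ m : ℕ, addVal O v = m := by
  have h : addVal O v ≠ ⊤ := fun h => hv (addVal_eq_top_iff.1 h)
  obtain ⟨m, hm⟩ := WithTop.ne_top_iff_exists.1 h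
  exact ⟨m, hm.symm⟩

/-- The set of orders of vanishing has the cardinality of the dimension. -/
theorem exists_card_ord (hres : ∀ x : O, ∃ c : k, x - algebraMap k O c ∈ maximalIdeal O) :
    ∀ (n : ℕ) (V : Submodule k O) [FiniteDimensional k V], Module.finrank k V = n →
      ∃ S : Finset ℕ, S.card = n ∧ ∀ m : ℕ, m ∈ S ↔ ∃ v ∈ V, addVal O v = m := by
  classical
  intro n
  induction n with
  | zero =>
    intro V _ hV
    refine ⟨∅, rfl, fun m => ⟨fun h => absurd h (Finset.notMem_empty m), ?_⟩⟩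
    rintro ⟨v, hv, hm⟩
    rw [Submodule.finrank_eq_zero] at hV
    rw [hV, Submodule.mem_bot] at hv
    rw [hv, addVal_zero] at hm
    exact absurd hm (WithTop.top_ne_natCast m)
  | succ n ih =>
    intro V _ hV
    obtain ⟨ϖ, hϖ⟩ := exists_irreducible O
    have hne : ∃ m : ℕ, ∃ v ∈ V, addVal O v = m := by
      have hb : V ≠ ⊥ := fun h => by rw [h, finrank_bot] at hV; omega
      obtain ⟨v, hv, hv0⟩ := Submodule.exists_mem_ne_zero_of_ne_bot hb
      obtain ⟨m, hm⟩ := exists_eq_of_ne_zero hv0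
      exact ⟨m, v, hv, hm⟩
    let m₀ := Nat.find hne
    obtain ⟨v₀, hv₀, hm₀⟩ := Nat.find_spec hne
    change addVal O v₀ = (m₀ : ℕ∞) at hm₀
    let I : Submodule k O := (Ideal.span {ϖ ^ (m₀ + 1)}).restrictScalars k
    have hI : ∀ v, v ∈ I ↔ ((m₀ + 1 : ℕ) : ℕ∞) ≤ addVal O v := fun v => by
      rw [le_addVal_iff hϖ]; exact Ideal.mem_span_singleton
    have hv0I : v₀ ∉ I := fun h => by
      rw [hI, hm₀, Nat.cast_le] at h; omega
    have hsup : V = (V ⊓ I) ⊔ Submodule.span k {v₀} := by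
      refine le_antisymm (fun v hv => ?_) (sup_le inf_le_left (Submodule.span_le.2 (by simpa using hv₀)))
      have hle : (m₀ : ℕ∞) ≤ addVal O v := by
        rcases eq_or_ne v 0 with rfl | hv0
        · rw [addVal_zero]; exact le_top
        · obtain ⟨m, hm⟩ := exists_eq_of_ne_zero hv0
          rw [hm, Nat.cast_le]; exact Nat.find_le ⟨v, hv, hm⟩
      obtain ⟨a, rfl⟩ := (le_addVal_iff hϖ m₀ v).1 hle
      obtain ⟨b, hb⟩ := (le_addVal_iff hϖ m₀ v₀).1 hm₀.ge
      have hbu : IsUnit b := by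
        by_contra hbu
        refine hv0I ?_
        obtain ⟨c, rfl⟩ : ϖ ∣ b := by
          rw [← Ideal.mem_span_singleton, ← hϖ.maximalIdeal_eq]; exact hbu
        exact Ideal.mem_span_singleton'.2 ⟨c, by rw [hb]; ring⟩
      obtain ⟨b', hb'⟩ := hbu.exists_left_inv
      obtain ⟨c, hc⟩ := hres (a * b')
      refine Submodule.mem_sup.2 ⟨ϖ ^ m₀ * a - c • v₀, ⟨V.sub_mem hv (V.smul_mem c hv₀), ?_⟩, c • v₀,
        Submodule.smul_mem _ c (Submodule.mem_span_singleton_self v₀), sub_add_cancel _ _⟩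
      rw [hϖ.maximalIdeal_eq, Ideal.mem_span_singleton'] at hc
      obtain ⟨d, hd⟩ := hc
      refine Ideal.mem_span_singleton'.2 ⟨d * b, ?_⟩
      rw [Algebra.smul_def, hb, pow_succ]
      linear_combination (ϖ ^ m₀ * b) * hd + (ϖ ^ m₀ * a) * hb'
    have hfin : Module.finrank k ↥(V ⊓ I) = n := by
      have hv0ne : v₀ ≠ 0 := fun h0 => hv0I (by rw [h0]; exact I.zero_mem)
      have h := Submodule.finrank_sup_add_finrank_inf_eq (V ⊓ I) (Submodule.span k {v₀})
      have hd : (V ⊓ I) ⊓ Submodule.span k {v₀} = ⊥ := by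
        rw [← disjoint_iff, Submodule.disjoint_span_singleton' hv0ne]
        exact fun h => hv0I h.2
      rw [← hsup, hd, finrank_bot, finrank_span_singleton hv0ne, hV] at h
      omega
    obtain ⟨S, hS, hSm⟩ := ih (V ⊓ I) hfin
    have hgt : ∀ m ∈ S, m₀ + 1 ≤ m := by
      intro m hm
      obtain ⟨v, hv, hv'⟩ := (hSm m).1 hm
      have := (hI v).1 hv.2
      rw [hv', Nat.cast_le] at this
      exact this
    refine ⟨insert m₀ S, ?_, fun m => ?_⟩
    · rw [Finset.card_insert_of_notMem (fun h => by have := hgt _ h; omega), hS]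
    · rw [Finset.mem_insert]
      constructor
      · rintro (rfl | h)
        · exact ⟨v₀, hv₀, hm₀⟩
        · obtain ⟨v, hv, hv'⟩ := (hSm m).1 h
          exact ⟨v, hv.1, hv'⟩
      · rintro ⟨v, hv, hv'⟩
        by_cases he : m = m₀
        · exact Or.inl he
        · refine Or.inr ((hSm m).2 ⟨v, ⟨hv, (hI v).2 ?_⟩, hv'⟩)
          have : m₀ ≤ m := Nat.find_le ⟨v, hv, hv'⟩
          rw [hv', Nat.cast_le]
          omega

/-- `dim V + dim W ≤ dim U + 1` if `VW ⊆ U`. -/
theorem finrank_add_finrank_le (hres : ∀ x : O, ∃ c : k, x - algebraMap k O c ∈ maximalIdeal O)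
    (U V W : Submodule k O) [FiniteDimensional k U] [FiniteDimensional k V] [FiniteDimensional k W]
    (hV : V ≠ ⊥) (hW : W ≠ ⊥) (h : ∀ v ∈ V, ∀ w ∈ W, v * w ∈ U) :
    Module.finrank k V + Module.finrank k W ≤ Module.finrank k U + 1 := by
  classical
  obtain ⟨SU, hSU, hU⟩ := exists_card_ord hres _ U rfl
  obtain ⟨SV, hSV, hV'⟩ := exists_card_ord hres _ V rfl
  obtain ⟨SW, hSW, hW'⟩ := exists_card_ord hres _ W rfl
  have h1 : SV.Nonempty := Finset.card_pos.1 (by rw [hSV]; exact Nat.pos_of_ne_zero (by simpa using hV))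
  have h2 : SW.Nonempty := Finset.card_pos.1 (by rw [hSW]; exact Nat.pos_of_ne_zero (by simpa using hW))
  have hsub : SV + SW ⊆ SU := by
    intro m hm
    obtain ⟨a, ha, b, hb, rfl⟩ := Finset.mem_add.1 hm
    obtain ⟨v, hv, hva⟩ := (hV' a).1 ha
    obtain ⟨w, hw, hwb⟩ := (hW' b).1 hb
    exact (hU _).2 ⟨v * w, h v hv w hw, by rw [addVal_mul, hva, hwb, Nat.cast_add]⟩
  have := (cauchy_davenport_add_of_linearOrder_isCancelAdd h1 h2).trans (Finset.card_le_card hsub)
  omega

end Groth.Agent.Clifford24
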