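import Groth.Agent.Clifford24.Mul
import Groth.Agent.EmbLib24.Criterion
import Groth.Prelude.Def_LinSer

/-!
# Orders of vanishing of a linear series at a point
-/

set_option autoImplicit false
set_option linter.style.haveILetI false
set_option linter.unusedSectionVars false
set_option backward.isDefEq.respectTransparency.types false

universe u

open CategoryTheory CategoryTheory.Limits AlgebraicGeometry Opposite TopologicalSpace
open Groth.Agent.Coherent Groth.Agent.PicLib Groth.Agent.EulerLib Groth.Agent.CurveRR24
open IsDiscreteValuationRing IsLocalRing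

namespace Groth.Agent.Clifford24

/-- The colength of a principal ideal of a DVR is the valuation of its generator. -/
theorem length_quotient_span {O M : Type*} [CommRing O] [IsDomain O] [IsDiscreteValuationRing O]
    [AddCommGroup M] [Module O M] {e : M} (he : Function.Bijective fun r : O => r • e) {a : O} {m : ℕ}
    (ha : addVal O a = m) : Module.length O (M ⧸ Submodule.span O {a • e}) = m := by
  obtain ⟨ϖ, hϖ⟩ := exists_irreducible O
  have hI : (Ideal.span {a} : Ideal O) = IsLocalRing.maximalIdeal O ^ m := by
    rw [hϖ.maximalIdeal_eq, Ideal.span_singleton_pow]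
    refine le_antisymm (Ideal.span_singleton_le_span_singleton.2 ((le_addVal_iff hϖ m a).1 ha.ge))
      (Ideal.span_singleton_le_span_singleton.2 (addVal_le_iff_dvd.1 ?_))
    rw [ha, addVal_pow, addVal_uniformizer hϖ, nsmul_one]
  let φ : O ≃ₗ[O] M := LinearEquiv.ofBijective (LinearMap.toSpanSingleton O M e) he
  rw [← length_quotient_pow_maximalIdeal O m, ← hI]
  refine (Submodule.Quotient.equiv (Ideal.span {a}) (Submodule.span O {a • e}) φ ?_).symm.length_eq
  rw [Ideal.span, Submodule.map_span, Set.image_singleton]
  rfl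

variable {X : Scheme.{u}} (k : Type u) [Field k] [IsAlgClosed k] [X.Over (Spec (CommRingCat.of k))]
  [IsProper (X ↘ Spec (CommRingCat.of k))] [IsIntegral X]

/-- A linear series of dimension `r` has exactly `r + 1` orders of vanishing at each point. -/
theorem ncard_orders {L : X.Modules} (hL : PicF.IsInvertible L) {r : ℕ} (s : Fin (r + 1) → LinSer.Sect X L)
    (hs : LinSer.LinIndep k X L s) (p : X) (hp : IsClosed ({p} : Set X))
    [IsDiscreteValuationRing (X.presheaf.stalk p)] :
    Set.ncard ((fun c : Fin (r + 1) → k =>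
        Module.length (X.presheaf.stalk p)
          (↥(L.presheaf.stalk p) ⧸ Submodule.span (X.presheaf.stalk p)
            {(L.presheaf.germ ⊤ p trivial) (∑ i, (Coh.toGlobal (X ↘ Spec (CommRingCat.of k)) (c i)) • s i)})) ''
        {c : Fin (r + 1) → k | c ≠ 0}) = r + 1 := by
  classical
  haveI := EulerLib.isNoetherian_of_proper k (X := X)
  obtain ⟨U, hpU, g, hg⟩ := exists_isGen hL p
  let O := X.presheaf.stalk p
  let φ : k →+* O := (X.presheaf.germ ⊤ p trivial).hom.comp (baseHom k X)
  let _ : Algebra k O := φ.toAlgebra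
  have hres : ∀ x : O, ∃ c : k, x - algebraMap k O c ∈ IsLocalRing.maximalIdeal O := by
    intro x
    let _ := Curv2.resAlgebra k X p
    haveI := finite_resField hp k
    obtain ⟨c, hc⟩ := (IsAlgClosed.algebraMap_bijective_of_isIntegral (k := k) (K := X.residueField p)).2
      (IsLocalRing.residue _ x)
    refine ⟨c, (IsLocalRing.residue_eq_zero_iff _).1 ?_⟩
    rw [map_sub, sub_eq_zero, ← hc]
    rfl
  let lin : GA (baseHom k X) L →ₗ[k] O :=
    { toFun := fun z => coordGerm hg hpU z
      map_add' := fun z t => coordGerm_add hg hpU z t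
      map_smul' := fun c z => coordGerm_smul hg hpU (baseHom k X c) z }
  let v : Fin (r + 1) → O := fun i => lin (show GA (baseHom k X) L from s i)
  have hsum : ∀ c : Fin (r + 1) → k, ∑ i, c i • v i =
      coordGerm hg hpU (∑ i, (Coh.toGlobal (X ↘ Spec (CommRingCat.of k)) (c i)) • s i) := fun c => by
    show _ = lin (∑ i, c i • (show GA (baseHom k X) L from s i))
    rw [map_sum]
    simp only [map_smul]
    rfl
  have hv : LinearIndependent k v := by
    refine Fintype.linearIndependent_iff.2 fun c hc => congrFun (hs c ?_)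
    exact coordGerm_injective hL hg hpU ((hsum c).symm.trans hc)
  let V := Submodule.span k (Set.range v)
  haveI : FiniteDimensional k V := FiniteDimensional.span_of_finite k (Set.finite_range v)
  have hVr : Module.finrank k V = r + 1 := by rw [finrank_span_eq_card hv, Fintype.card_fin]
  obtain ⟨S, hSc, hS⟩ := exists_card_ord hres (r + 1) V hVr
  have himg : ((fun c : Fin (r + 1) → k =>
        Module.length (X.presheaf.stalk p)
          (↥(L.presheaf.stalk p) ⧸ Submodule.span (X.presheaf.stalk p)
            {(L.presheaf.germ ⊤ p trivial) (∑ i, (Coh.toGlobal (X ↘ Spec (CommRingCat.of k)) (c i)) • s i)})) ''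
        {c : Fin (r + 1) → k | c ≠ 0}) = (fun m : ℕ => (m : ℕ∞)) '' (S : Set ℕ) := by
    have hlen : ∀ (c : Fin (r + 1) → k) (m : ℕ), addVal O (∑ i, c i • v i) = m →
        Module.length (X.presheaf.stalk p)
          (↥(L.presheaf.stalk p) ⧸ Submodule.span (X.presheaf.stalk p)
            {(L.presheaf.germ ⊤ p trivial) (∑ i, (Coh.toGlobal (X ↘ Spec (CommRingCat.of k)) (c i)) • s i)}) = m := by
      intro c m hm
      let σ : Γ(L, ⊤) := ∑ i, (Coh.toGlobal (X ↘ Spec (CommRingCat.of k)) (c i)) • s i
      have hc := hg.coef_spec le_rfl (resM L (le_top : U ≤ ⊤) σ)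
      rw [resM_self] at hc
      change Module.length O (_ ⧸ Submodule.span O {L.presheaf.germ ⊤ p trivial σ}) = m
      rw [CurveRR24.germ_smul_gen hpU σ hc.symm]
      refine length_quotient_span (EmbLib24.bijective_smul_germ hg hpU) ?_
      rw [hsum c] at hm
      exact hm
    ext n
    constructor
    · rintro ⟨c, hc, rfl⟩
      have hne : ∑ i, c i • v i ≠ 0 := fun h0 => hc (funext (Fintype.linearIndependent_iff.1 hv c h0))
      obtain ⟨m, hm⟩ := exists_eq_of_ne_zero hne
      exact ⟨m, (hS m).2 ⟨_, Submodule.sum_mem _ fun i _ => Submodule.smul_mem _ _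
        (Submodule.subset_span ⟨i, rfl⟩), hm⟩, (hlen c m hm).symm⟩
    · rintro ⟨m, hm, rfl⟩
      obtain ⟨w, hw, hwm⟩ := (hS m).1 hm
      obtain ⟨c, rfl⟩ := (Submodule.mem_span_range_iff_exists_fun k).1 hw
      refine ⟨c, fun h0 => ?_, hlen c m hwm⟩
      subst h0
      rw [show ∑ i, (0 : Fin (r + 1) → k) i • v i = 0 by simp, addVal_zero] at hwm
      exact WithTop.top_ne_natCast m hwm
  rw [himg, Set.ncard_image_of_injective _ Nat.cast_injective, Set.ncard_coe_finset, hSc]

end Groth.Agent.Clifford24
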