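import Groth.Prelude.Def_W4c1stackycurvesGalP1
import Mathlib

set_option autoImplicit false
open Projectivization W4c1stackycurves
universe u

namespace Groth.Agent.Clifford24.P1Three

variable {K : Type u} [Field K]

local notation "V" => Fin 2 → K

theorem exists_normal_reps (x : Fin 3 → Projectivization K V) (hx : Function.Injective x) :
    ∃ (v : Fin 3 → V) (hv : ∀ i, v i ≠ 0), (∀ i, Projectivization.mk K (v i) (hv i) = x i) ∧
      LinearIndependent K ![v 0, v 1] ∧ v 2 = v 0 + v 1 := by
  have hli : ∀ i j, i ≠ j → LinearIndependent K ![(x i).rep, (x j).rep] := fun i j h =>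
    linearIndependent_pair_iff_ne.mpr (fun e => h (hx e))
  have h01 := hli 0 1 (by decide)
  let B := basisOfLinearIndependentOfCardEqFinrank h01 (by simp)
  have hB : (x 2).rep = B.repr (x 2).rep 0 • (x 0).rep + B.repr (x 2).rep 1 • (x 1).rep := by
    conv_lhs => rw [← B.sum_repr (x 2).rep]
    simp [Fin.sum_univ_two, B, coe_basisOfLinearIndependentOfCardEqFinrank]
  set a := B.repr (x 2).rep 0
  set b := B.repr (x 2).rep 1
  have ha : a ≠ 0 := by
    intro h
    have h2 := LinearIndependent.pair_iff.mp (hli 2 1 (by decide)) 1 (-b) (by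
      rw [hB, h]; simp)
    exact one_ne_zero h2.1
  have hb : b ≠ 0 := by
    intro h
    have h2 := LinearIndependent.pair_iff.mp (hli 2 0 (by decide)) 1 (-a) (by
      rw [hB, h]; simp)
    exact one_ne_zero h2.1
  refine ⟨![a • (x 0).rep, b • (x 1).rep, (x 2).rep], ?_, ?_, ?_, ?_⟩
  · intro i
    fin_cases i <;> simp [ha, hb, Projectivization.rep_nonzero]
  · intro i
    conv_rhs => rw [← Projectivization.mk_rep (x i)]
    rw [Projectivization.mk_eq_mk_iff']
    fin_cases i
    exacts [⟨a, rfl⟩, ⟨b, rfl⟩, ⟨1, by simp⟩]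
  · rw [LinearIndependent.pair_iff] at h01 ⊢
    intro s t h
    simp only [Matrix.cons_val_zero, Matrix.cons_val_one, smul_smul] at h
    obtain ⟨h1, h2⟩ := h01 _ _ h
    exact ⟨(mul_eq_zero.mp h1).resolve_right ha, (mul_eq_zero.mp h2).resolve_right hb⟩
  · simpa using hB

def Maps (g : Matrix (Fin 2) (Fin 2) K) (p q : Projectivization K V) : Prop :=
  ∀ (v : V) (hv : v ≠ 0), Projectivization.mk K v hv = p →
    ∃ h : g.mulVec v ≠ 0, Projectivization.mk K (g.mulVec v) h = q

theorem maps_of_one {g : Matrix (Fin 2) (Fin 2) K} {p q : Projectivization K V} (v : V) (hv : v ≠ 0)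
    (hp : Projectivization.mk K v hv = p) (h : g.mulVec v ≠ 0)
    (hq : Projectivization.mk K (g.mulVec v) h = q) : Maps g p q := by
  intro w hw e
  obtain ⟨c, hc⟩ := (Projectivization.mk_eq_mk_iff' K w v hw hv).mp (e.trans hp.symm)
  have hc0 : c ≠ 0 := fun h0 => hw (by rw [← hc, h0, zero_smul])
  have hne : g.mulVec w ≠ 0 := by
    rw [← hc, Matrix.mulVec_smul]; exact smul_ne_zero hc0 h
  refine ⟨hne, ?_⟩
  rw [← hq, Projectivization.mk_eq_mk_iff']
  exact ⟨c, by rw [← hc, Matrix.mulVec_smul]⟩

theorem exists_maps_three (x y : Fin 3 → Projectivization K V) (hx : Function.Injective x)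
    (hy : Function.Injective y) :
    ∃ g : Matrix (Fin 2) (Fin 2) K, g.det ≠ 0 ∧ (∀ i, Maps g (x i) (y i)) ∧
      ∀ h : Matrix (Fin 2) (Fin 2) K, (∀ i, Maps h (x i) (y i)) → ∃ c : K, h = c • g := by
  obtain ⟨v, hv, hvx, hvli, hv2⟩ := exists_normal_reps x hx
  obtain ⟨w, hw, hwy, hwli, hw2⟩ := exists_normal_reps y hy
  let B := basisOfLinearIndependentOfCardEqFinrank hvli (by simp)
  let C := basisOfLinearIndependentOfCardEqFinrank hwli (by simp)
  have hBv : (⇑B) = ![v 0, v 1] := coe_basisOfLinearIndependentOfCardEqFinrank _ _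
  have hCw : (⇑C) = ![w 0, w 1] := coe_basisOfLinearIndependentOfCardEqFinrank _ _
  let e : V ≃ₗ[K] V := B.equiv C (Equiv.refl _)
  have he : ∀ i, e (v i) = w i := by
    have h0 : e (v 0) = w 0 := by
      have := B.equiv_apply (i := 0) C (Equiv.refl _)
      simpa [hBv, hCw, e] using this
    have h1 : e (v 1) = w 1 := by
      have := B.equiv_apply (i := 1) C (Equiv.refl _)
      simpa [hBv, hCw, e] using this
    intro i
    fin_cases i
    exacts [h0, h1, by simp only [Fin.reduceFinMk]; rw [hv2, hw2, map_add, h0, h1]]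
  let g := LinearMap.toMatrix' e.toLinearMap
  have hg : ∀ z, g.mulVec z = e z := fun z => by
    rw [← Matrix.toLin'_apply]; simp [g]
  refine ⟨g, ?_, fun i => ?_, fun h hh => ?_⟩
  · rw [LinearMap.det_toMatrix']
    exact (LinearEquiv.isUnit_det' e).ne_zero
  · refine maps_of_one (v i) (hv i) (hvx i) (by rw [hg, he]; exact hw i) ?_
    rw [← hwy i, Projectivization.mk_eq_mk_iff']
    exact ⟨1, by rw [one_smul, hg, he]⟩
  · have hc : ∀ i, ∃ c : K, h.mulVec (v i) = c • w i := by
      intro i
      obtain ⟨hne, he'⟩ := hh i (v i) (hv i) (hvx i)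
      obtain ⟨c, hc⟩ := (Projectivization.mk_eq_mk_iff' K _ _ hne (hw i)).mp (he'.trans (hwy i).symm)
      exact ⟨c, hc.symm⟩
    choose c hc using hc
    have h2 : c 0 • w 0 + c 1 • w 1 = c 2 • w 0 + c 2 • w 1 := by
      rw [← smul_add, ← hw2, ← hc, ← hc, ← hc, hv2, Matrix.mulVec_add]
    have h3 := LinearIndependent.pair_iff.mp hwli (c 0 - c 2) (c 1 - c 2) (by
      rw [sub_smul, sub_smul, sub_add_sub_comm, h2, sub_self])
    refine ⟨c 2, ?_⟩
    apply Matrix.toLin'.injective
    refine B.ext fun i => ?_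
    simp only [Matrix.toLin'_apply, Matrix.smul_mulVec, hBv, hg]
    fin_cases i
    · simp only [Fin.reduceFinMk, Matrix.cons_val_zero, he, hc, sub_eq_zero.mp h3.1]
    · simp only [Fin.reduceFinMk, Matrix.cons_val_one, Matrix.cons_val_zero, he, hc, sub_eq_zero.mp h3.2]

variable {k : Type u} [Field k] [Algebra k K]

theorem galP_mk (σ : K ≃ₐ[k] K) (v : V) (hv : v ≠ 0) :
    galP σ (Projectivization.mk K v hv) =
      Projectivization.mk K (fun i => σ (v i))
        (fun h => hv (funext fun i => σ.injective (by simpa using congrFun h i))) := rfl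

theorem galP_galP_symm (σ : K ≃ₐ[k] K) (p : Projectivization K V) : galP σ.symm (galP σ p) = p := by
  induction p using Projectivization.ind with
  | h v hv => simp [galP_mk]

theorem galP_injective (σ : K ≃ₐ[k] K) : Function.Injective (galP σ : Projectivization K V → _) :=
  Function.LeftInverse.injective (galP_galP_symm σ)

theorem mulVec_gal (σ : K ≃ₐ[k] K) (g : Matrix (Fin 2) (Fin 2) K) (v : V) :
    (g.map σ).mulVec (fun i => σ (v i)) = fun i => σ (g.mulVec v i) := by
  ext i
  simp [Matrix.mulVec, dotProduct]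

theorem maps_gal (σ : K ≃ₐ[k] K) {g : Matrix (Fin 2) (Fin 2) K} {p q : Projectivization K V}
    (h : Maps g p q) : Maps (g.map σ) (galP σ p) (galP σ q) := by
  induction p using Projectivization.ind with
  | h v hv =>
    obtain ⟨hne, hq⟩ := h v hv rfl
    have hne' : (g.map σ).mulVec (fun i => σ (v i)) ≠ 0 := by
      rw [mulVec_gal]
      exact fun h0 => hne (funext fun i => σ.injective (by simpa using congrFun h0 i))
    refine maps_of_one _ _ (galP_mk σ v hv).symm hne' ?_
    rw [← hq, galP_mk]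
    congr 1
    exact mulVec_gal σ g v

end Groth.Agent.Clifford24.P1Three
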