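import Groth.Agent.Clifford24.Equality
import Groth.Agent.Clifford24.Sub
import Groth.Agent.Clifford24.Canonical
import Groth.Agent.CurveRR24.GG

/-!
# The base point free pencil trick for invertible modules on curves
-/

set_option autoImplicit false
set_option linter.style.haveILetI false
set_option linter.unusedSectionVars false
set_option backward.isDefEq.respectTransparency.types false
set_option maxHeartbeats 1000000

universe u

open CategoryTheory CategoryTheory.Limits AlgebraicGeometry Opposite TopologicalSpace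
open Groth.Agent.Coherent Groth.Agent.PicLib Groth.Agent.AmpleLib Groth.Agent.EulerLib Groth.Agent.CurveRR24

namespace Groth.Agent.Clifford24

variable {X : Scheme.{u}}

local notation "St" => DerSch.stalkFunctor X

/-- Multiplication by a global section. -/
noncomputable def mulSec (A : X.Modules) {D : X.Modules} (s : Γ(D, ⊤)) : A ⟶ CohB1.tensorMod A D :=
  (unitTensorIso A).inv ≫ (tensorComm _ A).hom ≫ tensorMap (𝟙 A) (unitDesc D s)

theorem mulSec_app (A : X.Modules) {D : X.Modules} (s : Γ(D, ⊤)) (U : X.Opens) (a : Γ(A, U)) :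
    (mulSec A s).app U a = tmul a (resM D (le_top : U ≤ ⊤) s) := by
  show (tensorMap (𝟙 A) (unitDesc D s)).app U ((tensorSwap (Coh.structureModule X) A).app U
    (tmul (show Γ(Coh.structureModule X, U) from (1 : Γ(X, U))) a)) = _
  have h : (tensorSwap (Coh.structureModule X) A).app U
      (tmul (show Γ(Coh.structureModule X, U) from (1 : Γ(X, U))) a) =
        tmul a (show Γ(Coh.structureModule X, U) from (1 : Γ(X, U))) := Bilin.desc_tmul _ U _ a
  rw [h, tensorMap_tmul]
  refine congrArg₂ tmul rfl ?_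
  exact (unitDesc_app D s U 1).trans (one_smul Γ(X, U) _)

/-- Multiplications by two sections of an invertible module commute. -/
theorem mulSec_comm (A : X.Modules) {D : X.Modules} (hD : PicF.IsInvertible D) (s t : Γ(D, ⊤)) :
    mulSec A s ≫ mulSec (CohB1.tensorMod A D) t = mulSec A t ≫ mulSec (CohB1.tensorMod A D) s := by
  refine Scheme.Modules.hom_ext _ _ fun U => ConcreteCategory.hom_ext _ _ fun a => ?_
  show (mulSec (CohB1.tensorMod A D) t).app U ((mulSec A s).app U a) =
    (mulSec (CohB1.tensorMod A D) s).app U ((mulSec A t).app U a)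
  rw [mulSec_app, mulSec_app, mulSec_app, mulSec_app]
  let T := CohB1.tensorMod (CohB1.tensorMod A D) D
  refine TopCat.Presheaf.section_ext (⟨T.presheaf, T.isSheaf⟩ : TopCat.Sheaf Ab X) U _ _ fun y hy => ?_
  obtain ⟨W₁, hyW, g₁, hg₁⟩ := exists_isGen hD y
  let W := U ⊓ W₁
  let g := resM D (inf_le_right : W ≤ W₁) g₁
  have hg : IsGen D W g := hg₁.restrict inf_le_right
  have hsW := hg.coef_spec le_rfl (resM D (le_top : W ≤ ⊤) s)
  have htW := hg.coef_spec le_rfl (resM D (le_top : W ≤ ⊤) t)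
  rw [resM_self] at hsW htW
  have key : resM T (inf_le_left : W ≤ U) (tmul (tmul a (resM D (le_top : U ≤ ⊤) s)) (resM D (le_top : U ≤ ⊤) t)) =
      resM T (inf_le_left : W ≤ U) (tmul (tmul a (resM D (le_top : U ≤ ⊤) t)) (resM D (le_top : U ≤ ⊤) s)) := by
    simp only [T, resM_tmul, resM_resM]
    rw [← hsW, ← htW]
    simp only [tmul_smul_left, tmul_smul_right]
    exact smul_comm _ _ _
  exact (TopCat.Presheaf.germ_res_apply T.presheaf (homOfLE (inf_le_left : W ≤ U)) y ⟨hy, hyW⟩ _).symm.trans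
    ((congrArg (T.presheaf.germ W y ⟨hy, hyW⟩) key).trans
      (TopCat.Presheaf.germ_res_apply T.presheaf (homOfLE (inf_le_left : W ≤ U)) y ⟨hy, hyW⟩ _))

/-- Multiplication by a section is an isomorphism on stalks where the section generates. -/
theorem surjective_stalk_mulSec {A D : X.Modules} (hA : PicF.IsInvertible A) (hD : PicF.IsInvertible D)
    (s : Γ(D, ⊤)) {y : X} (h : y ∈ glocus D s) : Function.Surjective ((St y).map (mulSec A s)) := by
  intro z
  obtain ⟨U₁, h₁, a₁, ha₁⟩ := exists_isGen hA y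
  obtain ⟨U₂, h₂, g₂, hg₂⟩ := exists_isGen hD y
  let U := U₁ ⊓ U₂
  have hy : y ∈ U := ⟨h₁, h₂⟩
  have ha := ha₁.restrict (inf_le_left : U ≤ U₁)
  have hg := hg₂.restrict (inf_le_right : U ≤ U₂)
  let a := resM A (inf_le_left : U ≤ U₁) a₁
  let g := resM D (inf_le_right : U ≤ U₂) g₂
  let R := X.presheaf.stalk y
  obtain ⟨c, hc⟩ := (EmbLib24.bijective_smul_germ hg hy).2 (D.presheaf.germ U y hy (resM D (le_top : U ≤ ⊤) s))
  have hu : IsUnit c := by
    by_contra hcu
    refine (mem_glocus_iff_germ hD s y).1 h ?_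
    have hm : (D.presheaf.germ U y hy (resM D (le_top : U ≤ ⊤) s)) ∈ IsLocalRing.maximalIdeal R •
        (⊤ : Submodule R (D.presheaf.stalk y)) :=
      hc ▸ Submodule.smul_mem_smul ((IsLocalRing.mem_maximalIdeal _).2 hcu) Submodule.mem_top
    exact (congrArg (· ∈ _) (TopCat.Presheaf.germ_res_apply D.presheaf (homOfLE (le_top : U ≤ ⊤)) y hy s)).mp hm
  obtain ⟨r, hr⟩ := (EmbLib24.bijective_smul_germ (isGen_tmul ha hg) hy).2 z
  obtain ⟨v, hv⟩ := hu
  let φ : A.presheaf.stalk y →ₗ[R] (CohB1.tensorMod A D).presheaf.stalk y := ((St y).map (mulSec A s)).hom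
  have h1 : φ (A.presheaf.germ U y hy a) = c • (CohB1.tensorMod A D).presheaf.germ U y hy (tmul a g) := by
    refine (Coherent.stalk_map_germ (mulSec A s) hy a).trans ?_
    rw [mulSec_app]
    obtain ⟨W, hyW, c', rfl⟩ := X.presheaf.exists_germ_eq (x := y) c
    have hcg : D.presheaf.germ (W ⊓ U) y ⟨hyW, hy⟩
        (X.presheaf.map (homOfLE (inf_le_left : W ⊓ U ≤ W)).op c' • resM D (inf_le_right : W ⊓ U ≤ U) g) =
        D.presheaf.germ (W ⊓ U) y ⟨hyW, hy⟩ (resM D (inf_le_right : W ⊓ U ≤ U) (resM D (le_top : U ≤ ⊤) s)) := by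
      refine (QCohLoc.germ_smul' (M := D) _ _ _).trans ?_
      refine Eq.trans (congrArg₂ (· • ·) (TopCat.Presheaf.germ_res_apply X.presheaf _ _ _ _)
        (TopCat.Presheaf.germ_res_apply D.presheaf (homOfLE (inf_le_right : W ⊓ U ≤ U)) y ⟨hyW, hy⟩ g)) ?_
      exact hc.trans (TopCat.Presheaf.germ_res_apply D.presheaf (homOfLE (inf_le_right : W ⊓ U ≤ U)) y ⟨hyW, hy⟩ _).symm
    obtain ⟨V, hyV, i₁, i₂, hV⟩ := TopCat.Presheaf.germ_eq D.presheaf (U := W ⊓ U) (V := W ⊓ U) y ⟨hyW, hy⟩ ⟨hyW, hy⟩ _ _ hcg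
    change resM D i₁.le _ = resM D i₂.le _ at hV
    rw [resM_smul] at hV
    have hVU : V ≤ U := i₁.le.trans inf_le_right
    let T := CohB1.tensorMod A D
    have key : resM T hVU (tmul a (resM D (le_top : U ≤ ⊤) s)) =
        X.presheaf.map (homOfLE i₁.le).op (X.presheaf.map (homOfLE (inf_le_left : W ⊓ U ≤ W)).op c') •
          resM T hVU (tmul a g) := by
      simp only [T, resM_tmul]
      rw [← tmul_smul_right]
      refine congrArg₂ tmul rfl ?_
      simp only [resM_resM] at hV ⊢
      exact hV.symm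
    refine (TopCat.Presheaf.germ_res_apply T.presheaf (homOfLE hVU) y hyV _).symm.trans ?_
    refine (congrArg (T.presheaf.germ V y hyV) key).trans ?_
    refine (QCohLoc.germ_smul' (M := T) hyV _ _).trans (congrArg₂ (· • ·) ?_
      (TopCat.Presheaf.germ_res_apply T.presheaf (homOfLE hVU) y hyV _))
    exact (TopCat.Presheaf.germ_res_apply X.presheaf _ _ _ _).trans (TopCat.Presheaf.germ_res_apply X.presheaf _ _ _ _)
  refine ⟨(r * (↑v⁻¹ : R)) • A.presheaf.germ U y hy a, ?_⟩
  show φ _ = z
  rw [φ.map_smul, h1, ← hv, smul_smul, mul_assoc, Units.inv_mul, mul_one]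
  exact hr

variable (k : Type u) [Field k] [IsAlgClosed k] [X.Over (Spec (CommRingCat.of k))]
  [IsProper (X ↘ Spec (CommRingCat.of k))] [IsIntegral X]
  [Smooth (X ↘ Spec (CommRingCat.of k))] [GeometricallyIntegral (X ↘ Spec (CommRingCat.of k))]

/-- A base point free pencil: two sections, at every point one of them generates. -/
theorem exists_generating_pair {D : X.Modules} (hD : PicF.IsInvertible D) (hgg : Curv2.IsGloballyGenerated D)
    (h2 : Module.finrank k (Coh.HH X D 0) = 2) :
    ∃ s t : Γ(D, ⊤), s ≠ 0 ∧ t ≠ 0 ∧ ∀ y : X, y ∈ glocus D s ∨ y ∈ glocus D t := by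
  haveI := EulerLib.isNoetherian_of_proper k (X := X)
  haveI := LocallyOfFiniteType.jacobsonSpace (X ↘ Spec (CommRingCat.of k))
  haveI := finite_HH_of_isCoh k (CurveRR24.isCoh_of_isInvertible k hD) 0
  haveI : Module.Finite k (GA (baseHom k X) D) := Module.Finite.equiv (hhZero k D)
  rw [(hhZero k D).finrank_eq] at h2
  let b := Module.finBasisOfFinrankEq k (GA (baseHom k X) D) h2
  refine ⟨(show Γ(D, ⊤) from b 0), (show Γ(D, ⊤) from b 1), b.ne_zero 0, b.ne_zero 1, fun y => ?_⟩
  have hclosed : ∀ P : X, IsClosed ({P} : Set X) →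
      P ∈ glocus D (show Γ(D, ⊤) from b 0) ∨ P ∈ glocus D (show Γ(D, ⊤) from b 1) := by
    intro P hP
    obtain ⟨u, hu⟩ := exists_mem_glocus_of_gg k hP hD hgg
    by_contra hn
    rw [not_or] at hn
    refine (mem_glocus_iff_germ hD u P).1 hu ?_
    have h0 := not_not.1 ((mem_glocus_iff_germ hD _ P).not.1 hn.1)
    have h1 := not_not.1 ((mem_glocus_iff_germ hD _ P).not.1 hn.2)
    have hu' : u = baseHom k X (b.repr (show GA (baseHom k X) D from u) 0) • (show Γ(D, ⊤) from b 0) +
        baseHom k X (b.repr (show GA (baseHom k X) D from u) 1) • (show Γ(D, ⊤) from b 1) := by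
      have := b.sum_repr (show GA (baseHom k X) D from u)
      rw [Fin.sum_univ_two] at this
      exact this.symm
    rw [hu', map_add]
    refine add_mem ?_ ?_
    · exact (congrArg (· ∈ _) (QCohLoc.germ_smul' (M := D) (x := P) (V := ⊤) trivial _ _)).mpr (Submodule.smul_mem _ _ h0)
    · exact (congrArg (· ∈ _) (QCohLoc.germ_smul' (M := D) (x := P) (V := ⊤) trivial _ _)).mpr (Submodule.smul_mem _ _ h1)
  by_contra hn
  let Z : Set X := ((glocus D (show Γ(D, ⊤) from b 0) : Set X) ∪ (glocus D (show Γ(D, ⊤) from b 1) : Set X))ᶜ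
  obtain ⟨P, hPZ, hP⟩ := nonempty_inter_closedPoints (X := X) (Z := Z) ⟨y, fun h => hn h⟩
    ((glocus D _).2.union (glocus D _).2).isClosed_compl.isLocallyClosed
  exact hPZ (hclosed P hP)

/-- The base point free pencil trick: `2 h⁰(A ⊗ D) ≤ h⁰(A) + h⁰(A ⊗ D ⊗ D)`. -/
theorem pencil_trick (hdim : topologicalKrullDim X = 1) {D : X.Modules} (hD : PicF.IsInvertible D)
    (hgg : Curv2.IsGloballyGenerated D) (h2 : Module.finrank k (Coh.HH X D 0) = 2)
    {A : X.Modules} (hA : PicF.IsInvertible A) :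
    2 * Module.finrank k (Coh.HH X (CohB1.tensorMod A D) 0) ≤
      Module.finrank k (Coh.HH X A 0) + Module.finrank k (Coh.HH X (CohB1.tensorMod (CohB1.tensorMod A D) D) 0) := by
  haveI := EulerLib.isNoetherian_of_proper k (X := X)
  obtain ⟨s, t, hs, ht, hst⟩ := exists_generating_pair k hD hgg h2
  let L := CohB1.tensorMod A D
  let M := CohB1.tensorMod L D
  have hL : PicF.IsInvertible L := AmpleLib.isInvertible_tensorMod hA hD
  have hM : PicF.IsInvertible M := AmpleLib.isInvertible_tensorMod hL hD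
  have hn : ∀ P : X, IsIntegrallyClosed (X.presheaf.stalk P) := isIntegrallyClosed_stalk_of_smooth k
  have hne : ∀ {B : X.Modules}, PicF.IsInvertible B → ∀ u : Γ(D, ⊤), u ≠ 0 → mulSec B u ≠ 0 := by
    intro B hB u hu h0
    obtain ⟨P, hP⟩ : ∃ P, P ∈ glocus D u := ⟨_, genericPoint_mem_glocus hD hu⟩
    obtain ⟨bT⟩ := SplitP1.nonempty_basis_stalk
      (PicLib.isFinLocFreeOfRank_one (AmpleLib.isInvertible_tensorMod hB hD)) P
    obtain ⟨w, hw⟩ := surjective_stalk_mulSec hB hD u hP (bT 0)
    rw [h0, Functor.map_zero] at hw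
    exact bT.ne_zero 0 hw.symm
  let π : L ⊞ L ⟶ M := biprod.desc (mulSec L s) (mulSec L t)
  have hLc := CurveRR24.isCoh_of_isInvertible k hL
  have hMc := CurveRR24.isCoh_of_isInvertible k hM
  have hSc := isCoh_biprod hLc hLc
  haveI : Epi π := by
    refine Preadditive.epi_of_isZero_cokernel _ (ModStalk.isZero_of_stalks fun y => ?_)
    rw [ModuleCat.isZero_iff_subsingleton]
    refine subsingleton_of_forall_eq 0 fun z => ?_
    have hsurj : Function.Surjective ((St y).map π) := fun z => by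
      rcases hst y with h | h
      · obtain ⟨w, hw⟩ := surjective_stalk_mulSec hL hD s h z
        refine ⟨(St y).map biprod.inl w, ?_⟩
        show ((St y).map biprod.inl ≫ (St y).map π).hom w = z
        rw [← Functor.map_comp, biprod.inl_desc]
        exact hw
      · obtain ⟨w, hw⟩ := surjective_stalk_mulSec hL hD t h z
        refine ⟨(St y).map biprod.inr w, ?_⟩
        show ((St y).map biprod.inr ≫ (St y).map π).hom w = z
        rw [← Functor.map_comp, biprod.inr_desc]
        exact hw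
    haveI : Epi ((St y).map π) := (ModuleCat.epi_iff_surjective _).2 hsurj
    have hc : (St y).map (cokernel.π π) = 0 := by
      rw [← cancel_epi ((St y).map π), ← Functor.map_comp, cokernel.condition, Functor.map_zero, Limits.comp_zero]
    haveI : Epi ((St y).map (cokernel.π π)) := inferInstance
    obtain ⟨w, rfl⟩ := (ModuleCat.epi_iff_surjective ((St y).map (cokernel.π π))).1 inferInstance z
    exact congrArg (fun φ => φ.hom w) hc
  haveI : Mono (biprod.inr ≫ π) := by
    rw [biprod.inr_desc]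
    exact mono_of_ne_zero k hL hM _ (hne hL t ht)
  have hK := isCoh_kernel π hSc hMc.1
  have hKi : PicF.IsInvertible (kernel π) := isInvertible_kernel k hdim.le hn hL hL hM hSc hMc π inferInstance
  let j : A ⟶ L ⊞ L := biprod.lift (mulSec A t) (-mulSec A s)
  have hj : j ≫ π = 0 := by
    rw [biprod.lift_desc, Preadditive.neg_comp, mulSec_comm A hD t s, add_neg_cancel]
  let κ := kernel.lift π j hj
  have hκ : κ ≠ 0 := fun h0 => hne hA t ht (by
    have h1 : j = 0 := by rw [← kernel.lift_ι π j hj]; show κ ≫ _ = 0; rw [h0, Limits.zero_comp]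
    rw [← biprod.lift_fst (mulSec A t) (-mulSec A s)]
    show j ≫ biprod.fst = 0
    rw [h1, Limits.zero_comp])
  -- degrees
  have hS : (ShortComplex.mk (kernel.ι π) π (kernel.condition π)).ShortExact :=
    { exact := ShortComplex.exact_of_f_is_kernel _ (kernelIsKernel π) }
  have hchi := euler_additive k X _ hS hK hSc hMc
  change Curv2.euler k X (L ⊞ L) = Curv2.euler k X (kernel π) + Curv2.euler k X M at hchi
  rw [euler_biprod k hLc hLc] at hchi
  have hdM : Curv2.deg k X M 1 = Curv2.deg k X L 1 + Curv2.deg k X D 1 := deg_tensor k hdim.le hL hD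
  have hdL : Curv2.deg k X L 1 = Curv2.deg k X A 1 + Curv2.deg k X D 1 := deg_tensor k hdim.le hA hD
  have hdK : Curv2.deg k X (kernel π) 1 = Curv2.deg k X A 1 := by
    simp only [Curv2.deg, Nat.cast_one, one_mul] at hdM hdL ⊢
    linarith
  obtain ⟨A', hA', ⟨eA⟩⟩ := CurveRR24.exists_inverse k hA
  obtain ⟨hfin, hr⟩ := hom_equiv_h0 k hA hKi hA' eA
  haveI := hfin
  have hpos : 0 < Module.finrank k (A ⟶ kernel π) := Module.finrank_pos_iff_exists_ne_zero.2 ⟨κ, hκ⟩
  have hT := AmpleLib.isInvertible_tensorMod hKi hA'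
  have hdT : Curv2.deg k X (CohB1.tensorMod (kernel π) A') 1 = 0 := by
    rw [deg_tensor k hdim.le hKi hA', hdK]
    have h := deg_tensor k hdim.le hA hA'
    rw [deg_congr k eA, deg_structure] at h
    omega
  obtain ⟨eT⟩ := (deg_nonneg_of_section k hdim.le hT
    (Module.nontrivial_of_finrank_pos (R := k) (hr ▸ hpos))).2.1 hdT
  obtain ⟨eKA⟩ := nonempty_iso_of_tensor_iso k hA' hKi hA (tensorComm A' _ ≪≫ eT ≪≫ eA.symm ≪≫ tensorComm _ _)
  have h := le_trans (h0_add_le_biprod k hLc hLc) (h0_le_kernel_add k hSc hMc π)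
  rw [CurveRR24.finrank_HH_congr k eKA 0] at h
  show 2 * Module.finrank k (Coh.HH X L 0) ≤ Module.finrank k (Coh.HH X A 0) + Module.finrank k (Coh.HH X M 0)
  omega

end Groth.Agent.Clifford24
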