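import Groth.Agent.Clifford24.DivLE
import Groth.Agent.Clifford24.AbsCurveEff
import Groth.Agent.CurveRR24.GG
import Groth.Agent.CurveRR24.VeryAmple

/-! Divisors of closed points and global generation of modules of divisors. -/

set_option autoImplicit false
set_option linter.style.haveILetI false
set_option backward.isDefEq.respectTransparency.types false
universe u
open CategoryTheory CategoryTheory.Limits AlgebraicGeometry Opposite TopologicalSpace IsLocalRing
open Groth.Agent.Coherent Groth.Agent.MeroLib Groth.Agent.EulerLib Groth.Agent.PicLib Groth.Agent.AmpleLib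
open Groth.Agent.CurveRR24 Groth.Agent.AssSch12

noncomputable section

namespace Groth.Agent.Clifford24.PtDiv

variable {X : Scheme.{u}} {P : X} (hP : IsClosed ({P} : Set X))

theorem germ_eq_one_off {D : Mero.Divisor X} (h : Mero.IsDivOfIdeal D (ptIdeal P hP)) {y : X} (hy : y ≠ P) :
    D.1 y = 1 := by
  obtain ⟨U, hyU, f, hf, hI, hg⟩ := h y
  rw [hg ⟨y, hyU⟩]
  refine germ_eq_one_of_isUnit (r := X.presheaf.germ U.1 y hyU f) ?_ (IsUnit.unit_spec _)
  rw [← X.mem_basicOpen f y hyU]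
  have hy' : y ∉ X.zeroLocus (U := U.1) ((ptIdeal P hP).ideal U : Set Γ(X, U)) := fun hz => by
    have h1 : y ∈ X.zeroLocus (U := U.1) ((ptIdeal P hP).ideal U : Set Γ(X, U)) ∩ U.1 := ⟨hz, hyU⟩
    rw [← (ptIdeal P hP).coe_support_inter U] at h1
    exact hy ((support_ptIdeal hP).le h1.1)
  by_contra hno
  refine hy' ((Scheme.mem_zeroLocus_iff _ _ _).2 fun b hb => ?_)
  rw [SetLike.mem_coe, hI, Ideal.mem_span_singleton'] at hb
  obtain ⟨r, rfl⟩ := hb
  rw [X.basicOpen_mul]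
  exact fun h' => hno h'.2

theorem germ_at {D : Mero.Divisor X} (h : Mero.IsDivOfIdeal D (ptIdeal P hP)) :
    ∃ a : Mero.regStalk X P, maximalIdeal (X.presheaf.stalk P) = Ideal.span {(a : X.presheaf.stalk P)} ∧
      D.1 P = QuotientGroup.mk (AbsCurveDiv.regUnit a) := by
  obtain ⟨U, hPU, f, hf, hI, hg⟩ := h P
  refine ⟨⟨X.presheaf.germ U.1 P hPU f, U.1, hPU, f, hf, rfl⟩, ?_, hg ⟨P, hPU⟩⟩
  have hp : primeAt U.2 hPU = (ptIdeal P hP).ideal U := Ideal.ext fun a =>
    (mem_primeAt_iff U.2 hPU a).trans (mem_ptIdeal_iff hP U a).symm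
  rw [maximalIdeal_eq_map_primeAt U.2 hPU, hp, hI, Ideal.map_span, Set.image_singleton]

variable [AlgebraicGeometry.IsNoetherian X]
  (hC : ∀ x : X, IsClosed ({x} : Set X) → ringKrullDim (X.presheaf.stalk x) = 1)

include hC in
theorem exists_ptDiv (hreg : IsRegularLocalRing (X.presheaf.stalk P)) :
    ∃ D : Mero.Divisor X, Mero.IsDivOfIdeal D (ptIdeal P hP) := by
  classical
  haveI := hreg
  haveI : IsDomain (X.presheaf.stalk P) := CAlgH3.isDomain_of_isRegularLocalRing _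
  haveI : IsDiscreteValuationRing (X.presheaf.stalk P) :=
    IsLocalRing.finrank_CotangentSpace_eq_one_iff.1 (by
      have h := (IsRegularLocalRing.iff_finrank_cotangentSpace (X.presheaf.stalk P)).1 hreg
      rw [hC P hP] at h
      exact_mod_cast h)
  let I := ptIdeal P hP
  haveI := mono_idealModι I
  obtain ⟨U₀, hPU₀, g₀, hg₀⟩ := exists_isGen (isInvertible_ptIdeal_of_dvr hP) P
  obtain ⟨U, hU, hPU, hUU⟩ := exists_isAffineOpen_mem_and_subset (x := P) (U := U₀) hPU₀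
  have hg := hg₀.restrict (hUU : U ≤ U₀)
  let g := resM (ClSub.idealMod I) (hUU : U ≤ U₀) g₀
  let a : Γ(X, U) := (ClSub.idealModι I).app U g
  have hI : I.ideal ⟨U, hU⟩ = Ideal.span {a} := by
    refine le_antisymm (fun b hb => ?_) ((Ideal.span_singleton_le_iff_mem _).2 ?_)
    · obtain ⟨c, hc⟩ := (mem_range_idealModι I U b).2
        (RingHom.mem_ker.1 ((I.ker_subschemeι_app ⟨U, hU⟩).symm ▸ hb))
      obtain ⟨r, hr⟩ := (hg U le_rfl).2 c
      beta_reduce at hr
      rw [resM_self] at hr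
      refine Ideal.mem_span_singleton'.2 ⟨r, ?_⟩
      rw [← hc, ← hr, Scheme.Modules.Hom.app_smul]
      rfl
    · rw [← I.ker_subschemeι_app ⟨U, hU⟩]
      exact RingHom.mem_ker.2 ((mem_range_idealModι I U a).1 ⟨g, rfl⟩)
  have hP' : maximalIdeal (X.presheaf.stalk P) = Ideal.span {X.presheaf.germ U P hPU a} := by
    have hp : primeAt hU hPU = I.ideal ⟨U, hU⟩ := Ideal.ext fun b =>
      (mem_primeAt_iff hU hPU b).trans (mem_ptIdeal_iff hP ⟨U, hU⟩ b).symm
    rw [maximalIdeal_eq_map_primeAt hU hPU, hp, hI, Ideal.map_span, Set.image_singleton]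
  have hunit : ∀ (y : X) (hy : y ∈ U), y ≠ P → IsUnit (X.presheaf.germ U y hy a) := fun y hy hne => by
    rw [← X.mem_basicOpen a y hy]
    by_contra hno
    have hz : y ∈ X.zeroLocus (U := U) (I.ideal ⟨U, hU⟩ : Set Γ(X, U)) :=
      (Scheme.mem_zeroLocus_iff _ _ _).2 fun b hb => by
        rw [SetLike.mem_coe, hI, Ideal.mem_span_singleton'] at hb
        obtain ⟨r, rfl⟩ := hb
        rw [X.basicOpen_mul]
        exact fun h' => hno h'.2
    have h1 : y ∈ X.zeroLocus (U := U) (I.ideal ⟨U, hU⟩ : Set Γ(X, U)) ∩ U := ⟨hz, hy⟩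
    rw [← I.coe_support_inter ⟨U, hU⟩] at h1
    exact hne ((support_ptIdeal hP).le h1.1)
  have ha : a ∈ Mero.regSub X U := fun y => by
    by_cases hy : y.1 = P
    · obtain ⟨y, hyU⟩ := y
      subst hy
      refine mem_nonZeroDivisors_of_ne_zero fun h0 => IsDiscreteValuationRing.not_a_field (X.presheaf.stalk y) ?_
      rw [hP', h0, Ideal.span_singleton_eq_bot]
    · exact (hunit y.1 y.2 hy).mem_nonZeroDivisors
  let t : Mero.regStalk X P := ⟨X.presheaf.germ U P hPU a, U, hPU, a, ha, rfl⟩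
  let G : ∀ y, Mero.Germ X y := Function.update (fun _ => 1) P (QuotientGroup.mk (AbsCurveDiv.regUnit t))
  have hG : ∀ y, y ≠ P → G y = 1 := fun y hy => Function.update_of_ne hy _ _
  refine ⟨⟨G, AbsCurveDiv.mem_divisorGroup_of_finite hC G
    ((Set.finite_singleton P).subset fun y hy => by_contra fun h => hy (hG y h))⟩, fun y => ?_⟩
  by_cases hy : y = P
  · subst hy
    refine ⟨⟨U, hU⟩, hPU, a, ha, hI, fun z => ?_⟩
    by_cases hz : z.1 = y
    · obtain ⟨z, hzU⟩ := z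
      subst hz
      show G z = _
      simp only [G, Function.update_self]
      rfl
    · show G z.1 = _
      rw [hG z.1 hz]
      exact (germ_eq_one_of_isUnit (hunit z.1 z.2 hz) (IsUnit.unit_spec _)).symm
  · obtain ⟨W, hW, hyW, hWP⟩ := exists_isAffineOpen_mem_and_subset (x := y)
      (U := ⟨({P} : Set X)ᶜ, hP.isOpen_compl⟩) hy
    refine ⟨⟨W, hW⟩, hyW, 1, Submonoid.one_mem _, ?_, fun z => ?_⟩
    · rw [Ideal.span_singleton_one, eq_top_iff]
      intro b _
      exact (mem_ptIdeal_iff hP ⟨W, hW⟩ b).2 fun h => hWP (X.basicOpen_le b h) rfl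
    · show G z.1 = _
      rw [hG z.1 (hWP z.2)]
      exact (germ_eq_one_of_isUnit (r := X.presheaf.germ W z.1 z.2 1) (by rw [map_one]; exact isUnit_one)
        (IsUnit.unit_spec _)).symm

omit [AlgebraicGeometry.IsNoetherian X] in
theorem exists_coef (D : Mero.Divisor X) (s : Γ(Mero.divMod D, (⊤ : X.Opens))) (y : X) :
    ∃ (g : (Mero.KStalk X y)ˣ) (r : X.presheaf.stalk y), D.1 y = QuotientGroup.mk g ∧
      algebraMap _ (Mero.KStalk X y) r = s.1 ⟨y, trivial⟩ * g ∧ (y ∈ glocus (Mero.divMod D) s ↔ IsUnit r) := by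
  obtain ⟨W, -, hyW, a, b, hab⟩ := exists_divisor_fraction D y
  obtain ⟨t, ht, htgen⟩ := exists_gen_divMod D (fracUnit a b) (fun z => hab z.1 z.2)
  let c := htgen.coef le_rfl (resM (Mero.divMod D) (le_top : W ≤ ⊤) s)
  have hc : c • t = resM (Mero.divMod D) (le_top : W ≤ ⊤) s := by
    have := htgen.coef_spec le_rfl (resM (Mero.divMod D) (le_top : W ≤ ⊤) s)
    rwa [resM_self] at this
  obtain ⟨v, hv⟩ : ∃ v : (Mero.KStalk X y)ˣ, (v : Mero.KStalk X y) = (fracUnit a b : Γ(Mero.kmod X, W)).1 ⟨y, hyW⟩ ∧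
      D.1 y = QuotientGroup.mk v := ⟨_, rfl, hab y hyW⟩
  refine ⟨v, X.presheaf.germ W y hyW c, hv.2, ?_, ?_⟩
  · have h1 := congrArg (fun z => ((Mero.divModι D).app W z).1 ⟨y, hyW⟩) hc
    simp only [Scheme.Modules.Hom.app_smul, ht] at h1
    rw [smul_val] at h1
    change _ = s.1 ⟨y, trivial⟩ at h1
    rw [← h1, mul_assoc, hv.1]
    have h2 : ((fracUnit a b)⁻¹ : (Γ(Mero.kmod X, W))ˣ).val.1 ⟨y, hyW⟩ * (fracUnit a b : Γ(Mero.kmod X, W)).1 ⟨y, hyW⟩ = 1 :=
      congrArg (fun f : Γ(Mero.kmod X, W) => f.1 ⟨y, hyW⟩) (fracUnit a b).inv_mul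
    rw [h2, mul_one]
  · have h := glocus_inf s htgen
    rw [← X.mem_basicOpen c y hyW]
    exact ⟨fun hy => h.le ⟨hy, hyW⟩, fun hy => (h.ge hy).1⟩

omit [AlgebraicGeometry.IsNoetherian X] in
theorem glocus_iff_not_divCond {D Q : Mero.Divisor X} (hQ : Mero.IsDivOfIdeal Q (ptIdeal P hP))
    (s : Γ(Mero.divMod D, (⊤ : X.Opens))) :
    P ∈ glocus (Mero.divMod D) s ↔ ¬ Mero.DivCond (D * Q⁻¹) P (s.1 ⟨P, trivial⟩) := by
  obtain ⟨g, r, hg, hr, hgl⟩ := exists_coef D s P
  obtain ⟨a, ha, hQa⟩ := germ_at hP hQ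
  have hgerm : (D * Q⁻¹).1 P = QuotientGroup.mk (g * (AbsCurveDiv.regUnit a)⁻¹) := by
    show D.1 P * (Q.1 P)⁻¹ = _
    rw [hg, hQa, QuotientGroup.mk_mul, QuotientGroup.mk_inv]
  rw [hgl, divCond_iff _ hgerm]
  constructor
  · rintro hu ⟨q, hq⟩
    have h1 : r = q * a := Mero.algebraMap_KStalk_injective P (by
      rw [map_mul, hq, hr, Units.val_mul, mul_assoc, mul_assoc]
      show _ = _ * (_ * (((AbsCurveDiv.regUnit a)⁻¹ : (Mero.KStalk X P)ˣ).val * (AbsCurveDiv.regUnit a : Mero.KStalk X P)))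
      rw [Units.inv_mul, mul_one])
    have h2 : r ∈ maximalIdeal (X.presheaf.stalk P) := ha.symm ▸ Ideal.mem_span_singleton'.2 ⟨q, h1.symm⟩
    exact h2 hu
  · intro hno
    by_contra hu
    obtain ⟨q, hq⟩ := Ideal.mem_span_singleton'.1 (ha.le (show r ∈ maximalIdeal (X.presheaf.stalk P) from hu))
    refine hno ⟨q, ?_⟩
    rw [Units.val_mul, ← mul_assoc, ← hr, ← hq, map_mul, mul_assoc]
    show _ = _ * ((AbsCurveDiv.regUnit a : Mero.KStalk X P) * _)
    rw [Units.mul_inv, mul_one]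

variable (k : Type u) [Field k] [X.Over (Spec (CommRingCat.of k))] [IsProper (X ↘ Spec (CommRingCat.of k))]

include hC k in
theorem isGloballyGenerated_iff (D : Mero.Divisor X) (hD : Mero.IsEffective D)
    (hreg : ∀ x ∈ Mero.supp D, IsRegularLocalRing (X.presheaf.stalk x)) :
    Curv2.IsGloballyGenerated (Mero.divMod D) ↔
      ∀ x ∈ Mero.supp D, ∀ Q : Mero.Divisor X, Mero.IsDivOfIdeal Q (X.fromSpecResidueField x).ker →
        Module.finrank k (Coh.HH X (Mero.divMod (D * Q⁻¹)) 0) < Module.finrank k (Coh.HH X (Mero.divMod D) 0) := by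
  have hL := isInvertible_divMod D
  have hcl : ∀ x ∈ Mero.supp D, IsClosed ({x} : Set X) := fun x hx => by
    by_contra h
    exact hx (AbsCurveDiv.germ_eq_one_of_not_isClosed hC h _)
  have hle : ∀ {x : X} (hx : IsClosed ({x} : Set X)) {Q : Mero.Divisor X},
      Mero.IsDivOfIdeal Q (ptIdeal x hx) → Mero.DivLE (D * Q⁻¹) D := fun {x} hx {Q} hQ y => by
    show ∃ c, (D * (D * Q⁻¹)⁻¹).1 y = _
    rw [show D * (D * Q⁻¹)⁻¹ = Q by rw [mul_inv_rev, inv_inv, mul_comm Q, ← mul_assoc, mul_inv_cancel, one_mul]]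
    obtain ⟨U, hyU, f, hf, -, hg⟩ := hQ y
    exact ⟨⟨X.presheaf.germ U.1 y hyU f, U.1, hyU, f, hf, rfl⟩, hg ⟨y, hyU⟩⟩
  have key : ∀ {x : X} (hx : IsClosed ({x} : Set X)) {Q : Mero.Divisor X} (hQ : Mero.IsDivOfIdeal Q (ptIdeal x hx)),
      Module.finrank k (Coh.HH X (Mero.divMod (D * Q⁻¹)) 0) < Module.finrank k (Coh.HH X (Mero.divMod D) 0) ↔
        ∃ s : Γ(Mero.divMod D, (⊤ : X.Opens)), x ∈ glocus (Mero.divMod D) s := by
    intro x hx Q hQ
    let i := mapGA (baseHom k X) (DivLE.incl (hle hx hQ))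
    haveI : Module.Finite k (GA (baseHom k X) (Mero.divMod D)) :=
      haveI := finite_HH_of_isCoh k (isCoh_of_isInvertible k hL) 0
      Module.Finite.equiv (hhZero k (Mero.divMod D))
    rw [(hhZero k (Mero.divMod (D * Q⁻¹))).finrank_eq, (hhZero k (Mero.divMod D)).finrank_eq]
    have hi : Function.Injective i := DivLE.incl_app_injective (hle hx hQ) ⊤
    have hr := (LinearEquiv.ofInjective i hi).finrank_eq
    constructor
    · intro hlt
      by_contra hno
      push Not at hno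
      refine hlt.ne (LinearEquiv.ofBijective i ⟨hi, fun s => ?_⟩).finrank_eq
      let z : Γ(Mero.divMod D, (⊤ : X.Opens)) := s
      refine ⟨(⟨z.1, z.2.1, fun y => ?_⟩ : Γ(Mero.divMod (D * Q⁻¹), (⊤ : X.Opens))), Subtype.ext rfl⟩
      by_cases hy : y.1 = x
      · obtain ⟨y, hyt⟩ := y
        subst hy
        exact not_not.1 fun h => hno z ((glocus_iff_not_divCond hx hQ z).2 h)
      · intro g hg
        refine z.2.2 y g ?_
        rw [← hg]
        show D.1 y.1 = D.1 y.1 * (Q.1 y.1)⁻¹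
        rw [germ_eq_one_off hx hQ hy, inv_one]
        exact (_root_.mul_one (D.1 y.1)).symm
    · rintro ⟨s, hs⟩
      rw [hr]
      refine Submodule.finrank_lt fun htop => ?_
      obtain ⟨z, hz⟩ := htop.ge (Submodule.mem_top (x := (show GA (baseHom k X) (Mero.divMod D) from s)))
      refine (glocus_iff_not_divCond hx hQ s).1 hs ?_
      rw [show s.1 = (show Γ(Mero.divMod (D * Q⁻¹), (⊤ : X.Opens)) from z).1 from (congrArg Subtype.val hz).symm]
      exact (show Γ(Mero.divMod (D * Q⁻¹), (⊤ : X.Opens)) from z).2.2 ⟨x, trivial⟩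
  constructor
  · intro hgg x hx Q hQ
    rw [ker_fromSpecResidueField' (hcl x hx)] at hQ
    exact (key (hcl x hx) hQ).2 (exists_mem_glocus_of_gg k (hcl x hx) hL hgg)
  · intro h
    refine globallyGenerated_of_glocus hL fun x => ?_
    by_cases hx : x ∈ Mero.supp D
    · obtain ⟨Q, hQ⟩ := exists_ptDiv (hcl x hx) hC (hreg x hx)
      exact (key (hcl x hx) hQ).1 (h x hx Q (by rw [ker_fromSpecResidueField' (hcl x hx)]; exact hQ))
    · refine ⟨oneSec D hD, ?_⟩
      obtain ⟨g, r, hg, hr, hgl⟩ := exists_coef D (oneSec D hD) x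
      rw [hgl]
      obtain ⟨u, hu⟩ := (QuotientGroup.eq_one_iff g).1 (hg.symm.trans (not_not.1 hx))
      have h1 : r = u := Mero.algebraMap_KStalk_injective x (by
        rw [hr]
        show (1 : Γ(Mero.kmod X, ⊤)).1 ⟨x, trivial⟩ * _ = _
        rw [Mero.kmod_one_apply, one_mul]
        exact (congrArg Units.val hu).symm)
      rw [h1]
      exact u.isUnit

end Groth.Agent.Clifford24.PtDiv
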