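import Groth.Agent.Clifford24.SubBundle
import Groth.Agent.CurveRR24.GenusZero
import Mathlib.Algebra.Homology.ShortComplex.Exact

/-!
# Normalized rank two bundles on a curve
-/

set_option autoImplicit false
set_option linter.style.haveILetI false
set_option linter.unusedSectionVars false
set_option backward.isDefEq.respectTransparency.types false
set_option maxHeartbeats 1000000

universe u

open CategoryTheory CategoryTheory.Limits AlgebraicGeometry Opposite TopologicalSpace
open Groth.Agent.Coherent Groth.Agent.PicLib Groth.Agent.AmpleLib Groth.Agent.EulerLib Groth.Agent.CurveRR24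

namespace Groth.Agent.Clifford24

variable {X : Scheme.{u}} (k : Type u) [Field k] [X.Over (Spec (CommRingCat.of k))]

/-- Tensoring with an invertible module is full on maps when these form finite spaces. -/
theorem tensorRightHom_bijective {A B N M : X.Modules} (hN : PicF.IsInvertible N) (hM : PicF.IsInvertible M)
    (e : CohB1.tensorMod N M ≅ Coh.structureModule X)
    [Module.Finite k (CohB1.tensorMod A N ⟶ CohB1.tensorMod B N)] :
    Function.Bijective (SerreDual.tensorRightHom k A B N) := by
  obtain ⟨a⟩ := exists_assocIso' A hN hM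
  obtain ⟨b⟩ := exists_assocIso' B hN hM
  let back (C : X.Modules) (c : CohB1.tensorMod (CohB1.tensorMod C N) M ≅ CohB1.tensorMod C (CohB1.tensorMod N M)) :
      CohB1.tensorMod (CohB1.tensorMod C N) M ≅ C :=
    c ≪≫ AmpleLib.tensorIso (Iso.refl C) e ≪≫ tensorComm _ _ ≪≫ unitTensorIso C
  let g : (CohB1.tensorMod A N ⟶ CohB1.tensorMod B N) →ₗ[k] (A ⟶ B) :=
    (Linear.homCongr k (back A a) (back B b)).toLinearMap ∘ₗ SerreDual.tensorRightHom k _ _ M
  have hg : Function.Injective g := fun x y h =>
    SerreDual.tensorRightHom_injective k _ _ hM ((Linear.homCongr k (back A a) (back B b)).injective h)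
  have hf := SerreDual.tensorRightHom_injective k A B hN
  haveI : Module.Finite k (A ⟶ B) := Module.Finite.of_injective (SerreDual.tensorRightHom k A B N) hf
  have hdim : Module.finrank k (A ⟶ B) = Module.finrank k (CohB1.tensorMod A N ⟶ CohB1.tensorMod B N) :=
    le_antisymm (LinearMap.finrank_le_finrank_of_injective hf) (LinearMap.finrank_le_finrank_of_injective hg)
  exact ⟨hf, (LinearMap.injective_iff_surjective_of_finrank_eq_finrank hdim).1 hf⟩

variable [IsProper (X ↘ Spec (CommRingCat.of k))] [IsIntegral X]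

include k in
/-- An extension of a line bundle `Q` by `O` with `H¹(Q⁻¹) = 0` splits. -/
theorem nonempty_iso_biprod_of_subsingleton {E : X.Modules} (hEc : Coh.IsCoh E)
    (φ : Coh.structureModule X ⟶ E) [Mono φ] (hQ : PicF.IsInvertible (cokernel φ)) {N : X.Modules}
    (hN : PicF.IsInvertible N) (e : CohB1.tensorMod (cokernel φ) N ≅ Coh.structureModule X)
    (h1 : Subsingleton (Coh.HH X N 1)) : Nonempty (E ≅ Coh.structureModule X ⊞ cokernel φ) := by
  haveI := EulerLib.isNoetherian_of_proper k (X := X)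
  let O := Coh.structureModule X
  let S := ShortComplex.mk φ (cokernel.π φ) (cokernel.condition φ)
  have hS : S.ShortExact := { exact := ShortComplex.exact_of_g_is_cokernel _ (cokernelIsCokernel _) }
  let ρ := baseHom k X
  have hT := twistSeq_shortExact hN hS
  haveI : Subsingleton (Coh.HH X (twistSeq S N).X₁ 1) := by
    show Subsingleton (Coh.HH X (CohB1.tensorMod O N) 1)
    exact CurveRR24.subsingleton_HH_congr (unitTensorIso N).symm 1 h1
  haveI : Subsingleton (HA ρ (twistSeq S N).X₁ (⊤ : X.Opens) (0 + 1)) :=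
    (HHBaseEquiv k _ 1).symm.toEquiv.subsingleton
  let z : GA ρ (twistSeq S N).X₃ := (show Γ((twistSeq S N).X₃, ⊤) from e.inv.app ⊤ (1 : Γ(X, ⊤)))
  obtain ⟨y, hy⟩ := (exact_postA_deltaA ρ hT ⊤ 0 ((secA ρ _).symm z)).1 (Subsingleton.elim _ _)
  let t : Γ(CohB1.tensorMod E N, ⊤) := secA ρ _ y
  have ht : (twistSeq S N).g.app ⊤ t = e.inv.app ⊤ (1 : Γ(X, ⊤)) := by
    have h := secA_natural ρ (twistSeq S N).g y
    rw [hy, LinearEquiv.apply_symm_apply] at h
    exact h.symm
  let ψ : CohB1.tensorMod (cokernel φ) N ⟶ CohB1.tensorMod E N := e.hom ≫ unitDesc _ t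
  haveI : Module.Finite k (CohB1.tensorMod (cokernel φ) N ⟶ CohB1.tensorMod E N) := by
    haveI := finite_HH_of_isCoh k (EulerLib.isCoh_twist hN hEc) 0
    haveI : Module.Finite k (O ⟶ CohB1.tensorMod E N) :=
      Module.Finite.equiv (SerreDual.homUnitHH k (CohB1.tensorMod E N)).symm
    exact Module.Finite.equiv (Linear.homCongr k e (Iso.refl _)).symm
  obtain ⟨σ, hσ⟩ := (tensorRightHom_bijective k hN hQ (tensorComm _ _ ≪≫ e)).2 ψ
  have hsec : σ ≫ cokernel.π φ = 𝟙 _ := by
    refine SerreDual.tensorRightHom_injective k _ _ hN ?_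
    have hcomp : SerreDual.tensorRightHom k (cokernel φ) (cokernel φ) N (σ ≫ cokernel.π φ) =
        ψ ≫ (twistSeq S N).g := by
      rw [← hσ]
      refine AmpleLib.hom_ext fun U a b => ?_
      show (tensorMap (σ ≫ cokernel.π φ) (𝟙 N)).app U (tmul a b) =
        (tensorMap (cokernel.π φ) (𝟙 N)).app U ((tensorMap σ (𝟙 N)).app U (tmul a b))
      rw [tensorMap_tmul, tensorMap_tmul, tensorMap_tmul]
      rfl
    have hid : SerreDual.tensorRightHom k (cokernel φ) (cokernel φ) N (𝟙 _) = 𝟙 _ :=
      AmpleLib.hom_ext fun U a b => by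
        show (tensorMap (𝟙 (cokernel φ)) (𝟙 N)).app U (tmul a b) = tmul a b
        rw [tensorMap_tmul]
        rfl
    rw [hcomp, hid]
    have h1' : unitDesc _ t ≫ (twistSeq S N).g = e.inv := by
      refine hom_ext_one _ _ fun V => ?_
      show (twistSeq S N).g.app V (unitVal (unitDesc (CohB1.tensorMod E N) t) V) = unitVal e.inv V
      rw [unitVal_unitDesc]
      show (twistSeq S N).g.app V (resM (twistSeq S N).X₂ le_top t) = _
      rw [app_resM, ht]
      exact resM_unitVal e.inv (le_top : V ≤ ⊤)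
    show (e.hom ≫ unitDesc _ t) ≫ (twistSeq S N).g = 𝟙 _
    rw [Category.assoc, h1']
    exact e.hom_inv_id
  exact ⟨(ShortComplex.Splitting.ofExactOfSection S hS.exact σ hsec inferInstance).isoBinaryBiproduct⟩

variable [Smooth (X ↘ Spec (CommRingCat.of k))] [GeometricallyIntegral (X ↘ Spec (CommRingCat.of k))]

include k in
/-- The extension attached to a normalized rank two bundle. -/
theorem exists_extension [IsAlgClosed k] (hdim : topologicalKrullDim X = 1) {E : X.Modules}
    (hE : FlatMod.IsFinLocFreeOfRank 2 E) (hn0 : Nontrivial (Coh.HH X E 0))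
    (hneg : ∀ M : X.Modules, PicF.IsInvertible M → Curv2.deg k X M 1 < 0 →
      Subsingleton (Coh.HH X (CohB1.tensorMod E M) 0)) :
    ∃ φ : Coh.structureModule X ⟶ E, φ ≠ 0 ∧ Mono φ ∧ PicF.IsInvertible (cokernel φ) ∧
      Curv2.deg k X E 2 = Curv2.deg k X (cokernel φ) 1 ∧
      Curv2.euler k X E = Curv2.euler k X (Coh.structureModule X) + Curv2.euler k X (cokernel φ) := by
  haveI := EulerLib.isNoetherian_of_proper k (X := X)
  obtain ⟨φ, hφ⟩ : ∃ φ : Coh.structureModule X ⟶ E, φ ≠ 0 := by
    obtain ⟨x, hx⟩ := exists_ne (0 : Coh.HH X E 0)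
    exact ⟨(SerreDual.homUnitHH k E).symm x, fun h => hx ((LinearEquiv.map_eq_zero_iff _).1 h)⟩
  have hEc : Coh.IsCoh E := SplitP1.isCoh_of_rank hE
  haveI : Mono φ := SplitP1.mono_of_ne_zero' hEc (fun y => (SplitP1.nonempty_basis_stalk hE y).elim fun d =>
    Module.Free.of_basis d) AmpleLib.isInvertible_structureModule φ hφ
  have hQ : PicF.IsInvertible (cokernel φ) := isInvertible_cokernel_of_no_twist k hE (fun P hP => by
    refine hneg _ (isInvertible_ptIdeal_of_normal k hdim hP (isIntegrallyClosed_stalk_of_smooth k P)) ?_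
    rw [deg_ptIdeal k hP, finrank_resField k hP]
    norm_num) φ hφ
  let S := ShortComplex.mk φ (cokernel.π φ) (cokernel.condition φ)
  have hS : S.ShortExact := { exact := ShortComplex.exact_of_g_is_cokernel _ (cokernelIsCokernel _) }
  have h : Curv2.euler k X E = Curv2.euler k X (Coh.structureModule X) + Curv2.euler k X (cokernel φ) :=
    euler_additive k X S hS (isCoh_structureModule X) hEc (CurveRR24.isCoh_of_isInvertible k hQ)
  refine ⟨φ, hφ, inferInstance, hQ, ?_, h⟩
  simp only [Curv2.deg, h]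
  push_cast
  ring

include k in
/-- Degree bounds for a normalized indecomposable rank two bundle. -/
theorem deg_bounds [IsAlgClosed k] (hdim : topologicalKrullDim X = 1) {E : X.Modules}
    (hE : FlatMod.IsFinLocFreeOfRank 2 E) (hn0 : Nontrivial (Coh.HH X E 0))
    (hneg : ∀ M : X.Modules, PicF.IsInvertible M → Curv2.deg k X M 1 < 0 →
      Subsingleton (Coh.HH X (CohB1.tensorMod E M) 0))
    (hind : ∀ L₁ L₂ : X.Modules, PicF.IsInvertible L₁ → PicF.IsInvertible L₂ → IsEmpty (E ≅ L₁ ⊞ L₂)) :
    2 - 2 * (Curv2.genus k X : ℤ) ≤ Curv2.deg k X E 2 ∧ Curv2.deg k X E 2 ≤ 2 * (Curv2.genus k X : ℤ) := by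
  haveI := EulerLib.isNoetherian_of_proper k (X := X)
  obtain ⟨φ, hφ, hmono, hQ, hdegE, heul⟩ := exists_extension k hdim hE hn0 hneg
  have hEc : Coh.IsCoh E := SplitP1.isCoh_of_rank hE
  constructor
  · obtain ⟨N, hN, ⟨e⟩⟩ := CurveRR24.exists_inverse k hQ
    by_contra hlt
    have hΩ : PicF.IsInvertible (Omega.sheaf (X ↘ Spec (CommRingCat.of k))) :=
      OmegaDual24.isInvertible_omega (k := k) hdim
    have hdN : Curv2.deg k X N 1 = - Curv2.deg k X (cokernel φ) 1 := by
      have h := deg_tensor k hdim.le hQ hN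
      rw [deg_congr k e 1, deg_structure] at h
      omega
    have hdΩ : Curv2.deg k X (Omega.sheaf (X ↘ Spec (CommRingCat.of k))) 1 = 2 * (Curv2.genus k X : ℤ) - 2 :=
      OmegaDual24.deg_omega k hdim
    have h1 := h1_eq_h0_omega k hdim hN hQ (tensorComm _ _ ≪≫ e)
    haveI := subsingleton_h0_of_deg_neg k hdim.le (AmpleLib.isInvertible_tensorMod hΩ hQ)
      (by rw [deg_tensor k hdim.le hΩ hQ]; omega)
    rw [Module.finrank_zero_of_subsingleton (M := Coh.HH X (CohB1.tensorMod _ (cokernel φ)) 0)] at h1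
    haveI := finite_HH_of_isCoh k (CurveRR24.isCoh_of_isInvertible k hN) 1
    obtain ⟨iso⟩ := nonempty_iso_biprod_of_subsingleton k hEc φ hQ hN e
      (Module.finrank_zero_iff.1 h1)
    exact (hind _ _ AmpleLib.isInvertible_structureModule hQ).false iso
  · haveI := LocallyOfFiniteType.jacobsonSpace (X ↘ Spec (CommRingCat.of k))
    obtain ⟨P, -, hP⟩ := nonempty_inter_closedPoints (X := X) Set.univ_nonempty isClosed_univ.isLocallyClosed
    have hI := isInvertible_ptIdeal_of_normal k hdim hP (isIntegrallyClosed_stalk_of_smooth k P)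
    have hdI : Curv2.deg k X (ClSub.idealMod (ptIdeal P hP)) 1 = -1 := by
      rw [deg_ptIdeal k hP, finrank_resField k hP]; norm_num
    let M := ClSub.idealMod (ptIdeal P hP)
    haveI := hneg M hI (by rw [hdI]; norm_num)
    let S := ShortComplex.mk φ (cokernel.π φ) (cokernel.condition φ)
    have hS : S.ShortExact := { exact := ShortComplex.exact_of_g_is_cokernel _ (cokernelIsCokernel _) }
    have hQc := CurveRR24.isCoh_of_isInvertible k hQ
    have h2 := euler_additive k X (twistSeq S M) (twistSeq_shortExact hI hS)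
      (EulerLib.isCoh_twist hI (isCoh_structureModule X)) (EulerLib.isCoh_twist hI hEc)
      (EulerLib.isCoh_twist hI hQc)
    change Curv2.euler k X (CohB1.tensorMod E M) = Curv2.euler k X (CohB1.tensorMod (Coh.structureModule X) M) +
      Curv2.euler k X (CohB1.tensorMod (cokernel φ) M) at h2
    rw [euler_congr k X (unitTensorIso M), euler_eq_h0_sub_h1 k hdim.le _ (EulerLib.isCoh_twist hI hEc).1,
      Module.finrank_zero_of_subsingleton (M := Coh.HH X (CohB1.tensorMod E M) 0)] at h2
    have hd := deg_tensor k hdim.le hQ hI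
    have hχ := euler_structure k (X := X) hdim.le
    rw [h0_structure_of_geomIntegral k] at hχ
    rw [hdegE]
    change Curv2.deg k X (CohB1.tensorMod (cokernel φ) M) 1 =
      Curv2.deg k X (cokernel φ) 1 + Curv2.deg k X M 1 at hd
    change Curv2.deg k X M 1 = -1 at hdI
    simp only [Curv2.deg, Nat.cast_one, one_mul] at hd hdI ⊢
    push_cast at h2 hχ
    omega

end Groth.Agent.Clifford24
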