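import Groth.Agent.Clifford24.RankTwo

/-!
# Normalized rank two bundles on a curve of genus one
-/

set_option autoImplicit false
set_option linter.style.haveILetI false
set_option linter.unusedSectionVars false
set_option backward.isDefEq.respectTransparency.types false
set_option maxHeartbeats 1000000

universe u

open CategoryTheory CategoryTheory.Limits AlgebraicGeometry Opposite TopologicalSpace
open Groth.Agent.Coherent Groth.Agent.PicLib Groth.Agent.AmpleLib Groth.Agent.EulerLib Groth.Agent.CurveRR24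

namespace Groth.Agent.Clifford24

variable {X : Scheme.{u}} (k : Type u) [Field k] [X.Over (Spec (CommRingCat.of k))]
  [IsProper (X ↘ Spec (CommRingCat.of k))] [IsIntegral X]
  [Smooth (X ↘ Spec (CommRingCat.of k))] [GeometricallyIntegral (X ↘ Spec (CommRingCat.of k))]

include k in
/-- In genus one the degree of a normalized bundle is below two. -/
theorem deg_ne_two [IsAlgClosed k] (hdim : topologicalKrullDim X = 1) (hg : Curv2.genus k X = 1)
    {E : X.Modules} (hE : FlatMod.IsFinLocFreeOfRank 2 E) (hn0 : Nontrivial (Coh.HH X E 0))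
    (hneg : ∀ M : X.Modules, PicF.IsInvertible M → Curv2.deg k X M 1 < 0 →
      Subsingleton (Coh.HH X (CohB1.tensorMod E M) 0)) : Curv2.deg k X E 2 ≠ 2 := by
  classical
  intro hd
  haveI := EulerLib.isNoetherian_of_proper k (X := X)
  obtain ⟨φ, hφ, hmono, hQ, hdegE, heul⟩ := exists_extension k hdim hE hn0 hneg
  rw [hdegE] at hd
  have hEc : Coh.IsCoh E := SplitP1.isCoh_of_rank hE
  have hEf : FlatMod.IsFinLocFree E := fun x => let ⟨U, hx, e⟩ := hE x; ⟨U, 2, hx, e⟩
  haveI := hEc.1
  have hh0 := h0_structure_of_geomIntegral k (X := X)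
  have hχ := euler_structure k (X := X) hdim.le
  rw [hh0, hg] at hχ
  have hE2 : 2 ≤ Module.finrank k (Coh.HH X E 0) := by
    have h := euler_eq_h0_sub_h1 k hdim.le E hEc.1
    rw [heul] at h
    simp only [Curv2.deg] at hd
    push_cast at hd hχ
    omega
  let ρ := baseHom k X
  haveI := finite_HH_of_isCoh k hEc 0
  haveI : Module.Finite k (GA ρ E) := Module.Finite.equiv (hhZero k E)
  rw [(hhZero k E).finrank_eq] at hE2
  let s : Γ(E, ⊤) := unitVal φ ⊤
  -- a section outside the line of `s`
  let sG : GA ρ E := s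
  change 2 ≤ Module.finrank k (GA ρ E) at hE2
  obtain ⟨t, ht⟩ : ∃ t : GA ρ E, t ∉ Submodule.span k {sG} := by
    by_contra hall
    push Not at hall
    have h1 : Module.finrank k (GA ρ E) ≤ Module.finrank k (Submodule.span k {sG}) := by
      rw [show Submodule.span k {sG} = ⊤ from eq_top_iff.2 fun z _ => hall z, finrank_top]
    have h2 := finrank_span_le_card (R := k) ({sG} : Set (GA ρ E))
    rw [Set.toFinset_singleton, Finset.card_singleton] at h2
    omega
  let t' : Γ(E, ⊤) := t
  let u : Γ(cokernel φ, ⊤) := (cokernel.π φ).app ⊤ t'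
  have hu : u ≠ 0 := by
    intro h0
    let S := ShortComplex.mk φ (cokernel.π φ) (cokernel.condition φ)
    have hS : S.ShortExact := { exact := ShortComplex.exact_of_g_is_cokernel _ (cokernelIsCokernel _) }
    obtain ⟨y, hy⟩ := (exact_postA ρ hS ⊤ 0 ((secA ρ E).symm t)).1 ((secA ρ _).injective (by
      rw [secA_natural, LinearEquiv.apply_symm_apply, map_zero]; exact h0))
    have h2 := secA_natural ρ φ y
    erw [hy, LinearEquiv.apply_symm_apply] at h2
    haveI := finite_HH_of_isCoh k (isCoh_structureModule X) 0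
    rw [(hhZero k (Coh.structureModule X)).finrank_eq] at hh0
    haveI : Nonempty (⊤ : X.Opens) := ⟨⟨genericPoint X, trivial⟩⟩
    obtain ⟨c, hc⟩ := exists_smul_eq_of_finrank_eq_one hh0
      (x := (show GA ρ (Coh.structureModule X) from (1 : Γ(X, ⊤)))) (fun he => one_ne_zero (α := Γ(X, ⊤)) he)
      (secA ρ _ y)
    refine ht (Submodule.mem_span_singleton.2 ⟨c, ?_⟩)
    rw [h2, ← hc, map_smul]
    rfl
  obtain ⟨x, hx⟩ : ∃ x, x ∉ glocus (cokernel φ) u := by
    by_contra hall
    push Not at hall
    have hempty : CohB1.support (cokernel (unitDesc (cokernel φ) u)) = ∅ :=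
      Set.subset_empty_iff.1 fun x hx => support_cokernel_unitDesc u hx (hall x)
    haveI := mono_unitDesc hQ hu
    haveI : Epi (unitDesc (cokernel φ) u) := Abelian.epi_of_cokernel_π_eq_zero _
      ((isZero_of_support_eq_empty hempty).eq_of_tgt _ _)
    haveI : IsIso (unitDesc (cokernel φ) u) := isIso_of_mono_of_epi _
    rw [← deg_congr k (asIso (unitDesc (cokernel φ) u)) 1, deg_structure] at hd
    exact absurd hd (by norm_num)
  obtain ⟨P, hPx, hP⟩ := (isClosed_closure (s := ({x} : Set X))).exists_closed_singleton ⟨x, subset_closure rfl⟩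
  have huP : P ∉ glocus (cokernel φ) u := fun h' => hx ((specializes_iff_mem_closure.2 hPx).mem_open (glocus _ u).2 h')
  let R := X.presheaf.stalk P
  let St := DerSch.stalkFunctor X P
  let πP : E.presheaf.stalk P →ₗ[R] (cokernel φ).presheaf.stalk P := (St.map (cokernel.π φ)).hom
  let S := ShortComplex.mk φ (cokernel.π φ) (cokernel.condition φ)
  have hS : S.ShortExact := { exact := ShortComplex.exact_of_g_is_cokernel _ (cokernelIsCokernel _) }
  have hSt := hS.map_of_exact St
  have hπsurj : Function.Surjective πP := (ModuleCat.epi_iff_surjective _).1 hSt.epi_g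
  let tP : E.presheaf.stalk P := E.presheaf.germ ⊤ P trivial t'
  let sP : E.presheaf.stalk P := E.presheaf.germ ⊤ P trivial s
  let 𝔪 := IsLocalRing.maximalIdeal (X.presheaf.stalk P)
  have hπt : πP tP ∈ 𝔪 • (⊤ : Submodule R ((cokernel φ).presheaf.stalk P)) := by
    rw [show πP tP = (cokernel φ).presheaf.germ ⊤ P trivial u from
      DerSch.stalkFunctor_map_germ P (cokernel.π φ) ⊤ trivial t']
    exact not_not.1 ((mem_glocus_iff_germ hQ u P).not.1 huP)
  rw [← LinearMap.range_eq_top.2 hπsurj, ← Submodule.map_top, ← Submodule.map_smul''] at hπt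
  obtain ⟨w, hw, hπw⟩ := hπt
  obtain ⟨r', hr'⟩ := (ShortComplex.moduleCat_exact_iff _).1 hSt.exact (tP - w) (by
    show πP (tP - w) = 0
    rw [map_sub, hπw, sub_self])
  obtain ⟨W, hPW, g, rfl⟩ := TopCat.Presheaf.exists_germ_eq (Coh.structureModule X).presheaf
    (show (Coh.structureModule X).presheaf.stalk P from r')
  let r : R := X.presheaf.germ W P hPW g
  have hr : tP - w = r • sP := by
    rw [← hr']
    show (St.map φ).hom ((Coh.structureModule X).presheaf.germ W P hPW g) = _
    refine (DerSch.stalkFunctor_map_germ P φ W hPW g).trans ?_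
    rw [app_unit, ← resM_unitVal φ (le_top : W ≤ ⊤), QCohLoc.germ_smul']
    exact congrArg (_ • ·) (E.presheaf.germ_res_apply (homOfLE (le_top : W ≤ ⊤)) P hPW s)
  let _ := Curv2.resAlgebra k X P
  haveI := finite_resField hP k
  obtain ⟨c, hc⟩ := (IsAlgClosed.algebraMap_bijective_of_isIntegral (k := k) (K := X.residueField P)).2
    (X.residue P r)
  have hcr : r - X.presheaf.germ ⊤ P trivial (baseHom k X c) ∈ 𝔪 := by
    rw [← IsLocalRing.residue_eq_zero_iff, map_sub, sub_eq_zero]
    exact hc.symm
  let v : GA ρ E := t - c • (show GA ρ E from s)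
  let v' : Γ(E, ⊤) := v
  have hv : v' ≠ 0 := fun h => ht (Submodule.mem_span_singleton.2 ⟨c, (sub_eq_zero.1 h).symm⟩)
  have hvP : E.presheaf.germ ⊤ P trivial v' ∈ 𝔪 • (⊤ : Submodule R (E.presheaf.stalk P)) := by
    have h : E.presheaf.germ ⊤ P trivial v' =
        w + (r - X.presheaf.germ ⊤ P trivial (baseHom k X c)) • sP := by
      rw [sub_smul, ← hr]
      show E.presheaf.germ ⊤ P trivial (t' - baseHom k X c • s) = _
      rw [map_sub, QCohLoc.germ_smul']
      abel
    rw [h]
    exact Submodule.add_mem _ hw (Submodule.smul_mem_smul hcr Submodule.mem_top)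
  have hI := isInvertible_ptIdeal_of_normal k hdim hP (isIntegrallyClosed_stalk_of_smooth k P)
  obtain ⟨U, n, e, hPU, a, j, hb, ha, hju⟩ := exists_unit_coef k hEf hP
    (hneg _ hI (by rw [deg_ptIdeal k hP, finrank_resField k hP]; norm_num)) v' hv
  obtain ⟨b, hbi⟩ := exists_basis_germ hb hPU
  have hrep : b.repr (E.presheaf.germ ⊤ P trivial v') j = X.presheaf.germ U P hPU (a j) := by
    rw [← E.presheaf.germ_res_apply (homOfLE (le_top : U ≤ ⊤)) P hPU v']
    change b.repr (E.presheaf.germ U P hPU (resM E le_top v')) j = _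
    rw [ha, map_sum]
    simp only [QCohLoc.germ_smul', ← hbi]
    rw [b.repr_sum_self]
  have hmem : b.repr (E.presheaf.germ ⊤ P trivial v') j ∈ 𝔪 := by
    refine Submodule.smul_induction_on hvP (fun p hp q _ => ?_) (fun p q hp hq => ?_)
    · rw [map_smul, Finsupp.smul_apply, smul_eq_mul]
      exact Ideal.mul_mem_right _ _ hp
    · rw [map_add, Finsupp.add_apply]
      exact add_mem hp hq
  rw [hrep] at hmem
  exact (IsLocalRing.mem_maximalIdeal _).1 hmem hju

end Groth.Agent.Clifford24
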