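import Groth.Agent.Clifford24.RankTwo
import Groth.Agent.CurveRR24.Ample
import Groth.Agent.AmpleLib.Generated
import Groth.Agent.SerreDual.Curve

/-!
# Maximal line subbundles of rank two bundles
-/

set_option autoImplicit false
set_option linter.style.haveILetI false
set_option linter.unusedSectionVars false
set_option backward.isDefEq.respectTransparency.types false
set_option maxHeartbeats 1000000

universe u

open CategoryTheory CategoryTheory.Limits AlgebraicGeometry Opposite TopologicalSpace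
open Groth.Agent.Coherent Groth.Agent.PicLib Groth.Agent.AmpleLib Groth.Agent.EulerLib Groth.Agent.CurveRR24

namespace Groth.Agent.Clifford24

variable {X : Scheme.{u}}

/-- Twisting a rank two bundle by a line bundle keeps rank two. -/
theorem isFinLocFreeOfRank_tensorMod [IsLocallyNoetherian X] {r : ℕ} {E N : X.Modules}
    (hE : FlatMod.IsFinLocFreeOfRank r E) (hN : PicF.IsInvertible N) :
    FlatMod.IsFinLocFreeOfRank r (CohB1.tensorMod E N) := by
  classical
  have hEc : Coh.IsCoh E := SplitP1.isCoh_of_rank hE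
  have hT : Coh.IsCoh (CohB1.tensorMod E N) := EulerLib.isCoh_twist hN hEc
  haveI := hT.1
  intro x
  have hEf : FlatMod.IsFinLocFree E := fun y => let ⟨U, hy, e⟩ := hE y; ⟨U, r, hy, e⟩
  obtain ⟨U, n, e, hxU, hb⟩ := PicLib.exists_isBasisOn hEf x
  obtain ⟨V, hxV, g, hg⟩ := exists_isGen hN x
  let W := U ⊓ V
  let f : ULift.{u} (Fin n) → Γ(CohB1.tensorMod E N, W) :=
    fun i => tmul (resM E inf_le_left (e i)) (resM N inf_le_right g)
  have hf : IsBasisOn (CohB1.tensorMod E N) W f := by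
    intro Z hZ
    have h1 := Coherent.bijective_sum_tmul hb N Z (hZ.trans inf_le_left)
    have h2 : Function.Bijective fun (c : ULift.{u} (Fin n) → Γ(X, Z)) (i : ULift.{u} (Fin n)) =>
        c i • resM N (hZ.trans inf_le_right) g :=
      Function.Bijective.piMap fun _ => hg Z (hZ.trans inf_le_right)
    convert h1.comp h2 using 1
    funext c
    refine Finset.sum_congr rfl fun i _ => ?_
    show c i • resM _ hZ (tmul _ _) = tmul _ (c i • _)
    rw [resM_tmul, resM_resM, resM_resM, tmul_smul_right]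
  obtain ⟨b, -⟩ := exists_basis_germ hf (show x ∈ W from ⟨hxU, hxV⟩)
  obtain ⟨bE, -⟩ := exists_basis_germ hb hxU
  obtain ⟨b2⟩ := SplitP1.nonempty_basis_stalk hE x
  obtain ⟨W', m, hxW', ⟨eW⟩⟩ :=
    Props12.exists_nhd_free (CohB1.tensorMod E N) (isFP_of_isCoh hT) x (Module.Free.of_basis b)
  obtain ⟨bm⟩ := nonempty_basis_stalk_local eW hxW'
  have hm : m = r := by
    have h1 := (Module.finrank_eq_card_basis bm).symm.trans (Module.finrank_eq_card_basis b)
    have h2 := (Module.finrank_eq_card_basis bE).symm.trans (Module.finrank_eq_card_basis b2)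
    rw [Fintype.card_fin] at h1 h2
    omega
  subst hm
  exact ⟨W', hxW', ⟨eW⟩⟩

/-- A line bundle is not zero. -/
theorem not_isZero_of_isInvertible [Nonempty X] {L : X.Modules} (hL : PicF.IsInvertible L) : ¬ IsZero L := by
  intro hz
  obtain ⟨x⟩ := (inferInstance : Nonempty X)
  obtain ⟨b⟩ := SplitP1.nonempty_basis_stalk (PicLib.isFinLocFreeOfRank_one hL) x
  have := ModuleCat.subsingleton_of_isZero ((DerSch.stalkFunctor X x).map_isZero hz)
  exact b.ne_zero 0 (Subsingleton.elim (α := ((DerSch.stalkFunctor X x).obj L : Type u)) _ _)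

variable (k : Type u) [Field k] [X.Over (Spec (CommRingCat.of k))]

/-- Twisting preserves binary biproducts. -/
theorem nonempty_iso_biprod_tensor {A B N : X.Modules} (hN : PicF.IsInvertible N) :
    Nonempty (CohB1.tensorMod (A ⊞ B) N ≅ CohB1.tensorMod A N ⊞ CohB1.tensorMod B N) := by
  let S := ShortComplex.mk (biprod.inl : A ⟶ A ⊞ B) (biprod.snd : A ⊞ B ⟶ B) (by simp)
  have hS : S.ShortExact := (ShortComplex.Splitting.ofHasBinaryBiproduct A B).shortExact
  have hT := twistSeq_shortExact hN hS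
  have hsec : tensorMap (biprod.inr : B ⟶ A ⊞ B) (𝟙 N) ≫ (twistSeq S N).g = 𝟙 (CohB1.tensorMod B N) :=
    AmpleLib.hom_ext fun U a b => by
      show (tensorMap (biprod.snd : A ⊞ B ⟶ B) (𝟙 N)).app U
        ((tensorMap (biprod.inr : B ⟶ A ⊞ B) (𝟙 N)).app U (tmul a b)) = tmul a b
      rw [tensorMap_tmul, tensorMap_tmul]
      exact congrArg₂ tmul (ConcreteCategory.congr_hom
        (congrArg (fun α => α.app U) (biprod.inr_snd : (biprod.inr : B ⟶ A ⊞ B) ≫ biprod.snd = 𝟙 B)) a) rfl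
  exact ⟨(ShortComplex.Splitting.ofExactOfSection (twistSeq S N) hT.exact _ hsec hT.mono_f).isoBinaryBiproduct⟩

variable [IsProper (X ↘ Spec (CommRingCat.of k))] [IsIntegral X] [Smooth (X ↘ Spec (CommRingCat.of k))]
  [GeometricallyIntegral (X ↘ Spec (CommRingCat.of k))]

include k in
/-- Some line bundle maps nonzero to a given bundle. -/
theorem exists_line_hom [IsAlgClosed k] (hdim : topologicalKrullDim X = 1) {E : X.Modules}
    (hE : FlatMod.IsFinLocFreeOfRank 2 E) :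
    ∃ (L : X.Modules), PicF.IsInvertible L ∧ ∃ f : L ⟶ E, f ≠ 0 := by
  classical
  haveI := EulerLib.isNoetherian_of_proper k (X := X)
  haveI := LocallyOfFiniteType.jacobsonSpace (X ↘ Spec (CommRingCat.of k))
  obtain ⟨P, -, hP⟩ := nonempty_inter_closedPoints (X := X) Set.univ_nonempty isClosed_univ.isLocallyClosed
  have hI := isInvertible_ptIdeal_of_normal k hdim hP (isIntegrallyClosed_stalk_of_smooth k P)
  obtain ⟨A, hA, ⟨eA⟩⟩ := CurveRR24.exists_inverse k hI
  have hdA : 0 < Curv2.deg k X A 1 := by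
    rw [deg_inverse k hdim.le hI hA eA, deg_ptIdeal k hP, finrank_resField k hP]; norm_num
  have hEc : Coh.IsCoh E := SplitP1.isCoh_of_rank hE
  obtain ⟨N₀, hN₀⟩ := eventually_globallyGenerated (isAmple_of_deg_pos k hdim hA hdA) E hEc
  obtain ⟨ι, p, hp⟩ := hN₀ N₀ le_rfl
  have hAn := AmpleLib.isInvertible_tensorPow hA N₀
  obtain ⟨L, hL, ⟨eL⟩⟩ := CurveRR24.exists_inverse k hAn
  let p' : freeMod X ι ⟶ CohB1.tensorMod E (CohB1.tensorPow A N₀) := p
  haveI : Epi p' := hp
  have hne : p' ≠ 0 := fun h0 => by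
    have hz : IsZero (CohB1.tensorMod E (CohB1.tensorPow A N₀)) := IsZero.of_epi_eq_zero p' h0
    obtain ⟨x⟩ := (inferInstance : Nonempty X)
    obtain ⟨b⟩ := SplitP1.nonempty_basis_stalk (isFinLocFreeOfRank_tensorMod hE hAn) x
    have := ModuleCat.subsingleton_of_isZero ((DerSch.stalkFunctor X x).map_isZero hz)
    exact b.ne_zero 0 (Subsingleton.elim (α := ((DerSch.stalkFunctor X x).obj _ : Type u)) _ _)
  obtain ⟨i, hi⟩ : ∃ i, freeInj i ≫ p' ≠ 0 := by
    by_contra hall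
    push Not at hall
    exact hne (freeMod_hom_ext fun i => (hall i).trans comp_zero.symm)
  obtain ⟨a⟩ := exists_assocIso' E hAn hL
  let back : CohB1.tensorMod (CohB1.tensorMod E (CohB1.tensorPow A N₀)) L ≅ E :=
    a ≪≫ AmpleLib.tensorIso (Iso.refl E) eL ≪≫ tensorComm _ _ ≪≫ unitTensorIso E
  refine ⟨L, hL, (Linear.homCongr k (unitTensorIso L) back)
    (SerreDual.tensorRightHom k _ _ L (freeInj i ≫ p')), fun h => hi ?_⟩
  exact SerreDual.tensorRightHom_injective k _ _ hL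
    (((LinearEquiv.map_eq_zero_iff _).1 h).trans (map_zero _).symm)

include k in
/-- Every map from a line bundle to a bundle has bounded degree. -/
theorem deg_le_of_hom (hdim : topologicalKrullDim X = 1) {E : X.Modules}
    (hE : FlatMod.IsFinLocFreeOfRank 2 E) {L : X.Modules} (hL : PicF.IsInvertible L) {f : L ⟶ E} (hf : f ≠ 0) :
    Curv2.deg k X L 1 ≤ (Module.finrank k (Coh.HH X E 0) : ℤ) + (Curv2.genus k X : ℤ) - 1 := by
  haveI := EulerLib.isNoetherian_of_proper k (X := X)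
  have hEc : Coh.IsCoh E := SplitP1.isCoh_of_rank hE
  haveI : Mono f := SplitP1.mono_of_ne_zero' hEc (fun y => (SplitP1.nonempty_basis_stalk hE y).elim fun d =>
    Module.Free.of_basis d) hL f hf
  haveI := finite_HH_of_isCoh k hEc 0
  have h := (SerreDual.finrank_h0_le_of_mono (k := k) f).2
  have hrr := riemann_roch k hdim.le hL
  rw [h0_structure_of_geomIntegral k] at hrr
  omega

include k in
/-- Bounds for the degree of line subbundles of an indecomposable rank two bundle. -/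
theorem sub_line_bounds [IsAlgClosed k] (hdim : topologicalKrullDim X = 1) {E : X.Modules}
    (hE : FlatMod.IsFinLocFreeOfRank 2 E)
    (hind : ∀ L₁ L₂ : X.Modules, PicF.IsInvertible L₁ → PicF.IsInvertible L₂ → IsEmpty (E ≅ L₁ ⊞ L₂)) :
    ∃ m : ℤ, (∀ (L : X.Modules) (f : L ⟶ E), PicF.IsInvertible L → f ≠ 0 → Curv2.deg k X L 1 ≤ m) ∧
      (∃ (L : X.Modules) (f : L ⟶ E), PicF.IsInvertible L ∧ Mono f ∧ Curv2.deg k X L 1 = m) ∧
      2 * m ≤ Curv2.deg k X E 2 + 2 * (Curv2.genus k X : ℤ) - 2 ∧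
      Curv2.deg k X E 2 - 2 * (Curv2.genus k X : ℤ) ≤ 2 * m := by
  classical
  haveI := EulerLib.isNoetherian_of_proper k (X := X)
  have hEc : Coh.IsCoh E := SplitP1.isCoh_of_rank hE
  let p : ℤ → Prop := fun d => ∃ (L : X.Modules) (f : L ⟶ E), PicF.IsInvertible L ∧ f ≠ 0 ∧ Curv2.deg k X L 1 = d
  have hne : ∃ d, p d := by
    obtain ⟨L, hL, f, hf⟩ := exists_line_hom k hdim hE
    exact ⟨_, L, f, hL, hf, rfl⟩
  have hbdd : ∃ b : ℤ, ∀ d, p d → d ≤ b := ⟨_, fun d ⟨L, f, hL, hf, hd⟩ => hd ▸ deg_le_of_hom k hdim hE hL hf⟩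
  obtain ⟨m, ⟨L₀, f₀, hL₀, hf₀, hd₀⟩, hmax⟩ := Int.exists_greatest_of_bdd hbdd hne
  obtain ⟨N₀, hN₀, ⟨e₀⟩⟩ := CurveRR24.exists_inverse k hL₀
  let E₁ := CohB1.tensorMod E N₀
  have hE₁ : FlatMod.IsFinLocFreeOfRank 2 E₁ := isFinLocFreeOfRank_tensorMod hE hN₀
  have hn0 : Nontrivial (Coh.HH X E₁ 0) := by
    let g := ((Linear.homCongr k e₀ (Iso.refl E₁)).trans (SerreDual.homUnitHH k E₁))
      (SerreDual.tensorRightHom k L₀ E N₀ f₀)
    refine ⟨⟨g, 0, fun h => hf₀ (SerreDual.tensorRightHom_injective k _ _ hN₀ ?_)⟩⟩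
    exact ((LinearEquiv.map_eq_zero_iff _).1 h).trans (map_zero _).symm
  have hneg : ∀ M : X.Modules, PicF.IsInvertible M → Curv2.deg k X M 1 < 0 →
      Subsingleton (Coh.HH X (CohB1.tensorMod E₁ M) 0) := by
    intro M hM hdM
    rw [← not_nontrivial_iff_subsingleton]
    intro hnt
    obtain ⟨z, hz⟩ := exists_ne (0 : Coh.HH X (CohB1.tensorMod E₁ M) 0)
    have hNM := AmpleLib.isInvertible_tensorMod hN₀ hM
    obtain ⟨N₁, hN₁, ⟨e₁⟩⟩ := CurveRR24.exists_inverse k hNM
    obtain ⟨a₁⟩ := exists_assocIso' E hN₀ hM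
    obtain ⟨a₂⟩ := exists_assocIso' E hNM hN₁
    let back : CohB1.tensorMod (CohB1.tensorMod E (CohB1.tensorMod N₀ M)) N₁ ≅ E :=
      a₂ ≪≫ AmpleLib.tensorIso (Iso.refl E) e₁ ≪≫ tensorComm _ _ ≪≫ unitTensorIso E
    let h1 : Coh.structureModule X ⟶ CohB1.tensorMod E (CohB1.tensorMod N₀ M) :=
      (SerreDual.homUnitHH k (CohB1.tensorMod E₁ M)).symm z ≫ a₁.hom
    have hh1 : h1 ≠ 0 := fun h => hz (by
      have : (SerreDual.homUnitHH k (CohB1.tensorMod E₁ M)).symm z = 0 := (cancel_mono a₁.hom).1 (h.trans zero_comp.symm)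
      exact (LinearEquiv.map_eq_zero_iff _).1 this)
    let f₁ := (Linear.homCongr k (unitTensorIso N₁) back) (SerreDual.tensorRightHom k _ _ N₁ h1)
    have hf₁ : f₁ ≠ 0 := fun h => hh1 (SerreDual.tensorRightHom_injective k _ _ hN₁
      (((LinearEquiv.map_eq_zero_iff _).1 h).trans (map_zero _).symm))
    have hd₁ := hmax _ ⟨N₁, f₁, hN₁, hf₁, rfl⟩
    have h := deg_tensor k hdim.le hNM hN₁
    rw [deg_congr k e₁ 1, deg_structure, deg_tensor k hdim.le hN₀ hM] at h
    have h' := deg_tensor k hdim.le hL₀ hN₀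
    rw [deg_congr k e₀ 1, deg_structure, hd₀] at h'
    omega
  obtain ⟨a₀⟩ := exists_assocIso' E hN₀ hL₀
  let back₀ : CohB1.tensorMod E₁ L₀ ≅ E :=
    a₀ ≪≫ AmpleLib.tensorIso (Iso.refl E) (tensorComm _ _ ≪≫ e₀) ≪≫ tensorComm _ _ ≪≫ unitTensorIso E
  have hind₁ : ∀ L₁ L₂ : X.Modules, PicF.IsInvertible L₁ → PicF.IsInvertible L₂ → IsEmpty (E₁ ≅ L₁ ⊞ L₂) := by
    intro L₁ L₂ h₁ h₂
    refine ⟨fun i => ?_⟩
    obtain ⟨j⟩ := nonempty_iso_biprod_tensor (A := L₁) (B := L₂) hL₀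
    exact (hind _ _ (AmpleLib.isInvertible_tensorMod h₁ hL₀) (AmpleLib.isInvertible_tensorMod h₂ hL₀)).false
      (back₀.symm ≪≫ AmpleLib.tensorIso i (Iso.refl L₀) ≪≫ j)
  obtain ⟨φ, hφ, hmono, hQ, hdegE, -⟩ := exists_extension k hdim hE₁ hn0 hneg
  have hb := deg_bounds k hdim hE₁ hn0 hneg hind₁
  rw [hdegE] at hb
  have hE₁c : Coh.IsCoh E₁ := SplitP1.isCoh_of_rank hE₁
  have hdE : Curv2.deg k X E 2 = 2 * m + Curv2.deg k X (cokernel φ) 1 := by
    let S := ShortComplex.mk φ (cokernel.π φ) (cokernel.condition φ)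
    have hS : S.ShortExact := { exact := ShortComplex.exact_of_g_is_cokernel _ (cokernelIsCokernel _) }
    have h2 := euler_additive k X (twistSeq S L₀) (twistSeq_shortExact hL₀ hS)
      (EulerLib.isCoh_twist hL₀ (isCoh_structureModule X)) (EulerLib.isCoh_twist hL₀ hE₁c)
      (EulerLib.isCoh_twist hL₀ (CurveRR24.isCoh_of_isInvertible k hQ))
    change Curv2.euler k X (CohB1.tensorMod E₁ L₀) = Curv2.euler k X (CohB1.tensorMod (Coh.structureModule X) L₀) +
      Curv2.euler k X (CohB1.tensorMod (cokernel φ) L₀) at h2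
    rw [euler_congr k X (unitTensorIso L₀), euler_congr k X back₀] at h2
    have hd := deg_tensor k hdim.le hQ hL₀
    rw [hd₀] at hd
    simp only [Curv2.deg, Nat.cast_one, one_mul] at hd hd₀ ⊢
    push_cast
    omega
  refine ⟨m, fun L f hL hf => hmax _ ⟨L, f, hL, hf, rfl⟩, ⟨L₀, f₀, hL₀, ?_, hd₀⟩, by omega, by omega⟩
  exact SplitP1.mono_of_ne_zero' hEc (fun y => (SplitP1.nonempty_basis_stalk hE y).elim fun d =>
    Module.Free.of_basis d) hL₀ f₀ hf₀

end Groth.Agent.Clifford24
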