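import Groth.Agent.Clifford24.CanonicalEmb

/-!
# Line bundles of degree `≥ 2g + 1` on families of curves over affine bases
-/

set_option autoImplicit false
set_option linter.style.haveILetI false
set_option linter.unusedSectionVars false
set_option backward.isDefEq.respectTransparency.types false
set_option maxHeartbeats 1000000

universe u

open CategoryTheory CategoryTheory.Limits AlgebraicGeometry Opposite TopologicalSpace
open Groth.Agent.Coherent Groth.Agent.PicLib Groth.Agent.AmpleLib Groth.Agent.CohExch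

namespace Groth.Agent.Clifford24

variable {X S : Scheme.{u}} (f : X ⟶ S) [IsProper f] [Smooth f] [GeometricallyConnected f]

/-- Degree `≥ 2g + 1` on every fibre gives very ampleness over an affine base. -/
theorem isRelVeryAmplePn_of_fibre_deg [IsAffine S] (hdim : ∀ s : S, topologicalKrullDim ↥(f.fiber s) = 1) (g : ℕ)
    (hgen : ∀ s : S, letI := fibreOver f s; Curv2.genus (S.residueField s) (f.fiber s) = g)
    (L : X.Modules) (hL : PicF.IsInvertible L)
    (hdeg : ∀ s : S, letI := fibreOver f s; 2 * (g : ℤ) + 1 ≤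
      Curv2.deg (S.residueField s) (f.fiber s) ((Scheme.Modules.pullback (f.fiberι s)).obj L) 1) :
    RelAmple.IsRelVeryAmplePn f L := by
  classical
  have hLf : FlatMod.IsFinLocFree L := fun x =>
    let ⟨U, hx, e⟩ := PicLib.isFinLocFreeOfRank_one hL x; ⟨U, 1, hx, e⟩
  haveI hLq : Coh.IsQCoh L := (CohBC.isCoh_of_isFinLocFree hLf).1
  have hfp : CohB1.IsFP L := Props12.isFP_of_isFinLocFree _ hLf
  have hfl := CohBC.isFlatOver_of_isFinLocFree f hLf
  have h1z : ∀ s : S, Subsingleton (CohIII.fiberH f L s 1) := fun s => by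
    let k := S.residueField s
    let _ := fibreOver f s
    haveI : IsProper (f.fiber s ↘ Spec (CommRingCat.of k)) := isProper_fibre f s
    haveI : GeometricallyIntegral (f.fiber s ↘ Spec (CommRingCat.of k)) := geomIntegral_fibre f s
    haveI := isIntegral_fibre f s
    haveI : Subsingleton (Coh.HH (f.fiber s) ((Scheme.Modules.pullback (f.fiberι s)).obj L) 1) :=
      CurveRR24.subsingleton_h1_of_deg k (hdim s).le (CurveRR24.h0_structure_of_geomIntegral k)
        (PicLoc.isInvertible_pullback _ hL)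
        (lt_of_lt_of_le (by rw [show Curv2.genus k (f.fiber s) = g from hgen s]; omega) (hdeg s))
    exact ‹_›
  have hchart : ∀ s : S, ∃ C : Chart f L, s ∈ C.U ∧ C.Flat ((0 : ℕ) : ℤ) := fun s => by
    obtain ⟨C, hC, -, -, h0, -⟩ := exists_zero_chart hfp hfl (V := ⊤) (s := s) trivial 1 (h1z s)
    exact ⟨C, hC, by simpa using h0⟩
  let R := (Scheme.Modules.pushforward f).obj L
  have hRf : FlatMod.IsFinLocFree R := fun x => by
    obtain ⟨C, hC, h0⟩ := hchart x
    exact C.exists_trivial_nhd0 h0 hC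
  haveI hRq : Coh.IsQCoh R := (CohBC.isCoh_of_isFinLocFree hRf).1
  haveI : Module.Finite Γ(S, ⊤) Γ(R, ⊤) :=
    H8Lim.finite_sections_of_isFT (CohBC.isCoh_of_isFinLocFree hRf).2 (isAffineOpen_top S)
  obtain ⟨N, m, hm⟩ := Module.Finite.exists_fin (R := Γ(S, ⊤)) (M := Γ(R, ⊤))
  let m' : Fin (N + 1) → Γ(R, ⊤) := Fin.cons 0 m
  have hm' : Submodule.span Γ(S, ⊤) (Set.range m') = ⊤ := by
    refine top_le_iff.1 (hm.ge.trans (Submodule.span_mono ?_))
    rintro _ ⟨l, rfl⟩
    exact ⟨l.succ, Fin.cons_succ _ _ _⟩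
  let σ : Fin (N + 1) → Γ(L, ⊤) := fun l => m' l
  have hfibspan : ∀ (s : S) (z : Γ((Scheme.Modules.pullback (f.fiberι s)).obj L, ⊤)),
      ∃ c : Fin (N + 1) → S.residueField s, ∑ l, ProjUP.toGlobal
        (f.fiberToSpecResidueField s : f.fiber s ⟶ Spec (CommRingCat.of (S.residueField s))) (c l) •
          fibSec f L s (σ l) = z := fun s z => by
    haveI : IsIso (CohBC.bc0 f (S.fromSpecResidueField s) (f.fiberToSpecResidueField s) (f.fiberι s) (f.fiber_fac s) L) :=
      isIso_bc0_of_flat (IsPullback.of_hasPullback f (S.fromSpecResidueField s)) fun z => hchart _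
    exact exists_fibre_span f L s m' hm' z
  have hcov : ∀ x : X, ∃ l, x ∈ glocus L (σ l) := fun x => by
    by_contra hcon
    push Not at hcon
    obtain ⟨z, hz⟩ : x ∈ Set.range (f.fiberι (f x)) := (f.range_fiberι (f x)).ge rfl
    let k := S.residueField (f x)
    let Xs := f.fiber (f x)
    let _ := fibreOver f (f x)
    haveI : IsProper (Xs ↘ Spec (CommRingCat.of k)) := isProper_fibre f (f x)
    haveI : GeometricallyIntegral (Xs ↘ Spec (CommRingCat.of k)) := geomIntegral_fibre f (f x)
    haveI := isIntegral_fibre f (f x)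
    let L' := (Scheme.Modules.pullback (f.fiberι (f x))).obj L
    have hL' : PicF.IsInvertible L' := PicLoc.isInvertible_pullback _ hL
    have h0 := CurveRR24.h0_structure_of_geomIntegral k (X := Xs)
    have hd : 2 * (g : ℤ) + 1 ≤ Curv2.deg k Xs L' 1 := hdeg (f x)
    have hg' : Curv2.genus k Xs = g := hgen (f x)
    haveI h1 : Subsingleton (Coh.HH Xs L' 1) :=
      CurveRR24.subsingleton_h1_of_deg k (hdim (f x)).le h0 hL' (lt_of_lt_of_le (by rw [hg']; omega) hd)
    have hrr := CurveRR24.riemann_roch k (hdim (f x)).le hL'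
    rw [h0, Module.finrank_zero_of_subsingleton (M := Coh.HH Xs L' 1)] at hrr
    have hc := CurveRR24.isCoh_of_isInvertible k hL'
    haveI := EulerLib.isNoetherian_of_proper k (X := Xs)
    have hgen' := CurveRR24.span_germ_eq_top k (hdim (f x)).le hc hL' (𝟙 L') (by
      have : (Curv2.genus k Xs : ℤ) < (Module.finrank k (Coh.HH Xs L' 0) : ℤ) := by
        rw [hg'] at hrr ⊢
        push_cast at hrr
        linarith
      exact_mod_cast this) z
    have hle : Submodule.span (Xs.presheaf.stalk z) (Set.range fun t : Γ(L', ⊤) => L'.presheaf.germ ⊤ z trivial t) ≤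
        IsLocalRing.maximalIdeal (Xs.presheaf.stalk z) •
          (⊤ : Submodule (Xs.presheaf.stalk z) (L'.presheaf.stalk z)) := by
      refine Submodule.span_le.2 ?_
      rintro _ ⟨t, rfl⟩
      obtain ⟨c, rfl⟩ := hfibspan (f x) t
      rw [SetLike.mem_coe]
      show L'.presheaf.germ ⊤ z trivial (∑ i, _) ∈ _
      rw [map_sum]
      refine Submodule.sum_mem _ fun i _ => ?_
      rw [QCohLoc.germ_smul']
      refine Submodule.smul_mem _ _ (not_not.1 ((CurveRR24.mem_glocus_iff_germ hL' _ z).not.1 ?_))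
      rw [glocus_pullSec (f.fiberι (f x)) hL (σ i)]
      show f.fiberι (f x) z ∉ glocus L (σ i)
      rw [hz]
      exact hcon i
    rw [hgen'] at hle
    obtain ⟨U, hzU, e, he⟩ := exists_isGen hL' z
    have h3 := (EmbLib24.mem_smul_top_iff _ (EmbLib24.bijective_smul_germ he hzU) _ (1 : Xs.presheaf.stalk z)).1
      (hle Submodule.mem_top)
    exact (IsLocalRing.maximalIdeal.isMaximal _).ne_top ((Ideal.eq_top_iff_one _).2 h3)
  obtain ⟨r, -, τ, hτ⟩ := UPLib.exists_hom_projSpace N (specULiftZIsTerminal.from X) hL σ hcov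
  let i : X ⟶ CohB1.ProjSpaceOver N S := pullback.lift r f (specULiftZIsTerminal.hom_ext _ _)
  have hi1 : i ≫ pullback.fst _ _ = r := pullback.lift_fst _ _ _
  have hi2 : i ≫ pullback.snd _ _ = f := pullback.lift_snd _ _ _
  obtain ⟨τ', hτ'⟩ : ∃ τ' : (Scheme.Modules.pullback (i ≫ pullback.fst (CohB1.ProjSpace.toSpec N (ULift.{u} ℤ))
      (specULiftZIsTerminal.from S))).obj (Twist.twistProjSpace N (ULift.{u} ℤ) 1) ≅ L,
      ∀ l, τ'.hom.app ⊤ (ProjUP.pullSec _ _ (ProjUP.coord N _ l)) = σ l := by
    rw [hi1]; exact ⟨τ, hτ⟩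
  haveI : IsClosedImmersion i := isClosedImmersion_of_fibres f σ i hi2 τ' hτ' fun s r' hr' τr hτr => by
    let k := S.residueField s
    let _ := fibreOver f s
    haveI : IsProper (f.fiber s ↘ Spec (CommRingCat.of k)) := isProper_fibre f s
    haveI : GeometricallyIntegral (f.fiber s ↘ Spec (CommRingCat.of k)) := geomIntegral_fibre f s
    haveI := isIntegral_fibre f s
    exact CurveRR24.isClosedImmersion_of_span k (hdim s) (CurveRR24.h0_structure_of_geomIntegral k)
      (PicLoc.isInvertible_pullback _ hL)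
      (by rw [show Curv2.genus k (f.fiber s) = g from hgen s]; exact hdeg s)
      (fun l => fibSec f L s (σ l)) (hfibspan s) r' hr' τr hτr
  exact ⟨N, i, inferInstance, hi2,
    ⟨τ'.symm ≪≫ ((Scheme.Modules.pullbackComp i (pullback.fst _ _)).app _).symm⟩⟩

end Groth.Agent.Clifford24
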