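import Groth.Agent.SplitP1.Split
import Groth.Agent.PicLib.BasisOn

/-!
# Bases of stalks from local bases
-/

set_option autoImplicit false
set_option linter.style.haveILetI false
set_option backward.isDefEq.respectTransparency.types false

universe u

open CategoryTheory CategoryTheory.Limits AlgebraicGeometry Opposite TopologicalSpace
open Groth.Agent.Coherent Groth.Agent.PicLib Groth.Agent.AmpleLib

namespace Groth.Agent.Clifford24

variable {X : Scheme.{u}}

/-- A local trivialisation gives a basis of the stalk. -/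
theorem nonempty_basis_stalk_local {n : ℕ} {M : X.Modules} [Coh.IsQCoh M] {U : X.Opens}
    (e : M.restrict U.ι ≅ FlatMod.freeMod U.toScheme n) {x : X} (hxU : x ∈ U) :
    Nonempty (Module.Basis (Fin n) (X.presheaf.stalk x) (M.presheaf.stalk x)) := by
  obtain ⟨W, hW, hxW, hWU⟩ := Opens.isBasis_iff_nbhd.mp X.isBasis_affineOpens hxU
  obtain ⟨c⟩ := Props12.exists_basis_sections e hWU
  let _ := (X.presheaf.germ W x hxW).hom.toAlgebra
  let _ := Module.compHom (M.presheaf.stalk x) (X.presheaf.germ W x hxW).hom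
  have : IsScalarTower Γ(X, W) (X.presheaf.stalk x) (M.presheaf.stalk x) :=
    IsScalarTower.of_algebraMap_smul fun _ _ => rfl
  let φ : Γ(M, W) →ₗ[Γ(X, W)] M.presheaf.stalk x :=
    { toFun := M.presheaf.germ W x hxW
      map_add' := map_add _
      map_smul' := QCohLoc.germ_smul' (M := M) hxW }
  have := EGA43.QcohFP.isLocalizedModule_germ M hW hxW φ fun _ => rfl
  have := hW.isLocalization_stalk ⟨x, hxW⟩
  exact ⟨c.ofIsLocalizedModule (X.presheaf.stalk x) (hW.primeIdealOf ⟨x, hxW⟩).asIdeal.primeCompl φ⟩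

variable {I : Type u} [Fintype I] {M : X.Modules} {U : X.Opens} {e : I → Γ(M, U)}

/-- The germs of a local basis form a basis of the stalk. -/
theorem exists_basis_germ (hb : IsBasisOn M U e) {x : X} (hx : x ∈ U) :
    ∃ b : Module.Basis I (X.presheaf.stalk x) (M.presheaf.stalk x),
      ∀ i, b i = M.presheaf.germ U x hx (e i) := by
  classical
  let v : I → M.presheaf.stalk x := fun i => M.presheaf.germ U x hx (e i)
  have hg : ∀ (V : X.Opens) (hV : V ≤ U) (hxV : x ∈ V) (c : I → Γ(X, V)),
      M.presheaf.germ V x hxV (∑ i, c i • resM M hV (e i)) = ∑ i, X.presheaf.germ V x hxV (c i) • v i := by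
    intro V hV hxV c
    rw [map_sum]
    refine Finset.sum_congr rfl fun i _ => ?_
    rw [QCohLoc.germ_smul']
    exact congrArg (_ • ·) (M.presheaf.germ_res_apply (homOfLE hV) x hxV (e i))
  have hind : LinearIndependent (X.presheaf.stalk x) v := by
    refine Fintype.linearIndependent_iff.2 fun a ha i => ?_
    choose W hxW f hf using fun i => TopCat.Presheaf.exists_germ_eq X.presheaf (a i)
    let V : X.Opens := U ⊓ Finset.univ.inf W
    have hin : ∀ t : Finset I, x ∈ t.inf W := fun t => by
      induction t using Finset.induction_on with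
      | empty => rw [Finset.inf_empty]; exact trivial
      | insert j t _ ih => rw [Finset.inf_insert]; exact ⟨hxW j, ih⟩
    have hxV : x ∈ V := ⟨hx, hin _⟩
    let c : I → Γ(X, V) := fun i => X.presheaf.map (homOfLE (inf_le_right.trans (Finset.inf_le (Finset.mem_univ i)))).op (f i)
    have hc : ∀ i, X.presheaf.germ V x hxV (c i) = a i := fun i =>
      (X.presheaf.germ_res_apply _ x hxV (f i)).trans (hf i)
    have h0 : M.presheaf.germ V x hxV (∑ i, c i • resM M inf_le_left (e i)) = M.presheaf.germ V x hxV 0 := by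
      rw [hg, map_zero]
      simp only [hc]
      exact ha
    obtain ⟨V', hxV', i₁, i₂, h'⟩ := TopCat.Presheaf.germ_eq M.presheaf x hxV hxV _ _ h0
    have h2 : resM M (leOfHom i₁) (∑ i, c i • resM M inf_le_left (e i)) = 0 :=
      h'.trans (map_zero _)
    rw [map_sum] at h2
    simp only [resM_smul, resM_resM] at h2
    have h3 := (hb ((leOfHom i₁).trans inf_le_left)).1 (h2.trans (by simp : (0 : Γ(M, V')) =
      ∑ i, (0 : I → Γ(X, V')) i • resM M ((leOfHom i₁).trans inf_le_left) (e i)))
    have h4 := congrArg (X.presheaf.germ V' x hxV') (congrFun h3 i)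
    rw [Pi.zero_apply, map_zero] at h4
    exact (hc i).symm.trans (Eq.trans (X.presheaf.germ_res_apply (homOfLE (leOfHom i₁)) x hxV' (c i)).symm h4)
  have hspan : ⊤ ≤ Submodule.span (X.presheaf.stalk x) (Set.range v) := fun z _ => by
    obtain ⟨W, hxW, s, rfl⟩ := TopCat.Presheaf.exists_germ_eq M.presheaf z
    let V : X.Opens := U ⊓ W
    have hxV : x ∈ V := ⟨hx, hxW⟩
    obtain ⟨c, hc⟩ := (hb (inf_le_left : V ≤ U)).2 (resM M (inf_le_right : V ≤ W) s)
    beta_reduce at hc
    rw [← M.presheaf.germ_res_apply (homOfLE (inf_le_right : V ≤ W)) x hxV s]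
    change M.presheaf.germ V x hxV (resM M (inf_le_right : V ≤ W) s) ∈ _
    rw [← hc, hg]
    exact Submodule.sum_mem _ fun i _ => Submodule.smul_mem _ _ (Submodule.subset_span ⟨i, rfl⟩)
  exact ⟨Module.Basis.mk hind hspan, fun i => Module.Basis.mk_apply hind hspan i⟩

end Groth.Agent.Clifford24
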