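import Groth.Agent.Clifford24.StalkBasis
import Groth.Agent.Clifford24.Sub
import Groth.Agent.Coherent.TensorBasis
import Groth.Agent.CurveRR24.PointInv
import Groth.Agent.Coherent.CohOps

/-!
# Nowhere vanishing sections of vector bundles on a curve
-/

set_option autoImplicit false
set_option linter.style.haveILetI false
set_option linter.unusedSectionVars false
set_option backward.isDefEq.respectTransparency.types false
set_option maxHeartbeats 1000000

universe u

open CategoryTheory CategoryTheory.Limits AlgebraicGeometry Opposite TopologicalSpace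
open Groth.Agent.Coherent Groth.Agent.PicLib Groth.Agent.AmpleLib Groth.Agent.EulerLib Groth.Agent.CurveRR24

namespace Groth.Agent.Clifford24

variable {X : Scheme.{u}}

/-- `E ⊗ I → E`. -/
noncomputable def mulR (I : X.IdealSheafData) (E : X.Modules) :
    CohB1.tensorMod E (ClSub.idealMod I) ⟶ E :=
  (tensorComm E (ClSub.idealMod I)).hom ≫ AmpleLib.twistMul I E

theorem mulR_tmul (I : X.IdealSheafData) (E : X.Modules) (W : X.Opens) (a : Γ(E, W))
    (c : Γ(ClSub.idealMod I, W)) :
    (mulR I E).app W (tmul a c) = (show Γ(X, W) from (ClSub.idealModι I).app W c) • a := by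
  show (AmpleLib.twistMul I E).app W ((tensorSwap E (ClSub.idealMod I)).app W (tmul a c)) = _
  rw [show (tensorSwap E (ClSub.idealMod I)).app W (tmul a c) = tmul c a from Bilin.desc_tmul _ W a c,
    AmpleLib.twistMul_tmul]

theorem mono_mulR (I : X.IdealSheafData) {E : X.Modules} (hE : FlatMod.IsFinLocFree E) :
    Mono (mulR I E) := by
  classical
  refine SerreDual.mono_of_app_injective _ fun V => (injective_iff_map_eq_zero _).2 fun z hz => ?_
  refine sec_ext _ z 0 fun y hy => ?_
  obtain ⟨U, n, e, hyU, hb⟩ := PicLib.exists_isBasisOn hE y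
  refine ⟨V ⊓ U, inf_le_left, ⟨hy, hyU⟩, ?_⟩
  rw [map_zero]
  obtain ⟨c, hc⟩ := (Coherent.bijective_sum_tmul hb (ClSub.idealMod I) (V ⊓ U) inf_le_right).2
    (resM _ inf_le_left z)
  beta_reduce at hc
  have h1 : (mulR I E).app (V ⊓ U) (resM _ inf_le_left z) = 0 := by rw [app_resM, hz, map_zero]
  rw [← hc, map_sum] at h1
  simp only [mulR_tmul] at h1
  have h2 := (hb (inf_le_right : V ⊓ U ≤ U)).1
    (a₁ := fun i => (show Γ(X, V ⊓ U) from (ClSub.idealModι I).app (V ⊓ U) (c i))) (a₂ := 0)
    (h1.trans (by simp))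
  rw [← hc]
  refine Finset.sum_eq_zero fun i _ => ?_
  haveI : Mono (ClSub.idealModι I) := AmpleLib.mono_idealModι I
  have hci : c i = 0 := app_injective_of_mono (ClSub.idealModι I) (V ⊓ U)
    ((congrFun h2 i).trans (map_zero _).symm)
  rw [hci]
  exact tmul_zero_right _

variable (k : Type u) [Field k] [X.Over (Spec (CommRingCat.of k))]
  [IsProper (X ↘ Spec (CommRingCat.of k))] [IsIntegral X]

include k in
/-- If `H⁰(E(-P)) = 0`, a nonzero section of `E` has a unit coefficient at `P` in some local basis. -/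
theorem exists_unit_coef {E : X.Modules} (hE : FlatMod.IsFinLocFree E) {P : X} (hP : IsClosed ({P} : Set X))
    (h0 : Subsingleton (Coh.HH X (CohB1.tensorMod E (ClSub.idealMod (ptIdeal P hP))) 0))
    (s : Γ(E, ⊤)) (hs : s ≠ 0) :
    ∃ (U : X.Opens) (n : ℕ) (e : ULift.{u} (Fin n) → Γ(E, U)) (hPU : P ∈ U) (c : ULift.{u} (Fin n) → Γ(X, U))
      (j : ULift.{u} (Fin n)), IsBasisOn E U e ∧ resM E le_top s = ∑ i, c i • e i ∧
        IsUnit (X.presheaf.germ U P hPU (c j)) := by
  classical
  by_contra hcon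
  push Not at hcon
  haveI := mono_mulR (ptIdeal P hP) hE
  let I := ptIdeal P hP
  let f := mulR I E
  let π := cokernel.π f
  have hloc : ∀ (W : X.Opens) (a : Γ(E, W)) (g : Γ(X, W)), I.subschemeι.app W g = 0 →
      π.app W (g • a) = 0 := fun W a g hg => by
    obtain ⟨b, hb⟩ := (mem_range_idealModι I W g).2 hg
    have h := mulR_tmul I E W a b
    rw [show (show Γ(X, W) from (ClSub.idealModι I).app W b) = g from hb] at h
    rw [← h]
    exact ConcreteCategory.congr_hom (congrArg (fun φ => φ.app W) (cokernel.condition f)) (tmul a b)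
  have hπ : π.app ⊤ s = 0 := by
    refine sec_ext _ _ _ fun y _ => ?_
    obtain ⟨U₀, n, e₀, hyU₀, hb₀⟩ := PicLib.exists_isBasisOn hE y
    by_cases hyP : y = P
    · subst hyP
      obtain ⟨U, hU, hPU, hUU₀⟩ := exists_isAffineOpen_mem_and_subset (x := y) (U := U₀) hyU₀
      have hle : U ≤ U₀ := hUU₀
      refine ⟨U, le_top, hPU, ?_⟩
      let e := fun i => resM E hle (e₀ i)
      have hb : IsBasisOn E U e := fun V hV => by
        have := hb₀ (hV.trans hle)
        simpa only [e, resM_resM] using this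
      obtain ⟨c, hc⟩ := (hb (le_refl U)).2 (resM E le_top s)
      beta_reduce at hc
      simp only [resM_self] at hc
      rw [map_zero, ← app_resM, ← hc, map_sum]
      refine Finset.sum_eq_zero fun i _ => hloc U _ _ ?_
      have hmem : c i ∈ I.ideal ⟨U, hU⟩ := (mem_ptIdeal_iff hP ⟨U, hU⟩ (c i)).2 fun hmem =>
        hcon U n e hPU c i hb hc.symm ((X.mem_basicOpen _ _ hPU).1 hmem)
      exact RingHom.mem_ker.1 ((I.ker_subschemeι_app ⟨U, hU⟩).symm ▸ hmem)
    · let W : X.Opens := U₀ ⊓ ⟨{P}ᶜ, hP.isOpen_compl⟩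
      refine ⟨W, le_top, ⟨hyU₀, hyP⟩, ?_⟩
      obtain ⟨c, hc⟩ := (hb₀ (inf_le_left : W ≤ U₀)).2 (resM E le_top s)
      beta_reduce at hc
      rw [map_zero, ← app_resM, ← hc, map_sum]
      refine Finset.sum_eq_zero fun i _ => hloc W _ _ ?_
      have hsub : Subsingleton Γ(I.subscheme, I.subschemeι ⁻¹ᵁ W) := by
        have hbot : I.subschemeι ⁻¹ᵁ W = ⊥ := Opens.ext (Set.eq_empty_of_forall_notMem fun z hz => by
          have h1 : I.subschemeι z ∈ (I.support : Set X) := by
            rw [← I.range_subschemeι]; exact ⟨z, rfl⟩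
          rw [support_ptIdeal hP] at h1
          exact hz.2 h1)
        rw [hbot]
        exact CommRingCat.subsingleton_of_isTerminal I.subscheme.sheaf.isTerminalOfEmpty
      exact Subsingleton.elim _ _
  obtain ⟨z, hz⟩ := kernel_sections_exact π s hπ
  haveI : IsIso (Abelian.factorThruImage f) := inferInstance
  let g : kernel π ⟶ CohB1.tensorMod E (ClSub.idealMod I) := inv (Abelian.factorThruImage f)
  have hfg : g ≫ f = kernel.ι π := by
    rw [IsIso.inv_comp_eq]
    exact (Abelian.image.fac f).symm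
  have h1 : f.app ⊤ (g.app ⊤ z) = s := by
    rw [← hz]
    exact ConcreteCategory.congr_hom (congrArg (fun φ => φ.app ⊤) hfg) z
  refine hs ?_
  haveI := h0
  haveI : Subsingleton (GA (baseHom k X) (CohB1.tensorMod E (ClSub.idealMod I))) :=
    (hhZero k _).symm.toEquiv.subsingleton
  rw [← h1, show g.app ⊤ z = 0 from
    Subsingleton.elim (α := GA (baseHom k X) (CohB1.tensorMod E (ClSub.idealMod I))) _ _, map_zero]

include k in
/-- A section of a rank two bundle with a unit coefficient everywhere has invertible cokernel. -/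
theorem isInvertible_cokernel_of_no_twist {E : X.Modules} (hE : FlatMod.IsFinLocFreeOfRank 2 E)
    (h0 : ∀ (P : X) (hP : IsClosed ({P} : Set X)),
      Subsingleton (Coh.HH X (CohB1.tensorMod E (ClSub.idealMod (ptIdeal P hP))) 0))
    (φ : Coh.structureModule X ⟶ E) (hφ : φ ≠ 0) : PicF.IsInvertible (cokernel φ) := by
  classical
  haveI := EulerLib.isNoetherian_of_proper k (X := X)
  have hEc : Coh.IsCoh E := SplitP1.isCoh_of_rank hE
  have hEf : FlatMod.IsFinLocFree E := fun x => let ⟨U, hx, e⟩ := hE x; ⟨U, 2, hx, e⟩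
  let s := unitVal φ ⊤
  have hs : s ≠ 0 := fun h => hφ (hom_ext_one _ _ fun V => by
    show unitVal φ V = 0
    rw [← resM_unitVal φ (le_top : V ≤ ⊤)]
    show resM E le_top s = 0
    rw [h, map_zero])
  have hQ : Coh.IsCoh (cokernel φ) := Coherent.isCoh_cokernel φ isQCoh_structureModule hEc
  haveI := hQ.1
  intro x
  obtain ⟨P, hPx, hP⟩ := (isClosed_closure (s := ({x} : Set X))).exists_closed_singleton ⟨x, subset_closure rfl⟩
  obtain ⟨U, n, e, hPU, c, j, hb, hc, hu⟩ := exists_unit_coef k hEf hP (h0 P hP) s hs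
  obtain ⟨b, hbi⟩ := exists_basis_germ hb hPU
  let R := X.presheaf.stalk P
  obtain ⟨b2⟩ := SplitP1.nonempty_basis_stalk hE P
  have hcard : Fintype.card (ULift.{u} (Fin n)) = 2 := by
    rw [← Module.finrank_eq_card_basis b, Module.finrank_eq_card_basis b2, Fintype.card_fin]
  let v : E.presheaf.stalk P := E.presheaf.germ ⊤ P trivial s
  let a : ULift.{u} (Fin n) → R := fun i => X.presheaf.germ U P hPU (c i)
  have hv : v = ∑ i, a i • b i := by
    show E.presheaf.germ ⊤ P trivial s = _
    rw [← E.presheaf.germ_res_apply (homOfLE (le_top : U ≤ ⊤)) P hPU s]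
    change E.presheaf.germ U P hPU (resM E le_top s) = _
    rw [hc, map_sum]
    exact Finset.sum_congr rfl fun i _ => by rw [QCohLoc.germ_smul', hbi]
  obtain ⟨j', hj'⟩ : ∃ j', j' ≠ j := by
    by_contra hall
    push Not at hall
    have : Fintype.card (ULift.{u} (Fin n)) ≤ 1 :=
      Fintype.card_le_one_iff.2 fun p q => (hall p).trans (hall q).symm
    omega
  have hpair : ∀ i, i = j ∨ i = j' := fun i => by
    by_contra hi
    push Not at hi
    have h3 : ({i, j, j'} : Finset (ULift.{u} (Fin n))).card = 3 :=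
      Finset.card_eq_three.2 ⟨i, j, j', hi.1, hi.2, hj'.symm, rfl⟩
    have := Finset.card_le_univ ({i, j, j'} : Finset (ULift.{u} (Fin n)))
    omega
  have huniv : (Finset.univ : Finset (ULift.{u} (Fin n))) = {j, j'} := by
    ext i; simpa using hpair i
  rw [huniv, Finset.sum_pair hj'.symm] at hv
  -- the stalk of the cokernel
  let St := DerSch.stalkFunctor X P
  let S := ShortComplex.mk φ (cokernel.π φ) (cokernel.condition φ)
  haveI : Mono φ := SplitP1.mono_of_ne_zero' hEc (fun y => (SplitP1.nonempty_basis_stalk hE y).elim fun d =>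
    Module.Free.of_basis d) AmpleLib.isInvertible_structureModule φ hφ
  have hS : S.ShortExact := { exact := ShortComplex.exact_of_g_is_cokernel _ (cokernelIsCokernel _) }
  have hSt := hS.map_of_exact St
  let φP : (Coh.structureModule X).presheaf.stalk P →ₗ[R] E.presheaf.stalk P := (St.map φ).hom
  let πP : E.presheaf.stalk P →ₗ[R] (cokernel φ).presheaf.stalk P := (St.map (cokernel.π φ)).hom
  have hπsurj : Function.Surjective πP := (ModuleCat.epi_iff_surjective _).1 hSt.epi_g
  have hex : ∀ z, πP z = 0 → ∃ r : R, z = r • v := fun z hz => by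
    obtain ⟨t, ht⟩ := (ShortComplex.moduleCat_exact_iff _).1 hSt.exact z hz
    obtain ⟨W, hPW, g, rfl⟩ := TopCat.Presheaf.exists_germ_eq (Coh.structureModule X).presheaf
      (show (Coh.structureModule X).presheaf.stalk P from t)
    refine ⟨X.presheaf.germ W P hPW g, ?_⟩
    rw [← ht]
    show (St.map φ).hom ((Coh.structureModule X).presheaf.germ W P hPW g) = _
    refine (DerSch.stalkFunctor_map_germ P φ W hPW g).trans ?_
    rw [app_unit, ← resM_unitVal φ (le_top : W ≤ ⊤), QCohLoc.germ_smul']
    exact congrArg (_ • ·) (E.presheaf.germ_res_apply (homOfLE (le_top : W ≤ ⊤)) P hPW s)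
  have hπv : πP v = 0 := by
    have hv' : v = φP ((Coh.structureModule X).presheaf.germ ⊤ P trivial (1 : Γ(X, ⊤))) :=
      (DerSch.stalkFunctor_map_germ P φ ⊤ trivial (1 : Γ(X, ⊤))).symm
    rw [hv']
    exact ConcreteCategory.congr_hom (S.map St).zero _
  obtain ⟨w, hw⟩ := hu
  let L : R →ₗ[R] (cokernel φ).presheaf.stalk P := LinearMap.toSpanSingleton R _ (πP (b j'))
  have hLinj : Function.Injective L := (injective_iff_map_eq_zero _).2 fun r hr => by
    obtain ⟨t, ht⟩ := hex (r • b j') (by rw [map_smul]; exact hr)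
    rw [hv, smul_add, smul_smul, smul_smul] at ht
    have hj := congrArg (fun q => b.repr q j) ht
    have hjj := congrArg (fun q => b.repr q j') ht
    simp [map_add, hj'.symm, hj'] at hj hjj
    have ht0 : t = 0 := by
      rcases hj with h | h
      · exact h
      · exact absurd h (fun h' => w.ne_zero (hw.trans h'))
    rw [hjj, ht0, zero_mul]
  have hLsurj : Function.Surjective L := fun q => by
    obtain ⟨z, rfl⟩ := hπsurj q
    refine ⟨b.repr z j' - b.repr z j * ↑w⁻¹ * a j', ?_⟩
    show (b.repr z j' - b.repr z j * ↑w⁻¹ * a j') • πP (b j') = πP z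
    have hz : z = b.repr z j • b j + b.repr z j' • b j' := by
      conv_lhs => rw [← b.sum_repr z, huniv, Finset.sum_pair hj'.symm]
    have hbj : b j = (↑w⁻¹ : R) • v - ((↑w⁻¹ : R) * a j') • b j' := by
      rw [hv, smul_add, smul_smul, smul_smul, add_sub_cancel_right, show a j = (w : R) from hw.symm,
        Units.inv_mul, one_smul]
    conv_rhs => rw [hz, hbj]
    rw [map_add, map_smul, map_sub, map_smul, hπv, smul_zero, zero_sub, map_smul, map_smul, smul_neg,
      smul_smul, sub_smul, ← mul_assoc]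
    abel
  let bQ : Module.Basis Unit R ((cokernel φ).presheaf.stalk P) :=
    (Module.Basis.singleton Unit R).map (LinearEquiv.ofBijective L ⟨hLinj, hLsurj⟩)
  obtain ⟨W, m, hPW, ⟨eW⟩⟩ := Props12.exists_nhd_free (cokernel φ) (isFP_of_isCoh hQ) P (Module.Free.of_basis bQ)
  obtain ⟨bm⟩ := nonempty_basis_stalk_local eW hPW
  have hm : m = 1 := by
    have := (Module.finrank_eq_card_basis bm).symm.trans (Module.finrank_eq_card_basis bQ)
    simpa using this
  subst hm
  exact ⟨W, (specializes_iff_mem_closure.2 hPx).mem_open W.2 hPW, ⟨eW ≪≫ freeModOneIso _⟩⟩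

end Groth.Agent.Clifford24
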