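import Groth.Agent.Clifford24.StalkBasis
import Groth.Agent.Clifford24.Sub
import Groth.Agent.Coherent.CohOps
import Groth.Agent.EulerLib.StabBasic

/-!
# Coherent subsheaves of vector bundles on normal curves; endomorphisms of stable bundles
-/

set_option autoImplicit false
set_option linter.style.haveILetI false
set_option linter.unusedSectionVars false
set_option backward.isDefEq.respectTransparency.types false
set_option maxHeartbeats 1000000

universe u

open CategoryTheory CategoryTheory.Limits AlgebraicGeometry Opposite TopologicalSpace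
open Groth.Agent.Coherent Groth.Agent.PicLib Groth.Agent.AmpleLib Groth.Agent.EulerLib Groth.Agent.CurveRR24

namespace Groth.Agent.Clifford24

variable {X : Scheme.{u}} [IsIntegral X] [IsLocallyNoetherian X]

/-- A coherent module whose stalks inject into free modules is locally free on a normal curve. -/
theorem isFinLocFreeOfRank_of_mono (h1 : topologicalKrullDim X ≤ 1)
    (hn : ∀ x : X, IsIntegrallyClosed (X.presheaf.stalk x)) {r : ℕ} {G E : X.Modules} (hG : Coh.IsCoh G)
    (hE : FlatMod.IsFinLocFreeOfRank r E) (ι : G ⟶ E) [Mono ι] :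
    ∃ s, s ≤ r ∧ FlatMod.IsFinLocFreeOfRank s G := by
  classical
  haveI := hG.1
  have hfree : ∀ x : X, ∃ m : ℕ, m ≤ r ∧ Nonempty (Module.Basis (Fin m) (X.presheaf.stalk x) (G.presheaf.stalk x)) := by
    intro x
    let R := X.presheaf.stalk x
    haveI : IsPrincipalIdealRing R := CurvesLib24.isPrincipalIdealRing_stalk h1 x (hn x)
    let ψ : G.presheaf.stalk x →ₗ[R] E.presheaf.stalk x := ((DerSch.stalkFunctor X x).map ι).hom
    have hψ : Function.Injective ψ := (ModuleCat.mono_iff_injective _).1 inferInstance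
    obtain ⟨b⟩ := SplitP1.nonempty_basis_stalk hE x
    obtain ⟨m, bm⟩ := Submodule.basisOfPid b (LinearMap.range ψ)
    refine ⟨m, ?_, ⟨bm.map (LinearEquiv.ofInjective ψ hψ).symm⟩⟩
    haveI : Module.Finite R (E.presheaf.stalk x) := Module.Finite.of_basis b
    have := Submodule.finrank_le (LinearMap.range ψ)
    rwa [Module.finrank_eq_card_basis bm, Module.finrank_eq_card_basis b, Fintype.card_fin, Fintype.card_fin] at this
  obtain ⟨s, hsr, ⟨bη⟩⟩ := hfree (genericPoint X)
  refine ⟨s, hsr, fun x => ?_⟩
  obtain ⟨m, -, ⟨bx⟩⟩ := hfree x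
  obtain ⟨U, n, hxU, ⟨e⟩⟩ := Props12.exists_nhd_free G (isFP_of_isCoh hG) x (Module.Free.of_basis bx)
  obtain ⟨bn⟩ := nonempty_basis_stalk_local e (((genericPoint_spec X).mem_open_set_iff U.2).2 ⟨x, trivial, hxU⟩)
  have hns : n = s := by
    have := (Module.finrank_eq_card_basis bn).symm.trans (Module.finrank_eq_card_basis bη)
    simpa using this
  subst hns
  exact ⟨U, hxU, ⟨e⟩⟩

variable (k : Type u) [Field k] [X.Over (Spec (CommRingCat.of k))] [IsProper (X ↘ Spec (CommRingCat.of k))]

include k in
/-- A nonzero map between stable bundles of equal rank and degree is an isomorphism. -/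
theorem isIso_of_stable (hdim : topologicalKrullDim X = 1)
    (hn : ∀ x : X, IsIntegrallyClosed (X.presheaf.stalk x)) (r : ℕ) {E : X.Modules}
    (hE : FlatMod.IsFinLocFreeOfRank r E)
    (hst : ∀ (G : X.Modules) (s : ℕ) (ι : G ⟶ E), Mono ι → FlatMod.IsFinLocFreeOfRank s G → 0 < s → s < r →
      Curv2.deg k X G s * (r : ℤ) < Curv2.deg k X E r * (s : ℤ))
    {E' : X.Modules} (hE' : FlatMod.IsFinLocFreeOfRank r E')
    (hst' : ∀ (G : X.Modules) (s : ℕ) (ι : G ⟶ E'), Mono ι → FlatMod.IsFinLocFreeOfRank s G → 0 < s → s < r →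
      Curv2.deg k X G s * (r : ℤ) < Curv2.deg k X E' r * (s : ℤ))
    (hd : Curv2.deg k X E r = Curv2.deg k X E' r) (φ : E ⟶ E') (hφ : φ ≠ 0) : IsIso φ := by
  classical
  haveI := EulerLib.isNoetherian_of_proper k (X := X)
  have hEc : Coh.IsCoh E := SplitP1.isCoh_of_rank hE
  haveI := hEc.1
  have hE'c : Coh.IsCoh E' := SplitP1.isCoh_of_rank hE'
  haveI := hE'c.1
  let K := kernel φ
  have hK : Coh.IsCoh K := Coherent.isCoh_kernel φ hEc hE'c.1
  let G := Abelian.coimage φ
  have hG : Coh.IsCoh G := Coherent.isCoh_cokernel (kernel.ι φ) hK.1 hEc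
  obtain ⟨a, har, hKa⟩ := isFinLocFreeOfRank_of_mono hdim.le hn hK hE (kernel.ι φ)
  haveI : Mono (Abelian.factorThruCoimage φ) := inferInstance
  obtain ⟨s, hsr, hGs⟩ := isFinLocFreeOfRank_of_mono hdim.le hn hG hE' (Abelian.factorThruCoimage φ)
  let S := ShortComplex.mk (kernel.ι φ) (cokernel.π (kernel.ι φ)) (cokernel.condition _)
  have hS : S.ShortExact := { exact := ShortComplex.exact_of_g_is_cokernel _ (cokernelIsCokernel _) }
  let η := genericPoint X
  let F := X.functionField
  let St := DerSch.stalkFunctor X η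
  obtain ⟨bK⟩ := SplitP1.nonempty_basis_stalk hKa η
  obtain ⟨bG⟩ := SplitP1.nonempty_basis_stalk hGs η
  obtain ⟨bE⟩ := SplitP1.nonempty_basis_stalk hE η
  have hSt := hS.map_of_exact St
  let i : K.presheaf.stalk η →ₗ[F] E.presheaf.stalk η := (St.map (kernel.ι φ)).hom
  let q : E.presheaf.stalk η →ₗ[F] G.presheaf.stalk η := (St.map (cokernel.π (kernel.ι φ))).hom
  have hrank : a + s = r := by
    have hq : Function.Surjective q := (ModuleCat.epi_iff_surjective _).1 hSt.epi_g
    have hi : Function.Injective i := (ModuleCat.mono_iff_injective _).1 hSt.mono_f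
    have hker : LinearMap.ker q = LinearMap.range i :=
      (ShortComplex.Exact.moduleCat_range_eq_ker hSt.exact).symm
    haveI : Module.Finite F (E.presheaf.stalk η) := Module.Finite.of_basis bE
    have h := LinearMap.finrank_range_add_finrank_ker q
    rw [hker, LinearMap.range_eq_top.2 hq, finrank_top, LinearMap.finrank_range_of_inj hi,
      Module.finrank_eq_card_basis bK, Module.finrank_eq_card_basis bG, Module.finrank_eq_card_basis bE] at h
    simp only [Fintype.card_fin] at h
    omega
  have heul := euler_additive k X S hS hK hEc hG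
  change Curv2.euler k X E = Curv2.euler k X K + Curv2.euler k X G at heul
  have hdeg : Curv2.deg k X E r = Curv2.deg k X K a + Curv2.deg k X G s := by
    simp only [Curv2.deg, heul, ← hrank]
    push_cast
    ring
  have hs0 : 0 < s := by
    by_contra h0
    have hs : s = 0 := by omega
    refine hφ ?_
    have hz : IsZero G := ModStalk.isZero_of_stalks fun x => by
      rw [ModuleCat.isZero_iff_subsingleton]
      obtain ⟨bx⟩ := SplitP1.nonempty_basis_stalk hGs x
      haveI : IsEmpty (Fin s) := by rw [hs]; exact Fin.isEmpty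
      exact bx.repr.toEquiv.subsingleton
    rw [← Abelian.coimage.fac φ, hz.eq_of_src (Abelian.factorThruCoimage φ) 0, comp_zero]
  rcases lt_or_eq_of_le hsr with hlt | rfl
  · exfalso
    have h1 := hst' G s (Abelian.factorThruCoimage φ) inferInstance hGs hs0 hlt
    have h2 := hst K a (kernel.ι φ) inferInstance hKa (by omega) (by omega)
    have h3 : (a : ℤ) + (s : ℤ) = (r : ℤ) := by exact_mod_cast hrank
    rw [← hd] at h1
    rw [hdeg, ← h3] at h1 h2
    linarith
  have ha : a = 0 := by omega
  have hKz : IsZero K := ModStalk.isZero_of_stalks fun x => by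
    rw [ModuleCat.isZero_iff_subsingleton]
    obtain ⟨bx⟩ := SplitP1.nonempty_basis_stalk hKa x
    haveI : IsEmpty (Fin a) := by rw [ha]; exact Fin.isEmpty
    exact bx.repr.toEquiv.subsingleton
  haveI : Mono φ := Preadditive.mono_of_isZero_kernel _ hKz
  let Q := cokernel φ
  have hQ : Coh.IsCoh Q := Coherent.isCoh_cokernel φ hEc.1 hE'c
  let T := ShortComplex.mk φ (cokernel.π φ) (cokernel.condition φ)
  have hT : T.ShortExact := { exact := ShortComplex.exact_of_g_is_cokernel _ (cokernelIsCokernel _) }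
  have heQ := euler_additive k X T hT hEc hE'c hQ
  change Curv2.euler k X E' = Curv2.euler k X E + Curv2.euler k X Q at heQ
  simp only [Curv2.deg] at hd
  have hTη := hT.map_of_exact St
  have hηQ : η ∉ CohB1.support Q := by
    refine (Coherent.notMem_support_iff _ η).2 ?_
    let ψ : E.presheaf.stalk η →ₗ[F] E'.presheaf.stalk η := (St.map φ).hom
    obtain ⟨bE'⟩ := SplitP1.nonempty_basis_stalk hE' η
    haveI : Module.Finite F (E'.presheaf.stalk η) := Module.Finite.of_basis bE'
    haveI : Module.Finite F (E.presheaf.stalk η) := Module.Finite.of_basis bE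
    have hinj : Function.Injective ψ := (ModuleCat.mono_iff_injective _).1 hTη.mono_f
    haveI : Epi (St.map φ) := (ModuleCat.epi_iff_surjective _).2
      ((LinearMap.injective_iff_surjective_of_finrank_eq_finrank (f := ψ)
        ((Module.finrank_eq_card_basis bE).trans (Module.finrank_eq_card_basis bE').symm)).1 hinj)
    haveI := hTη.epi_g
    refine IsZero.of_epi_eq_zero (St.map (cokernel.π φ)) ?_
    rw [← cancel_epi (St.map φ), ← Functor.map_comp, cokernel.condition, Functor.map_zero, comp_zero]
  have hsupp : IsClosed (CohB1.support Q) :=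
    Coherent.isClosed_support _ (Coherent.locallyFinGen_of_isFT _ hQ.2)
  obtain ⟨hfin, hpts, -⟩ := closed_small k hdim.le hsupp hηQ
  have h0 := euler_eq_h0_of_small k hdim.le hQ.1 hsupp hηQ subset_rfl
  haveI := finite_HH_of_isCoh k hQ 0
  change Curv2.euler k X Q = (Module.finrank k (Coh.HH X Q 0) : ℤ) at h0
  have hz0 : Module.finrank k (Coh.HH X Q 0) = 0 := by omega
  haveI : Subsingleton (Coh.HH X Q 0) := (Module.finrank_zero_iff (R := k)).1 hz0
  haveI : Subsingleton (GA (baseHom k X) Q) := (hhZero k Q).symm.toEquiv.subsingleton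
  have hQz : IsZero Q := isZero_of_finite_support hfin hpts subset_rfl fun t =>
    Subsingleton.elim (α := GA (baseHom k X) Q) t 0
  haveI : Epi φ := Abelian.epi_of_cokernel_π_eq_zero _ (hQz.eq_of_tgt _ _)
  exact isIso_of_mono_of_epi φ

include k in
/-- A nonzero endomorphism of a stable bundle is an isomorphism. -/
theorem isIso_endomorphism_of_stable (hdim : topologicalKrullDim X = 1)
    (hn : ∀ x : X, IsIntegrallyClosed (X.presheaf.stalk x)) (r : ℕ) {E : X.Modules}
    (hE : FlatMod.IsFinLocFreeOfRank r E)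
    (hst : ∀ (G : X.Modules) (s : ℕ) (ι : G ⟶ E), Mono ι → FlatMod.IsFinLocFreeOfRank s G → 0 < s → s < r →
      Curv2.deg k X G s * (r : ℤ) < Curv2.deg k X E r * (s : ℤ))
    (φ : E ⟶ E) (hφ : φ ≠ 0) : IsIso φ :=
  isIso_of_stable k hdim hn r hE hst hE hst rfl φ hφ

end Groth.Agent.Clifford24

namespace Groth.Agent.Clifford24

variable {X : Scheme.{u}} [IsIntegral X] [IsLocallyNoetherian X]
  (k : Type u) [Field k] [X.Over (Spec (CommRingCat.of k))] [IsProper (X ↘ Spec (CommRingCat.of k))]

include k in
/-- Over an algebraically closed field, endomorphisms all of whose nonzero values are isomorphisms are scalars. -/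
theorem exists_eq_smul_id [IsAlgClosed k] (r : ℕ) {E : X.Modules} (hE : FlatMod.IsFinLocFreeOfRank r E)
    (hiso : ∀ ψ : E ⟶ E, ψ ≠ 0 → IsIso ψ) (φ : E ⟶ E) : ∃ a : k, φ = a • 𝟙 E := by
  classical
  haveI := EulerLib.isNoetherian_of_proper k (X := X)
  haveI := LocallyOfFiniteType.jacobsonSpace (X ↘ Spec (CommRingCat.of k))
  obtain ⟨P, -, hP⟩ := nonempty_inter_closedPoints (X := X) Set.univ_nonempty isClosed_univ.isLocallyClosed
  rcases Nat.eq_zero_or_pos r with rfl | hr
  · refine ⟨0, ?_⟩
    have hz : IsZero E := ModStalk.isZero_of_stalks fun x => by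
      rw [ModuleCat.isZero_iff_subsingleton]
      obtain ⟨bx⟩ := SplitP1.nonempty_basis_stalk hE x
      exact bx.repr.toEquiv.subsingleton
    exact hz.eq_of_src _ _
  let R := X.presheaf.stalk P
  let St := DerSch.stalkFunctor X P
  obtain ⟨b⟩ := SplitP1.nonempty_basis_stalk hE P
  let ψ : E.presheaf.stalk P →ₗ[R] E.presheaf.stalk P := (St.map φ).hom
  let M : Matrix (Fin r) (Fin r) R := LinearMap.toMatrix b b ψ
  let res : R →+* X.residueField P := (X.residue P).hom
  let _ := Curv2.resAlgebra k X P
  haveI := finite_resField hP k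
  haveI : IsAlgClosed (X.residueField P) := IsAlgClosed.of_ringEquiv k _
    (RingEquiv.ofBijective (algebraMap k (X.residueField P))
      (IsAlgClosed.algebraMap_bijective_of_isIntegral (k := k) (K := X.residueField P)))
  obtain ⟨z, hz⟩ := IsAlgClosed.exists_root (M.map res).charpoly (by
    rw [Matrix.charpoly_degree_eq_dim, Fintype.card_fin]; exact_mod_cast hr.ne')
  obtain ⟨a, ha⟩ := (IsAlgClosed.algebraMap_bijective_of_isIntegral (k := k) (K := X.residueField P)).2 z
  refine ⟨a, sub_eq_zero.1 ?_⟩
  by_contra hne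
  haveI := hiso _ hne
  let g : R := X.presheaf.germ ⊤ P trivial (Coh.toGlobal (X ↘ Spec (CommRingCat.of k)) a)
  let ψ' : E.presheaf.stalk P →ₗ[R] E.presheaf.stalk P := (St.map (φ - a • 𝟙 E)).hom
  have hψ' : ψ' = ψ - g • LinearMap.id := by
    refine LinearMap.ext fun m => ?_
    obtain ⟨W, hPW, s, rfl⟩ := TopCat.Presheaf.exists_germ_eq E.presheaf m
    have h1 : ψ (E.presheaf.germ W P hPW s) = E.presheaf.germ W P hPW (φ.app W s) :=
      DerSch.stalkFunctor_map_germ P φ W hPW s
    have h2 : ψ' (E.presheaf.germ W P hPW s) = E.presheaf.germ W P hPW ((φ - a • 𝟙 E).app W s) :=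
      DerSch.stalkFunctor_map_germ P (φ - a • 𝟙 E) W hPW s
    rw [LinearMap.sub_apply, LinearMap.smul_apply, LinearMap.id_apply, h1, h2, Scheme.Modules.Hom.sub_app]
    show E.presheaf.germ W P hPW (φ.app W s - (a • 𝟙 E).app W s) = _
    rw [map_sub, KLin.smul_app_apply, QCohLoc.germ_smul']
    congr 2
    exact X.presheaf.germ_res_apply _ P hPW _
  have hbij : Function.Bijective ψ' :=
    ConcreteCategory.bijective_of_isIso (C := ModuleCat R) (St.map (φ - a • 𝟙 E))
  have hu : IsUnit (LinearMap.toMatrix b b ψ').det :=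
    LinearEquiv.isUnit_det (LinearEquiv.ofBijective ψ' hbij) b b
  rw [hψ', map_sub, map_smul, LinearMap.toMatrix_id] at hu
  have hz' : res g = z := ha
  have hmap : res.mapMatrix (M - g • (1 : Matrix (Fin r) (Fin r) R)) =
      M.map res - Matrix.scalar (Fin r) z := by
    rw [← hz']
    ext i j
    by_cases hij : i = j <;> simp [hij]
  have hdet : res (M - g • (1 : Matrix (Fin r) (Fin r) R)).det = 0 := by
    rw [RingHom.map_det, hmap]
    rw [Polynomial.IsRoot, Matrix.eval_charpoly] at hz
    rw [← neg_sub, Matrix.det_neg, hz, mul_zero]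
  exact not_isUnit_zero (hdet ▸ hu.map res)

end Groth.Agent.Clifford24
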