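import Groth.Agent.Clifford24.USucc
import Groth.Agent.Clifford24.CBasis.Span
import Groth.Agent.S18247
import Mathlib

/-! The Hilbert series of `U_n` over `ℤ`. -/

set_option autoImplicit false
universe u
open W4c5m1nsnscurves MvPolynomial

namespace Groth.Agent.Clifford24.UHilb

open Groth.Agent.Clifford24

section Series

/-- the counting series of the fibres of a weight -/
noncomputable def series {κ : Type*} (w : κ → ℕ) : PowerSeries ℤ :=
  PowerSeries.mk fun d => (Nat.card {i : κ // w i = d} : ℤ)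

theorem series_congr {κ κ' : Type*} (e : κ ≃ κ') (w : κ' → ℕ) :
    series (fun i => w (e i)) = series w := by
  ext d
  simp only [series, PowerSeries.coeff_mk]
  exact congrArg Nat.cast (Nat.card_congr (e.subtypeEquiv fun a => Iff.rfl))

theorem finite_fibre_congr {κ κ' : Type*} (e : κ ≃ κ') (w : κ' → ℕ)
    (h : ∀ d, Finite {i : κ' // w i = d}) (d : ℕ) : Finite {i : κ // w (e i) = d} :=
  haveI := h d
  Finite.of_equiv _ (e.subtypeEquiv (fun a => Iff.rfl) : {i : κ // w (e i) = d} ≃ {i : κ' // w i = d}).symm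

def fibreProd {κ κ' : Type*} (w : κ → ℕ) (w' : κ' → ℕ) (d : ℕ) :
    {p : κ × κ' // w p.1 + w' p.2 = d} ≃
      Σ i : Fin (d + 1), {a : κ // w a = i.1} × {b : κ' // w' b = d - i.1} where
  toFun p := ⟨⟨w p.1.1, Nat.lt_succ_of_le (le_of_le_of_eq (Nat.le_add_right _ _) p.2)⟩, ⟨p.1.1, rfl⟩,
    ⟨p.1.2, by have := p.2; show _ = d - w p.1.1; omega⟩⟩
  invFun z := ⟨(z.2.1.1, z.2.2.1), by
    have h1 := z.2.1.2; have h2 := z.2.2.2; have := z.1.2; show w z.2.1.1 + w' z.2.2.1 = d; omega⟩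
  left_inv p := rfl
  right_inv := by rintro ⟨⟨i, hi⟩, ⟨a, (rfl : w a = i)⟩, ⟨b, hb⟩⟩; rfl

theorem finite_fibre_prod {κ κ' : Type*} (w : κ → ℕ) (w' : κ' → ℕ)
    (h : ∀ d, Finite {i : κ // w i = d}) (h' : ∀ d, Finite {i : κ' // w' i = d}) (d : ℕ) :
    Finite {p : κ × κ' // w p.1 + w' p.2 = d} := by
  haveI := fun i : Fin (d + 1) => h i.1
  haveI := fun i : Fin (d + 1) => h' (d - i.1)
  exact Finite.of_equiv _ (fibreProd w w' d).symm

theorem series_prod {κ κ' : Type*} (w : κ → ℕ) (w' : κ' → ℕ)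
    (h : ∀ d, Finite {i : κ // w i = d}) (h' : ∀ d, Finite {i : κ' // w' i = d}) :
    series (fun p : κ × κ' => w p.1 + w' p.2) = series w * series w' := by
  ext d
  haveI := fun i : Fin (d + 1) => h i.1
  haveI := fun i : Fin (d + 1) => h' (d - i.1)
  simp only [series, PowerSeries.coeff_mk, PowerSeries.coeff_mul]
  rw [Finset.Nat.sum_antidiagonal_eq_sum_range_succ
    (fun a b => (Nat.card {i : κ // w i = a} : ℤ) * Nat.card {i : κ' // w' i = b}),
    Nat.card_congr (fibreProd w w' d), Nat.card_sigma, Nat.cast_sum,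
    ← Fin.sum_univ_eq_sum_range (fun a => (Nat.card {i : κ // w i = a} : ℤ) * Nat.card {i : κ' // w' i = d - a})]
  exact Finset.sum_congr rfl fun i _ => by rw [Nat.card_prod, Nat.cast_mul]

theorem finite_fibre_fin : ∀ n d, Finite {e : Fin n → ℕ // ∑ i, e i = d}
  | 0, d => inferInstance
  | n + 1, d => by
    have h := finite_fibre_congr (Fin.consEquiv (fun _ : Fin (n + 1) => ℕ)).symm
      (fun p : ℕ × (Fin n → ℕ) => p.1 + ∑ i, p.2 i)
      (finite_fibre_prod (fun a : ℕ => a) (fun e : Fin n → ℕ => ∑ i, e i)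
        (fun d => inferInstance) (finite_fibre_fin n)) d
    simpa [Fin.sum_univ_succ, Fin.consEquiv, Fin.tail] using h

theorem series_fin : ∀ n, series (fun e : Fin n → ℕ => ∑ i, e i) = (PowerSeries.mk fun _ => (1 : ℤ)) ^ n
  | 0 => by
    ext d
    simp only [series, PowerSeries.coeff_mk, pow_zero, PowerSeries.coeff_one]
    rcases eq_or_ne d 0 with rfl | hd
    · simp
    · rw [if_neg hd]
      haveI : IsEmpty {e : Fin 0 → ℕ // ∑ i, e i = d} := ⟨fun e => hd (by simpa using e.2.symm)⟩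
      rw [Nat.card_of_isEmpty, Nat.cast_zero]
  | n + 1 => by
    have h1 : series (fun e : Fin (n + 1) → ℕ => ∑ i, e i) =
        series (fun p : ℕ × (Fin n → ℕ) => p.1 + ∑ i, p.2 i) := by
      rw [← series_congr (Fin.consEquiv (fun _ : Fin (n + 1) => ℕ)).symm]
      congr 1
      funext e
      simp [Fin.sum_univ_succ, Fin.consEquiv, Fin.tail]
    have hid : series (fun a : ℕ => a) = PowerSeries.mk fun _ => (1 : ℤ) := by
      ext d; simp [series]
    rw [h1, series_prod (fun a : ℕ => a) (fun e : Fin n → ℕ => ∑ i, e i) (fun _ => inferInstance)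
      (finite_fibre_fin n), hid, series_fin n, pow_succ']

end Series

instance (m : ℕ) : Finite (CVar m) :=
  Finite.of_injective (fun y : CVar m => match y with
    | .x2 => Sum.inl true
    | .x3 => Sum.inl false
    | .xi i => (Sum.inr i : Bool ⊕ Fin m))
    (fun a b => by cases a <;> cases b <;> simp)

theorem card_CVar (m : ℕ) : Nat.card (CVar m) = m + 2 := by
  let e : CVar m ≃ Bool ⊕ Fin m :=
    { toFun := fun y => match y with
        | .x2 => Sum.inl true
        | .x3 => Sum.inl false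
        | .xi i => Sum.inr i
      invFun := fun z => match z with
        | .inl true => .x2
        | .inl false => .x3
        | .inr i => .xi i
      left_inv := fun y => by cases y <;> rfl
      right_inv := fun z => by rcases z with (_ | _) | _ <;> rfl }
  simp [Nat.card_congr e, Nat.card_sum, add_comm]

def degTwo (m d : ℕ) : {t : CBasis.Idx m // CBasis.deg t = d + 2} ≃ Option (CVar m) where
  toFun t := match t with
    | ⟨none, h⟩ => none
    | ⟨some (Sum.inl _), _⟩ => none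
    | ⟨some (Sum.inr (y, _)), _⟩ => some y
  invFun o := match o with
    | none => ⟨some (Sum.inl d), rfl⟩
    | some y => ⟨some (Sum.inr (y, d + 1)), rfl⟩
  left_inv := by
    rintro ⟨_ | (k | ⟨y, k⟩), h⟩
    · simp [CBasis.deg] at h
    · simp only [CBasis.deg] at h; obtain rfl : k = d := by omega
      rfl
    · simp only [CBasis.deg] at h; obtain rfl : k = d + 1 := by omega
      rfl
  right_inv := by rintro (_ | y) <;> rfl

def degOne (m : ℕ) : {t : CBasis.Idx m // CBasis.deg t = 1} ≃ CVar m where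
  toFun t := match t with
    | ⟨none, h⟩ => absurd h (by simp [CBasis.deg])
    | ⟨some (Sum.inl _), h⟩ => absurd h (by simp [CBasis.deg])
    | ⟨some (Sum.inr (y, _)), _⟩ => y
  invFun y := ⟨some (Sum.inr (y, 0)), rfl⟩
  left_inv := by
    rintro ⟨_ | (k | ⟨y, k⟩), h⟩
    · simp [CBasis.deg] at h
    · simp [CBasis.deg] at h
    · simp only [CBasis.deg] at h; obtain rfl : k = 0 := by omega
      rfl
  right_inv y := rfl

def degZero (m : ℕ) : {t : CBasis.Idx m // CBasis.deg t = 0} ≃ Unit where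
  toFun _ := ()
  invFun _ := ⟨none, rfl⟩
  left_inv := by rintro ⟨_ | (k | ⟨y, k⟩), h⟩ <;> first | rfl | simp [CBasis.deg] at h
  right_inv _ := rfl

theorem finite_deg (m d : ℕ) : Finite {t : CBasis.Idx m // CBasis.deg t = d} := by
  match d with
  | 0 => exact Finite.of_equiv _ (degZero m).symm
  | 1 => exact Finite.of_equiv _ (degOne m).symm
  | d + 2 => exact Finite.of_equiv _ (degTwo m d).symm

theorem series_deg (m : ℕ) :
    series (CBasis.deg (m := m)) = (PowerSeries.mk fun _ => (1 : ℤ)) *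
      (1 + PowerSeries.C ((m + 1 : ℕ) : ℤ) * PowerSeries.X + PowerSeries.X ^ 2) := by
  ext d
  rw [mul_add, mul_add, mul_one, ← mul_assoc, map_add, map_add]
  simp only [series, PowerSeries.coeff_mk]
  match d with
  | 0 => simp [Nat.card_congr (degZero m), PowerSeries.coeff_mul_X_pow']
  | 1 =>
    simp only [Nat.card_congr (degOne m), card_CVar, PowerSeries.coeff_succ_mul_X,
      PowerSeries.coeff_mul_X_pow', show ¬(2 ≤ 1) by omega, if_false, add_zero,
      PowerSeries.coeff_mul_C, PowerSeries.coeff_mk]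
    push_cast; ring
  | d + 2 =>
    simp only [Nat.card_congr (degTwo m d), Finite.card_option, card_CVar, PowerSeries.coeff_succ_mul_X,
      PowerSeries.coeff_mul_X_pow', show 2 ≤ d + 2 by omega, if_true,
      PowerSeries.coeff_mul_C, PowerSeries.coeff_mk]
    push_cast; ring

section Grading

theorem isHomogeneous_span_URel (m : ℕ) :
    @Ideal.IsHomogeneous ℕ (Submodule ℤ (MvPolynomial (UGen m) ℤ)) (MvPolynomial (UGen m) ℤ) _ _ _
      (weightedHomogeneousSubmodule ℤ (uwt (m := m))) _ _ (weightedGradedAlgebra ℤ _)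
      (Ideal.span (URel ℤ m)) := by
  letI := weightedGradedAlgebra ℤ (uwt (m := m))
  refine Ideal.homogeneous_span _ _ fun p hp => ?_
  have hX : ∀ g : UGen m, IsWeightedHomogeneous uwt (X g : MvPolynomial (UGen m) ℤ) (uwt g) :=
    fun g => isWeightedHomogeneous_X ℤ _ g
  have h1 : ∀ g, uwt g = 1 → (X g : MvPolynomial (UGen m) ℤ) ∈ weightedHomogeneousSubmodule ℤ uwt 1 :=
    fun g hg => hg ▸ hX g
  have h2 : ∀ g, uwt g = 2 → (X g : MvPolynomial (UGen m) ℤ) ∈ weightedHomogeneousSubmodule ℤ uwt 2 :=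
    fun g hg => hg ▸ hX g
  have hm : ∀ {a b : MvPolynomial (UGen m) ℤ}, a ∈ weightedHomogeneousSubmodule ℤ uwt 1 →
      b ∈ weightedHomogeneousSubmodule ℤ uwt 1 → a * b ∈ weightedHomogeneousSubmodule ℤ uwt 2 :=
    fun {a b} ha hb => IsWeightedHomogeneous.mul ha hb
  simp only [URel, Set.mem_union, Set.mem_range] at hp
  rcases hp with ((⟨q, rfl⟩ | ⟨q, rfl⟩) | ⟨q, rfl⟩) | ⟨q, rfl⟩
  · exact ⟨1, sub_mem (add_mem (h1 _ rfl) (h1 _ rfl))
      (add_mem (add_mem (add_mem (add_mem (h1 _ rfl) (h1 _ rfl)) (h1 _ rfl)) (h1 _ rfl)) (h1 _ rfl))⟩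
  · exact ⟨2, sub_mem (sub_mem (add_mem (hm (h1 _ rfl) (h1 _ rfl)) (hm (h1 _ rfl) (h1 _ rfl)))
      (hm (h1 _ rfl) (h1 _ rfl))) (h2 _ rfl)⟩
  · exact ⟨2, sub_mem (sub_mem (add_mem (hm (h1 _ rfl) (h1 _ rfl)) (hm (h1 _ rfl) (h1 _ rfl)))
      (hm (h1 _ rfl) (h1 _ rfl))) (h2 _ rfl)⟩
  · exact ⟨2, sub_mem (add_mem (sub_mem (add_mem (hm (h1 _ rfl) (h1 _ rfl)) (hm (h1 _ rfl) (h1 _ rfl)))
      (hm (h1 _ rfl) (h1 _ rfl))) (hm (add_mem (add_mem (h1 _ rfl) (h1 _ rfl)) (h1 _ rfl)) (h1 _ rfl)))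
      (h2 _ rfl)⟩

theorem isInternal_upiece (m : ℕ) : DirectSum.IsInternal (upiece ℤ m) := by
  letI := weightedGradedAlgebra ℤ (uwt (m := m))
  haveI : GrQuot.IsHomog (weightedHomogeneousSubmodule ℤ (uwt (m := m))) (Ideal.span (URel ℤ m)) :=
    (GrQuot.isHomog_iff _ _).mpr (isHomogeneous_span_URel m)
  exact DirectSum.Decomposition.isInternal
    (GrQuot.quot (weightedHomogeneousSubmodule ℤ (uwt (m := m))) (Ideal.span (URel ℤ m)))

theorem upiece_one (m : ℕ) : (1 : URing ℤ m) ∈ upiece ℤ m 0 :=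
  ⟨1, isWeightedHomogeneous_one ℤ _, map_one (Ideal.Quotient.mk (Ideal.span (URel ℤ m)))⟩

theorem upiece_mul {m i j : ℕ} {x y : URing ℤ m} (hx : x ∈ upiece ℤ m i) (hy : y ∈ upiece ℤ m j) :
    x * y ∈ upiece ℤ m (i + j) := by
  obtain ⟨a, ha, rfl⟩ := hx
  obtain ⟨b, hb, rfl⟩ := hy
  exact ⟨a * b, IsWeightedHomogeneous.mul ha hb, map_mul (Ideal.Quotient.mk (Ideal.span (URel ℤ m))) a b⟩

theorem upiece_pow {m : ℕ} {x : URing ℤ m} (hx : x ∈ upiece ℤ m 1) : ∀ k, x ^ k ∈ upiece ℤ m k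
  | 0 => by rw [pow_zero]; exact upiece_one m
  | k + 1 => by rw [pow_succ]; exact upiece_mul (upiece_pow hx k) hx

theorem ugen_mem (m : ℕ) (g : UGen m) : ugen ℤ m g ∈ upiece ℤ m (uwt g) :=
  ⟨X g, isWeightedHomogeneous_X ℤ _ g, rfl⟩

theorem uincl_mem {m d : ℕ} {x : URing ℤ m} (hx : x ∈ upiece ℤ m d) :
    uincl ℤ m x ∈ upiece ℤ (m + 1) d := by
  obtain ⟨p, hp, rfl⟩ := hx
  refine ⟨rename UGen.castSucc p, ?_, rfl⟩
  rw [SetLike.mem_coe, mem_weightedHomogeneousSubmodule] at hp ⊢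
  intro e he
  obtain ⟨e', rfl, he'⟩ := coeff_rename_ne_zero UGen.castSucc p e he
  rw [← hp he']
  simp only [Finsupp.weight_apply]
  rw [Finsupp.sum_mapDomain_index (h := fun i c => c • uwt i) (fun _ => zero_smul ℕ _) (fun _ a b => add_smul a b _)]
  refine Finsupp.sum_congr fun g _ => ?_
  congr 1
  cases g <;> rfl

end Grading

theorem isPoint_ugen (m : ℕ) : CBasis.IsPoint (ugen ℤ m) := by
  refine ⟨fun i j h => ?_, fun i j h => ?_, fun i j h => ?_, fun i j l h₁ h₂ h₃ => ?_⟩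
  · simp only [CBasis.el]; linear_combination USucc.relL ℤ m i j h
  · simp only [CBasis.ec]; linear_combination USucc.relC ℤ m i j h
  · simp only [CBasis.eb]; linear_combination USucc.relB ℤ m i j h
  · simp only [CBasis.et, CBasis.S]; linear_combination USucc.relT ℤ m i j l h₁ h₂ h₃

theorem F_cmon_mem (m : ℕ) (t : CBasis.Idx m) :
    USucc.F ℤ (cmon (URing ℤ m) m (ugen ℤ m) t) ∈ upiece ℤ (m + 1) (CBasis.deg t) := by
  have hv : ∀ y : CVar m, USucc.v ℤ y ∈ upiece ℤ (m + 1) 1 := by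
    intro y
    cases y with
    | x2 => exact ugen_mem (m + 1) (.ci (Fin.last m))
    | x3 => exact add_mem (add_mem (ugen_mem (m + 1) .a) (ugen_mem (m + 1) (.ci (Fin.last m)))) (ugen_mem (m + 1) (.cbi (Fin.last m)))
    | xi i => exact ugen_mem (m + 1) (.cij i.castSucc (Fin.last m) (Fin.castSucc_lt_last i).ne)
  rcases t with _ | (k | ⟨y, k⟩)
  · show USucc.F ℤ 1 ∈ _
    rw [map_one]; exact upiece_one _
  · have : USucc.F ℤ (cmon (URing ℤ m) m (ugen ℤ m) (some (Sum.inl k))) =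
        USucc.v ℤ CVar.x2 ^ (k + 1) * USucc.v ℤ CVar.x3 := by
      simp only [cmon, map_mul, map_pow]
      exact congrArg₂ (fun a b => a ^ (k + 1) * b) (USucc.F_xv ℤ _) (USucc.F_xv ℤ _)
    rw [this]
    show _ ∈ upiece ℤ (m + 1) ((k + 1) + 1)
    exact upiece_mul (upiece_pow (hv CVar.x2) (k + 1)) (hv CVar.x3)
  · have : USucc.F ℤ (cmon (URing ℤ m) m (ugen ℤ m) (some (Sum.inr (y, k)))) =
        USucc.v ℤ y ^ (k + 1) := by
      simp only [cmon, map_pow]
      exact congrArg (fun a => a ^ (k + 1)) (USucc.F_xv ℤ _)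
    rw [this]
    show _ ∈ upiece ℤ (m + 1) (k + 1)
    exact upiece_pow (hv y) (k + 1)

/-- a homogeneous basis with prescribed fibre series -/
structure HomogBasis (m : ℕ) where
  κ : Type
  w : κ → ℕ
  B : Module.Basis κ ℤ (URing ℤ m)
  mem : ∀ i, B i ∈ upiece ℤ m (w i)
  fin : ∀ d, Finite {i : κ // w i = d}
  ser : series w = uhilb m

noncomputable def base : HomogBasis 2 := by
  let v : Fin 6 → URing ℤ 2 := ![ugen ℤ 2 .a, ugen ℤ 2 (.ci 0), ugen ℤ 2 (.cbi 0), ugen ℤ 2 (.ci 1),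
    ugen ℤ 2 (.cbi 1), ugen ℤ 2 (.cij 0 1 Fin.zero_ne_one)]
  let e := LinearEquiv.ofBijective (MvPolynomial.aeval (R := ℤ) v).toLinearMap Groth.Agent.S18247.result
  let B := ((MvPolynomial.basisMonomials (Fin 6) ℤ).map e).reindex Finsupp.equivFunOnFinite
  have hv : ∀ i, v i ∈ upiece ℤ 2 1 := fun i => by
    fin_cases i
    exacts [ugen_mem 2 .a, ugen_mem 2 (.ci 0), ugen_mem 2 (.cbi 0), ugen_mem 2 (.ci 1), ugen_mem 2 (.cbi 1),
      ugen_mem 2 (.cij 0 1 Fin.zero_ne_one)]
  refine ⟨Fin 6 → ℕ, fun f => ∑ i, f i, B, fun f => ?_, finite_fibre_fin 6, ?_⟩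
  · have hB : B f = ∏ i, v i ^ f i := by
      simp only [B, Module.Basis.reindex_apply, Module.Basis.map_apply, coe_basisMonomials]
      show MvPolynomial.aeval v (monomial (Finsupp.equivFunOnFinite.symm f) (1 : ℤ)) = _
      rw [aeval_monomial, map_one, one_mul, Finsupp.prod_fintype _ _ fun i => pow_zero _]
      exact Finset.prod_congr rfl fun i _ => by simp
    rw [hB]
    rw [Fin.prod_univ_six, Fin.sum_univ_six]
    exact upiece_mul (upiece_mul (upiece_mul (upiece_mul (upiece_mul (upiece_pow (hv 0) _)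
          (upiece_pow (hv 1) _)) (upiece_pow (hv 2) _)) (upiece_pow (hv 3) _)) (upiece_pow (hv 4) _))
          (upiece_pow (hv 5) _)
  · rw [series_fin, uhilb]; simp

noncomputable def step {m : ℕ} (hm : 2 ≤ m) (H : HomogBasis m) : HomogBasis (m + 1) := by
  let v := ugen ℤ m
  have hb := (CBasis.basis_iff v (le_trans (by omega) hm)).mpr
    ((CBasis.isPoint_iff v).mp (isPoint_ugen m))
  let C := Module.Basis.mk hb.1 hb.2.ge
  let e := (RingEquiv.ofRingHom (USucc.F (m := m) ℤ) (USucc.G ℤ) (USucc.F_G ℤ) (USucc.G_F ℤ))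
  let el : CurveAlg (URing ℤ m) m v ≃ₗ[ℤ] URing ℤ (m + 1) := e.toAddEquiv.toIntLinearEquiv
  let B := (H.B.smulTower C).map el
  refine ⟨H.κ × CBasis.Idx m, fun p => H.w p.1 + CBasis.deg p.2, B, fun p => ?_,
    finite_fibre_prod _ _ H.fin (finite_deg m), ?_⟩
  · have hp : B p = uincl ℤ m (H.B p.1) * USucc.F ℤ (cmon (URing ℤ m) m v p.2) := by
      simp only [B, Module.Basis.map_apply, Module.Basis.smulTower_apply]
      show USucc.F ℤ (H.B p.1 • C p.2) = _
      rw [Module.Basis.mk_apply, show H.B p.1 • cmon (URing ℤ m) m v p.2 =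
        algebraMap (URing ℤ m) (CurveAlg (URing ℤ m) m v) (H.B p.1) * cmon (URing ℤ m) m v p.2 from
          Algebra.smul_def (H.B p.1) (cmon (URing ℤ m) m v p.2), map_mul, USucc.F_algebraMap]
    rw [hp]
    exact upiece_mul (uincl_mem (H.mem _)) (F_cmon_mem m _)
  · rw [series_prod H.w CBasis.deg H.fin (finite_deg m), H.ser, series_deg, uhilb, uhilb,
      show m + 1 + 4 = (m + 4) + 1 by ring, pow_succ, Finset.prod_Icc_succ_top (by omega)]
    push_cast; ring

theorem nonempty_homogBasis {m : ℕ} (hm : 2 ≤ m) : Nonempty (HomogBasis m) := by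
  induction m, hm using Nat.le_induction with
  | base => exact ⟨base⟩
  | succ n hn ih => exact ⟨step hn ih.some⟩

theorem main (m : ℕ) (hm : 2 ≤ m) :
    Module.Free ℤ (URing ℤ m) ∧ DirectSum.IsInternal (upiece ℤ m) ∧
      ∀ d : ℕ, (Module.finrank ℤ (upiece ℤ m d) : ℤ) = PowerSeries.coeff d (uhilb m) := by
  classical
  obtain ⟨H⟩ := nonempty_homogBasis hm
  have hint := isInternal_upiece m
  refine ⟨Module.Free.of_basis H.B, hint, fun d => ?_⟩
  let P := fun i : {i // H.w i = d} => H.B i.1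
  have hspan : Submodule.span ℤ (Set.range P) = upiece ℤ m d := by
    refine le_antisymm (Submodule.span_le.mpr ?_) fun x hx => ?_
    · rintro _ ⟨⟨i, hi⟩, rfl⟩
      exact hi ▸ H.mem i
    · letI := hint.chooseDecomposition
      have hx' : x = ∑ i ∈ (H.B.repr x).support, H.B.repr x i • H.B i :=
        (H.B.linearCombination_repr x).symm.trans (Finsupp.linearCombination_apply _ _)
      let π : URing ℤ m →+ URing ℤ m := AddMonoidHom.mk'
        (fun z => (DirectSum.decompose (upiece ℤ m) z d : URing ℤ m)) (fun y z => by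
          rw [DirectSum.decompose_add]; rfl)
      have h := congrArg π hx'
      rw [map_sum, show π x = x from DirectSum.decompose_of_mem_same (upiece ℤ m) hx] at h
      rw [h]
      refine Submodule.sum_mem _ fun i _ => ?_
      have hi : H.B.repr x i • H.B i ∈ upiece ℤ m (H.w i) := Submodule.smul_mem _ _ (H.mem i)
      by_cases hid : H.w i = d
      · show (DirectSum.decompose (upiece ℤ m) (H.B.repr x i • H.B i) d : URing ℤ m) ∈ _
        rw [DirectSum.decompose_of_mem_same (upiece ℤ m) (hid ▸ hi)]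
        exact Submodule.smul_mem _ _ (Submodule.subset_span ⟨⟨i, hid⟩, rfl⟩)
      · show (DirectSum.decompose (upiece ℤ m) (H.B.repr x i • H.B i) d : URing ℤ m) ∈ _
        rw [DirectSum.decompose_of_mem_ne (upiece ℤ m) hi hid]
        exact zero_mem _
  haveI := H.fin d
  haveI := Fintype.ofFinite {i // H.w i = d}
  rw [← hspan, finrank_span_eq_card (b := P) (H.B.linearIndependent.comp _ Subtype.val_injective),
    ← H.ser]
  simp [series, Nat.card_eq_fintype_card]

end Groth.Agent.Clifford24.UHilb
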