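import Groth.Prelude.Def_W4c5m1nsnscurvesC
import Groth.Prelude.Def_W4c5m1nsnscurvesI
import Mathlib

/-! `O(C_n) ≅ O(U_{n+1})`. -/

set_option autoImplicit false
universe u
open W4c5m1nsnscurves

namespace Groth.Agent.Clifford24.USucc

variable (R : Type u) [CommRing R]

section Rel

variable (m : ℕ)

theorem rel0 {p : MvPolynomial (UGen m) R} (hp : p ∈ URel R m) :
    Ideal.Quotient.mk (Ideal.span (URel R m)) p = 0 :=
  Ideal.Quotient.eq_zero_iff_mem.mpr (Ideal.subset_span hp)

theorem relL (i j : Fin m) (h : i ≠ j) :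
    ugen R m (.cij i j h) + ugen R m (.cij j i h.symm) =
      ugen R m .a + ugen R m (.ci i) + ugen R m (.cbi i) + ugen R m (.ci j) + ugen R m (.cbi j) := by
  have := rel0 R m (Or.inl (Or.inl (Or.inl ⟨⟨(i, j), h⟩, rfl⟩)))
  simp only [map_sub, map_add] at this
  simp only [ugen]
  linear_combination this

theorem relC (i j : Fin m) (h : i ≠ j) :
    ugen R m .c = ugen R m (.cij j i h.symm) * ugen R m (.ci j) +
      ugen R m (.cij i j h) * ugen R m (.ci i) - ugen R m (.ci i) * ugen R m (.ci j) := by
  have := rel0 R m (Or.inl (Or.inl (Or.inr ⟨⟨(i, j), h⟩, rfl⟩)))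
  simp only [map_sub, map_add, map_mul] at this
  simp only [ugen]
  linear_combination -this

theorem relB (i j : Fin m) (h : i ≠ j) :
    ugen R m .cb = ugen R m (.cij j i h.symm) * ugen R m (.cbi i) +
      ugen R m (.cij i j h) * ugen R m (.cbi j) - ugen R m (.cbi i) * ugen R m (.cbi j) := by
  have := rel0 R m (Or.inl (Or.inr ⟨⟨(i, j), h⟩, rfl⟩))
  simp only [map_sub, map_add, map_mul] at this
  simp only [ugen]
  linear_combination -this

theorem relT (i j l : Fin m) (h₁ : i ≠ j) (h₂ : j ≠ l) (h₃ : i ≠ l) :
    ugen R m (.cij i j h₁) * ugen R m (.cij j l h₂) +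
      ugen R m (.cij j i h₁.symm) * ugen R m (.cij i l h₃) -
      ugen R m (.cij i l h₃) * ugen R m (.cij j l h₂) +
      (ugen R m .a + ugen R m (.ci l) + ugen R m (.cbi l)) * ugen R m (.ci l) = ugen R m .c := by
  have := rel0 R m (Or.inr ⟨⟨(i, j, l), h₁, h₂, h₃⟩, rfl⟩)
  simp only [map_sub, map_add, map_mul] at this
  simp only [ugen]
  linear_combination this

end Rel

variable {m : ℕ}

abbrev C' (R : Type u) [CommRing R] (m : ℕ) : Type u := CurveAlg (URing R m) m (ugen R m)

noncomputable abbrev xv (y : CVar m) : C' R m :=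
  Ideal.Quotient.mk (Ideal.span (CRel (URing R m) m (ugen R m))) (MvPolynomial.X y)

noncomputable abbrev k₀ (x : UGen m) : C' R m := algebraMap (URing R m) (C' R m) (ugen R m x)

theorem mk_C (r : URing R m) :
    Ideal.Quotient.mk (Ideal.span (CRel (URing R m) m (ugen R m))) (MvPolynomial.C r) =
      algebraMap (URing R m) (C' R m) r := rfl

theorem crel0 {p : MvPolynomial (CVar m) (URing R m)} (hp : p ∈ CRel (URing R m) m (ugen R m)) :
    Ideal.Quotient.mk (Ideal.span (CRel (URing R m) m (ugen R m))) p = 0 :=
  Ideal.Quotient.eq_zero_iff_mem.mpr (Ideal.subset_span hp)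

theorem c1 (i : Fin m) : xv R .x2 * xv R (.xi i) =
    xv R .x2 * xv R .x3 + k₀ R (.ci i) * xv R (.xi i) + k₀ R (.cbi i) * xv R .x2 - k₀ R .c := by
  have := crel0 R (Or.inl (Or.inl ⟨i, rfl⟩))
  simp only [map_sub, map_add, map_mul, mk_C] at this
  exact sub_eq_zero.mp this

theorem c2 (i : Fin m) : xv R .x3 * xv R (.xi i) =
    xv R .x2 * xv R .x3 + (k₀ R .a + k₀ R (.ci i) + k₀ R (.cbi i)) * (xv R (.xi i) - k₀ R (.cbi i)) +
      k₀ R .cb - k₀ R .c := by
  have := crel0 R (Or.inl (Or.inr ⟨i, rfl⟩))
  simp only [map_sub, map_add, map_mul, mk_C] at this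
  exact sub_eq_zero.mp this

theorem c3 (i j : Fin m) (h : i ≠ j) : xv R (.xi i) * xv R (.xi j) =
    xv R .x2 * xv R .x3 + k₀ R (.cij i j h) * xv R (.xi j) + k₀ R (.cij j i h.symm) * xv R (.xi i) -
      k₀ R .c := by
  have := crel0 R (Or.inr ⟨⟨(i, j), h⟩, rfl⟩)
  simp only [map_sub, map_add, map_mul, mk_C] at this
  exact sub_eq_zero.mp this

noncomputable def cg (f : Fin m → C' R m) (z : C' R m) (i : Fin (m + 1)) : C' R m :=
  Fin.lastCases z f i

noncomputable def w : UGen (m + 1) → C' R m
  | .a => k₀ R .a
  | .c => k₀ R .c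
  | .cb => k₀ R .cb
  | .ci i => cg R (fun i => k₀ R (.ci i)) (xv R .x2) i
  | .cbi i => cg R (fun i => k₀ R (.cbi i)) (xv R .x3 - k₀ R .a - xv R .x2) i
  | .cij i j _ =>
    Fin.lastCases
      (Fin.lastCases 0 (fun j' => k₀ R (.ci j') + k₀ R (.cbi j') + xv R .x3 - xv R (.xi j')) j)
      (fun i' => Fin.lastCases (xv R (.xi i'))
        (fun j' => if h : i' ≠ j' then k₀ R (.cij i' j' h) else 0) j) i

theorem w_ci (i : Fin m) : w R (.ci i.castSucc) = k₀ R (.ci i) := by simp [w, cg]
theorem w_ci_n : w R (.ci (Fin.last m)) = xv R .x2 := by simp [w, cg]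
theorem w_cbi (i : Fin m) : w R (.cbi i.castSucc) = k₀ R (.cbi i) := by simp [w, cg]
theorem w_cbi_n : w R (.cbi (Fin.last m)) = xv R .x3 - k₀ R .a - xv R .x2 := by simp [w, cg]
theorem w_ij (i j : Fin m) (h : i.castSucc ≠ j.castSucc) :
    w R (.cij i.castSucc j.castSucc h) = k₀ R (.cij i j fun e => h (congrArg Fin.castSucc e)) := by
  simp only [w, Fin.lastCases_castSucc]
  rw [dif_pos]
theorem w_in (i : Fin m) (h : i.castSucc ≠ Fin.last m) :
    w R (.cij i.castSucc (Fin.last m) h) = xv R (.xi i) := by
  simp only [w, Fin.lastCases_castSucc, Fin.lastCases_last]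
theorem w_ni (j : Fin m) (h : Fin.last m ≠ j.castSucc) :
    w R (.cij (Fin.last m) j.castSucc h) =
      k₀ R (.ci j) + k₀ R (.cbi j) + xv R .x3 - xv R (.xi j) := by
  simp only [w, Fin.lastCases_castSucc, Fin.lastCases_last]

noncomputable def gen : MvPolynomial (UGen (m + 1)) R →+* C' R m :=
  MvPolynomial.eval₂Hom ((algebraMap (URing R m) (C' R m)).comp (algebraMap R (URing R m))) (w R)

theorem hT (i l : Fin m) (h : i ≠ l) :
    xv R (.xi i) * (k₀ R (.ci l) + k₀ R (.cbi l) + xv R .x3 - xv R (.xi l)) +
      (k₀ R (.ci i) + k₀ R (.cbi i) + xv R .x3 - xv R (.xi i)) * k₀ R (.cij i l h) -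
      k₀ R (.cij i l h) * (k₀ R (.ci l) + k₀ R (.cbi l) + xv R .x3 - xv R (.xi l)) +
      (k₀ R .a + k₀ R (.ci l) + k₀ R (.cbi l)) * k₀ R (.ci l) = k₀ R .c := by
  have el := congrArg (algebraMap (URing R m) (C' R m)) (relL R m i l h)
  have ec := congrArg (algebraMap (URing R m) (C' R m)) (relC R m i l h)
  have eb := congrArg (algebraMap (URing R m) (C' R m)) (relB R m i l h)
  simp only [map_add, map_sub, map_mul] at el ec eb
  simp only [k₀] at *
  linear_combination c2 R i - c3 R i l h + eb - ec +
    (algebraMap (URing R m) (C' R m) (ugen R m (.cbi i)) -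
      algebraMap (URing R m) (C' R m) (ugen R m (.ci l)) - xv R (.xi i)) * el

theorem gen_rel {p : MvPolynomial (UGen (m + 1)) R} (hp : p ∈ URel R (m + 1)) : gen R p = 0 := by
  have hne : ∀ i : Fin m, i.castSucc ≠ Fin.last m := fun i => (Fin.castSucc_lt_last i).ne
  simp only [URel, Set.mem_union, Set.mem_range] at hp
  rcases hp with ((⟨⟨⟨i, j⟩, h⟩, rfl⟩ | ⟨⟨⟨i, j⟩, h⟩, rfl⟩) | ⟨⟨⟨i, j⟩, h⟩, rfl⟩) | ⟨⟨⟨i, j, l⟩, h₁, h₂, h₃⟩, rfl⟩ <;>
    simp only [gen, map_sub, map_add, map_mul, MvPolynomial.eval₂Hom_X'] <;>
    rw [sub_eq_zero]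
  · induction i using Fin.lastCases with
    | last =>
      induction j using Fin.lastCases with
      | last => exact absurd rfl h
      | cast j => simp only [w_ni, w_in, w_ci, w_ci_n, w_cbi, w_cbi_n]; simp only [w, k₀]; ring
    | cast i =>
      induction j using Fin.lastCases with
      | last => simp only [w_ni, w_in, w_ci, w_ci_n, w_cbi, w_cbi_n]; simp only [w, k₀]; ring
      | cast j =>
        simp only [w_ij, w_ci, w_cbi]; simp only [w, k₀, ← map_add]
        exact congrArg _ (relL R m i j fun e => h (congrArg Fin.castSucc e))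
  · induction i using Fin.lastCases with
    | last =>
      induction j using Fin.lastCases with
      | last => exact absurd rfl h
      | cast j =>
        simp only [w_ni, w_in, w_ci, w_ci_n]; simp only [w]
        linear_combination -(c1 R j)
    | cast i =>
      induction j using Fin.lastCases with
      | last =>
        simp only [w_ni, w_in, w_ci, w_ci_n]; simp only [w]
        linear_combination -(c1 R i)
      | cast j =>
        simp only [w_ij, w_ci]; simp only [w, k₀, ← map_add, ← map_mul, ← map_sub]
        exact congrArg _ (relC R m i j fun e => h (congrArg Fin.castSucc e)).symm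
  · induction i using Fin.lastCases with
    | last =>
      induction j using Fin.lastCases with
      | last => exact absurd rfl h
      | cast j =>
        simp only [w_ni, w_in, w_cbi, w_cbi_n]; simp only [w]
        linear_combination c2 R j - c1 R j
    | cast i =>
      induction j using Fin.lastCases with
      | last =>
        simp only [w_ni, w_in, w_cbi, w_cbi_n]; simp only [w]
        linear_combination c2 R i - c1 R i
      | cast j =>
        simp only [w_ij, w_cbi]; simp only [w, k₀, ← map_add, ← map_mul, ← map_sub]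
        exact congrArg _ (relB R m i j fun e => h (congrArg Fin.castSucc e)).symm
  · induction i using Fin.lastCases with
    | last =>
      induction j using Fin.lastCases with
      | last => exact absurd rfl h₁
      | cast j =>
        induction l using Fin.lastCases with
        | last => exact absurd rfl h₃
        | cast l =>
          have hjl : j ≠ l := fun e => h₂ (congrArg Fin.castSucc e)
          simp only [w_ni, w_in, w_ij, w_ci, w_cbi]; simp only [w]
          linear_combination hT R j l hjl
    | cast i =>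
      induction j using Fin.lastCases with
      | last =>
        induction l using Fin.lastCases with
        | last => exact absurd rfl h₂
        | cast l =>
          have hil : i ≠ l := fun e => h₃ (congrArg Fin.castSucc e)
          simp only [w_ni, w_in, w_ij, w_ci, w_cbi]; simp only [w]
          linear_combination hT R i l hil
      | cast j =>
        induction l using Fin.lastCases with
        | last =>
          simp only [w_in, w_ij, w_ci_n, w_cbi_n]; simp only [w]
          linear_combination -(c3 R i j fun e => h₁ (congrArg Fin.castSucc e))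
        | cast l =>
          simp only [w_ij, w_ci, w_cbi]; simp only [w, k₀, ← map_add, ← map_mul, ← map_sub]
          exact congrArg _ (relT R m i j l (fun e => h₁ (congrArg Fin.castSucc e)) (fun e => h₂ (congrArg Fin.castSucc e))
            fun e => h₃ (congrArg Fin.castSucc e))

noncomputable def G : URing R (m + 1) →+* C' R m :=
  Ideal.Quotient.lift _ (gen R) fun _ hp =>
    (Ideal.span_le.mpr (fun _ hq => RingHom.mem_ker.mpr (gen_rel R hq)) :
      Ideal.span (URel R (m + 1)) ≤ RingHom.ker (gen R)) hp

theorem G_ugen (x : UGen (m + 1)) : G R (ugen R (m + 1) x) = w R x :=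
  MvPolynomial.eval₂Hom_X' _ _ x

noncomputable def v : CVar m → URing R (m + 1)
  | .x2 => ugen R (m + 1) (.ci (Fin.last m))
  | .x3 => ugen R (m + 1) .a + ugen R (m + 1) (.ci (Fin.last m)) + ugen R (m + 1) (.cbi (Fin.last m))
  | .xi i => ugen R (m + 1) (.cij i.castSucc (Fin.last m) (Fin.castSucc_lt_last i).ne)

theorem uincl_ugen (x : UGen m) : uincl R m (ugen R m x) = ugen R (m + 1) x.castSucc := by
  show Ideal.Quotient.mk _ (MvPolynomial.rename UGen.castSucc (MvPolynomial.X x)) = _
  rw [MvPolynomial.rename_X]; rfl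

noncomputable def fgen : MvPolynomial (CVar m) (URing R m) →+* URing R (m + 1) :=
  MvPolynomial.eval₂Hom (uincl R m).toRingHom (v R)

theorem fgen_rel {p : MvPolynomial (CVar m) (URing R m)} (hp : p ∈ CRel (URing R m) m (ugen R m)) :
    fgen R p = 0 := by
  simp only [CRel, Set.mem_union, Set.mem_range] at hp
  rcases hp with (⟨i, rfl⟩ | ⟨i, rfl⟩) | ⟨⟨⟨i, j⟩, h⟩, rfl⟩ <;>
    simp only [fgen, map_sub, map_add, map_mul, MvPolynomial.eval₂Hom_X', MvPolynomial.eval₂Hom_C,
      AlgHom.toRingHom_eq_coe, RingHom.coe_coe, uincl_ugen, UGen.castSucc, v]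
  · have hi := (Fin.castSucc_lt_last i).ne
    linear_combination relC R (m + 1) i.castSucc (Fin.last m) hi +
      ugen R (m + 1) (.ci (Fin.last m)) * relL R (m + 1) i.castSucc (Fin.last m) hi
  · have hi := (Fin.castSucc_lt_last i).ne
    linear_combination relC R (m + 1) i.castSucc (Fin.last m) hi -
      relB R (m + 1) i.castSucc (Fin.last m) hi +
      (ugen R (m + 1) (.ci (Fin.last m)) - ugen R (m + 1) (.cbi i.castSucc)) *
        relL R (m + 1) i.castSucc (Fin.last m) hi
  · linear_combination -(relT R (m + 1) i.castSucc j.castSucc (Fin.last m)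
      (fun e => h (Fin.castSucc_injective _ e)) (Fin.castSucc_lt_last j).ne (Fin.castSucc_lt_last i).ne)

noncomputable def F : C' R m →+* URing R (m + 1) :=
  Ideal.Quotient.lift _ (fgen R) fun _ hp =>
    (Ideal.span_le.mpr (fun _ hq => RingHom.mem_ker.mpr (fgen_rel R hq)) :
      Ideal.span (CRel (URing R m) m (ugen R m)) ≤ RingHom.ker (fgen R)) hp

theorem F_xv (y : CVar m) : F R (xv R y) = v R y := MvPolynomial.eval₂Hom_X' _ _ y

theorem F_algebraMap (r : URing R m) :
    F R (algebraMap (URing R m) (C' R m) r) = uincl R m r := MvPolynomial.eval₂Hom_C _ _ r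

theorem G_algebraMap (r : R) :
    G R (algebraMap R (URing R (m + 1)) r) = algebraMap (URing R m) (C' R m) (algebraMap R _ r) :=
  MvPolynomial.eval₂Hom_C _ _ r

theorem G_F : (G R).comp (F R) = RingHom.id (C' R m) := by
  refine Ideal.Quotient.ringHom_ext (MvPolynomial.ringHom_ext (fun r => ?_) (fun y => ?_))
  · show G R (F R (algebraMap (URing R m) (C' R m) r)) = algebraMap (URing R m) (C' R m) r
    rw [F_algebraMap]
    obtain ⟨p, rfl⟩ := Ideal.Quotient.mk_surjective r
    induction p using MvPolynomial.induction_on with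
    | C r =>
      show G R (uincl R m (algebraMap R (URing R m) r)) = _
      rw [(uincl R m).commutes, G_algebraMap]; rfl
    | add p q hp hq => simp only [map_add, hp, hq]
    | mul_X p x hp =>
      rw [map_mul, map_mul, map_mul, map_mul, hp]
      congr 1
      show G R (uincl R m (ugen R m x)) = k₀ R x
      rw [uincl_ugen, G_ugen]
      cases x with
      | a => rfl
      | c => rfl
      | cb => rfl
      | ci i => exact w_ci R i
      | cbi i => exact w_cbi R i
      | cij i j h => exact w_ij R i j _
  · show G R (F R (xv R y)) = xv R y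
    rw [F_xv]
    cases y with
    | x2 => exact (G_ugen R _).trans (w_ci_n R)
    | x3 =>
      simp only [v, map_add, G_ugen, w_ci_n, w_cbi_n]
      simp only [w]; ring
    | xi i => exact (G_ugen R _).trans (w_in R i _)

theorem F_G : (F R).comp (G R) = RingHom.id (URing R (m + 1)) := by
  refine Ideal.Quotient.ringHom_ext (MvPolynomial.ringHom_ext (fun r => ?_) (fun y => ?_))
  · show F R (G R (algebraMap R (URing R (m + 1)) r)) = algebraMap R (URing R (m + 1)) r
    rw [G_algebraMap, F_algebraMap, AlgHom.commutes]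
  · show F R (G R (ugen R (m + 1) y)) = ugen R (m + 1) y
    rw [G_ugen]
    cases y with
    | a => exact (F_algebraMap R _).trans (uincl_ugen R _)
    | c => exact (F_algebraMap R _).trans (uincl_ugen R _)
    | cb => exact (F_algebraMap R _).trans (uincl_ugen R _)
    | ci i =>
      induction i using Fin.lastCases with
      | last => rw [w_ci_n, F_xv]; rfl
      | cast i => rw [w_ci]; exact (F_algebraMap R _).trans (uincl_ugen R _)
    | cbi i =>
      induction i using Fin.lastCases with
      | last =>
        simp only [w_cbi_n, map_sub, F_xv, k₀, F_algebraMap, uincl_ugen, UGen.castSucc, v]; ring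
      | cast i => rw [w_cbi]; exact (F_algebraMap R _).trans (uincl_ugen R _)
    | cij i j h =>
      induction i using Fin.lastCases with
      | last =>
        induction j using Fin.lastCases with
        | last => exact absurd rfl h
        | cast j =>
          simp only [w_ni, map_sub, map_add, F_xv, k₀, F_algebraMap, uincl_ugen, UGen.castSucc, v]
          linear_combination -(relL R (m + 1) j.castSucc (Fin.last m) (Fin.castSucc_lt_last j).ne)
      | cast i =>
        induction j using Fin.lastCases with
        | last => rw [w_in, F_xv]; rfl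
        | cast j => rw [w_ij]; exact (F_algebraMap R _).trans (uincl_ugen R _)

end Groth.Agent.Clifford24.USucc
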