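import Groth.Prelude.Def_W4c5m1nsnscurvesU
import Mathlib

/-! The cotangent space of `U_n` at the origin and a minimal generating set. -/

set_option autoImplicit false
universe u
open W4c5m1nsnscurves

namespace Groth.Agent.Clifford24.UTangent

variable (R : Type u) [CommRing R] (m : ℕ)

abbrev W : Type := Unit ⊕ (Fin m ⊕ (Fin m ⊕ {q : Fin m × Fin m // q.1 < q.2}))

def g : W m → UGen m
  | .inl _ => .a
  | .inr (.inl i) => .ci i
  | .inr (.inr (.inl i)) => .cbi i
  | .inr (.inr (.inr q)) => .cij q.1.1 q.1.2 (ne_of_lt q.2)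

noncomputable def s (w : W m) : W m →₀ R := Finsupp.single w 1

noncomputable def sC (i : Fin m) : W m →₀ R := s R m (.inr (.inl i))
noncomputable def sB (i : Fin m) : W m →₀ R := s R m (.inr (.inr (.inl i)))

noncomputable def lin : UGen m → (W m →₀ R)
  | .a => s R m (.inl ())
  | .c => 0
  | .cb => 0
  | .ci i => sC R m i
  | .cbi i => sB R m i
  | .cij i j h => if hl : i < j then s R m (.inr (.inr (.inr ⟨(i, j), hl⟩))) else
      s R m (.inl ()) + sC R m j + sB R m j + sC R m i + sB R m i -
        s R m (.inr (.inr (.inr ⟨(j, i), lt_of_le_of_ne (not_lt.mp hl) (Ne.symm h)⟩)))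

theorem lin_rel (i j : Fin m) (h : i ≠ j) :
    lin R m (.cij i j h) + lin R m (.cij j i h.symm) =
      lin R m .a + lin R m (.ci i) + lin R m (.cbi i) + lin R m (.ci j) + lin R m (.cbi j) := by
  rcases lt_or_gt_of_ne h with hl | hl
  · simp only [lin, dif_pos hl, dif_neg (not_lt.mpr hl.le)]; abel
  · simp only [lin, dif_pos hl, dif_neg (not_lt.mpr hl.le)]; abel

noncomputable def ev : MvPolynomial (UGen m) R →ₐ[R] TrivSqZeroExt R (W m →₀ R) :=
  MvPolynomial.aeval fun x => TrivSqZeroExt.inr (lin R m x)

theorem ev_rel {p : MvPolynomial (UGen m) R} (hp : p ∈ URel R m) : ev R m p = 0 := by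
  have hc : lin R m .c = 0 := rfl
  have hcb : lin R m .cb = 0 := rfl
  simp only [URel, Set.mem_union, Set.mem_range] at hp
  rcases hp with ((⟨⟨⟨i, j⟩, h⟩, rfl⟩ | ⟨⟨⟨i, j⟩, h⟩, rfl⟩) | ⟨⟨⟨i, j⟩, h⟩, rfl⟩) | ⟨⟨⟨i, j, l⟩, h⟩, rfl⟩
  · simp only [ev, map_sub, map_add, MvPolynomial.aeval_X, ← TrivSqZeroExt.inr_add,
      ← TrivSqZeroExt.inr_sub, lin_rel, sub_self, TrivSqZeroExt.inr_zero]
  · simp [ev, hc]
  · simp [ev, hcb]
  · simp only [ev, map_sub, map_add, map_mul, MvPolynomial.aeval_X, add_mul,
      TrivSqZeroExt.inr_mul_inr, add_zero, sub_zero, hc, TrivSqZeroExt.inr_zero]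

noncomputable def e : URing R m →ₐ[R] TrivSqZeroExt R (W m →₀ R) :=
  Ideal.Quotient.liftₐ _ (ev R m) (fun _ hp =>
    (Ideal.span_le.mpr (fun _ hq => RingHom.mem_ker.mpr (ev_rel R m hq)) : Ideal.span (URel R m) ≤
      RingHom.ker (ev R m)) hp)

theorem e_ugen (x : UGen m) : e R m (ugen R m x) = TrivSqZeroExt.inr (lin R m x) :=
  MvPolynomial.aeval_X _ x

noncomputable def U : (W m →₀ R) →ₗ[R] URing R m :=
  Finsupp.linearCombination R fun w => ugen R m (g m w)

theorem U_s (w : W m) : U R m (s R m w) = ugen R m (g m w) := by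
  simp [U, s]

theorem relLin (i j : Fin m) (h : i ≠ j) :
    ugen R m (.cij i j h) + ugen R m (.cij j i h.symm) =
      ugen R m .a + ugen R m (.ci i) + ugen R m (.cbi i) + ugen R m (.ci j) + ugen R m (.cbi j) := by
  have := Ideal.Quotient.eq_zero_iff_mem.mpr
    (Ideal.subset_span (Or.inl (Or.inl (Or.inl ⟨⟨(i, j), h⟩, rfl⟩))) :
      _ ∈ Ideal.span (URel R m))
  simp only [map_sub, map_add] at this
  simp only [ugen]
  linear_combination this

theorem relC (i j : Fin m) (h : i ≠ j) :
    ugen R m .c = ugen R m (.cij j i h.symm) * ugen R m (.ci j) +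
      ugen R m (.cij i j h) * ugen R m (.ci i) - ugen R m (.ci i) * ugen R m (.ci j) := by
  have := Ideal.Quotient.eq_zero_iff_mem.mpr
    (Ideal.subset_span (Or.inl (Or.inl (Or.inr ⟨⟨(i, j), h⟩, rfl⟩))) :
      _ ∈ Ideal.span (URel R m))
  simp only [map_sub, map_add, map_mul] at this
  simp only [ugen]
  linear_combination -this

theorem relCb (i j : Fin m) (h : i ≠ j) :
    ugen R m .cb = ugen R m (.cij j i h.symm) * ugen R m (.cbi i) +
      ugen R m (.cij i j h) * ugen R m (.cbi j) - ugen R m (.cbi i) * ugen R m (.cbi j) := by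
  have := Ideal.Quotient.eq_zero_iff_mem.mpr
    (Ideal.subset_span (Or.inl (Or.inr ⟨⟨(i, j), h⟩, rfl⟩)) :
      _ ∈ Ideal.span (URel R m))
  simp only [map_sub, map_add, map_mul] at this
  simp only [ugen]
  linear_combination -this

variable {m} in
theorem U_lin (hm : 2 ≤ m) (x : UGen m) :
    ugen R m x - U R m (lin R m x) ∈ uorigin R m * uorigin R m := by
  have hmem : ∀ y, ugen R m y ∈ uorigin R m := fun y => Ideal.subset_span ⟨y, rfl⟩
  have hne : (⟨0, by omega⟩ : Fin m) ≠ ⟨1, by omega⟩ := by simp
  cases x with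
  | a => simp [lin, U_s, g]
  | c =>
    simp only [lin, map_zero, sub_zero, relC R m _ _ hne]
    exact sub_mem (add_mem (Ideal.mul_mem_mul (hmem _) (hmem _)) (Ideal.mul_mem_mul (hmem _) (hmem _)))
      (Ideal.mul_mem_mul (hmem _) (hmem _))
  | cb =>
    simp only [lin, map_zero, sub_zero, relCb R m _ _ hne]
    exact sub_mem (add_mem (Ideal.mul_mem_mul (hmem _) (hmem _)) (Ideal.mul_mem_mul (hmem _) (hmem _)))
      (Ideal.mul_mem_mul (hmem _) (hmem _))
  | ci i => simp [lin, sC, U_s, g]
  | cbi i => simp [lin, sB, U_s, g]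
  | cij i j h =>
    by_cases hl : i < j
    · simp [lin, hl, U_s, g]
    · simp only [lin, dif_neg hl, map_sub, map_add, sC, sB, U_s, g]
      convert Ideal.zero_mem (uorigin R m * uorigin R m) using 1
      linear_combination relLin R m i j h

variable {m} in
theorem decomp (hm : 2 ≤ m) (x : URing R m) :
    x - algebraMap R (URing R m) (e R m x).fst - U R m (e R m x).snd ∈
      uorigin R m * uorigin R m := by
  obtain ⟨p, rfl⟩ := Ideal.Quotient.mk_surjective x
  induction p using MvPolynomial.induction_on with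
  | C r =>
    have : e R m (Ideal.Quotient.mk _ (MvPolynomial.C r)) = algebraMap R _ r := (e R m).commutes r
    rw [this, TrivSqZeroExt.algebraMap_eq_inl, TrivSqZeroExt.fst_inl, TrivSqZeroExt.snd_inl,
      map_zero, sub_zero]
    convert Ideal.zero_mem (uorigin R m * uorigin R m) using 1
    exact sub_self _
  | add p q hp hq =>
    simp only [map_add, TrivSqZeroExt.fst_add, TrivSqZeroExt.snd_add]
    convert add_mem hp hq using 1
    ring
  | mul_X p x hp =>
    rw [map_mul, show Ideal.Quotient.mk (Ideal.span (URel R m)) (MvPolynomial.X x) = ugen R m x from rfl,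
      map_mul, e_ugen]
    set y := Ideal.Quotient.mk (Ideal.span (URel R m)) p
    simp only [TrivSqZeroExt.fst_mul, TrivSqZeroExt.fst_inr, mul_zero, map_zero, sub_zero,
      TrivSqZeroExt.snd_mul, TrivSqZeroExt.snd_inr, MulOpposite.op_zero, zero_smul, add_zero, map_smul]
    rw [show (e R m y).fst • U R m (lin R m x) = algebraMap R (URing R m) (e R m y).fst * U R m (lin R m x) from
      Algebra.smul_def (e R m y).fst (U R m (lin R m x))]
    have hsplit : y * ugen R m x - algebraMap R (URing R m) (e R m y).fst * U R m (lin R m x) =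
        algebraMap R (URing R m) (e R m y).fst * (ugen R m x - U R m (lin R m x)) +
          (y - algebraMap R (URing R m) (e R m y).fst - U R m (e R m y).snd) * ugen R m x +
          U R m (e R m y).snd * ugen R m x := by ring
    rw [hsplit]
    refine add_mem (add_mem (Ideal.mul_mem_left _ _ (U_lin R hm x)) (Ideal.mul_mem_right _ _ hp)) ?_
    refine Ideal.mul_mem_mul ?_ (Ideal.subset_span ⟨x, rfl⟩)
    induction (e R m y).snd using Finsupp.induction_linear with
    | zero => simp
    | add a b ha hb => rw [map_add]; exact add_mem ha hb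
    | single w r =>
      simp only [U, Finsupp.linearCombination_single]
      exact Submodule.smul_of_tower_mem _ r (Ideal.subset_span ⟨g m w, rfl⟩)

theorem fst_e_origin {x : URing R m} (hx : x ∈ uorigin R m) : (e R m x).fst = 0 := by
  induction hx using Submodule.span_induction with
  | mem y hy => obtain ⟨z, rfl⟩ := hy; rw [e_ugen, TrivSqZeroExt.fst_inr]
  | zero => simp
  | add a b _ _ ha hb => rw [map_add, TrivSqZeroExt.fst_add, ha, hb, add_zero]
  | smul a b _ hb => rw [smul_eq_mul, map_mul, TrivSqZeroExt.fst_mul, hb, mul_zero]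

theorem snd_e_sq {x : URing R m} (hx : x ∈ uorigin R m * uorigin R m) : (e R m x).snd = 0 := by
  induction hx using Submodule.mul_induction_on' with
  | mem_mul_mem a ha b hb => simp [fst_e_origin R m ha, fst_e_origin R m hb]
  | add a _ b _ ha hb => simp [ha, hb]

variable {m} in
theorem finrank_cotangent (k : Type u) [Field k] (hm : 2 ≤ m) :
    Module.finrank k (uorigin k m).Cotangent = Fintype.card (W m) := by
  let I := uorigin k m
  let u : (W m →₀ k) →ₗ[k] I.Cotangent :=
    Finsupp.linearCombination k fun w => I.toCotangent ⟨ugen k m (g m w), Ideal.subset_span ⟨_, rfl⟩⟩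
  have hU : ∀ v : W m →₀ k, U k m v ∈ I := by
    intro v
    induction v using Finsupp.induction_linear with
    | zero => simp
    | add a b ha hb => rw [map_add]; exact add_mem ha hb
    | single w r =>
      simp only [U, Finsupp.linearCombination_single]
      exact Submodule.smul_of_tower_mem _ r (Ideal.subset_span ⟨g m w, rfl⟩)
  have hu : ∀ v, u v = I.toCotangent ⟨U k m v, hU v⟩ := by
    intro v
    induction v using Finsupp.induction_linear with
    | zero => simp only [map_zero]; rw [eq_comm, Ideal.toCotangent_eq_zero]; simp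
    | add a b ha hb =>
      rw [map_add, ha, hb, ← map_add]; congr 1; exact Subtype.ext (map_add _ _ _).symm
    | single w r =>
      simp only [u, Finsupp.linearCombination_single]
      rw [← algebraMap_smul (URing k m) r, ← map_smul]
      congr 1; exact Subtype.ext (by
        simp only [Submodule.coe_smul_of_tower, smul_eq_mul, U, Finsupp.linearCombination_single]
        exact (Algebra.smul_def r _).symm)
  have hsurj : Function.Surjective u := by
    intro z
    obtain ⟨⟨x, hx⟩, rfl⟩ := I.toCotangent_surjective z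
    refine ⟨(e k m x).snd, ?_⟩
    rw [hu, Ideal.toCotangent_eq, pow_two]
    have h := decomp k hm x
    rw [fst_e_origin k m hx, map_zero, sub_zero] at h
    simpa using neg_mem h
  have hinj : Function.Injective u := by
    rw [injective_iff_map_eq_zero]
    intro v hv
    rw [hu, Ideal.toCotangent_eq_zero, pow_two] at hv
    have h := snd_e_sq k m hv
    have h' : (e k m (U k m v)).snd = v := by
      clear hv h
      induction v using Finsupp.induction_linear with
      | zero => simp
      | add a b ha hb => simp [ha, hb]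
      | single w r =>
        simp only [U, Finsupp.linearCombination_single, map_smul, e_ugen, TrivSqZeroExt.snd_smul,
          TrivSqZeroExt.snd_inr]
        have : lin k m (g m w) = s k m w := by
          rcases w with _ | _ | _ | q
          · rfl
          · rfl
          · rfl
          · simp [lin, g, q.2]
        rw [this, s, Finsupp.smul_single, smul_eq_mul, mul_one]
    exact h'.symm.trans h
  rw [← (LinearEquiv.ofBijective u ⟨hinj, hsurj⟩).finrank_eq, Module.finrank_finsupp_self]

theorem card_W : Fintype.card (W m) = (m + 2) * (m + 1) / 2 := by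
  let eq : {q : Fin m × Fin m // q.1 < q.2} ≃ (Σ j : Fin m, Fin j.1) :=
    { toFun := fun q => ⟨q.1.2, ⟨q.1.1.1, q.2⟩⟩
      invFun := fun z => ⟨(⟨z.2.1, z.2.2.trans z.1.2⟩, z.1), z.2.2⟩
      left_inv := fun q => rfl
      right_inv := fun z => rfl }
  have h1 : Fintype.card {q : Fin m × Fin m // q.1 < q.2} = m * (m - 1) / 2 := by
    rw [Fintype.card_congr eq, Fintype.card_sigma, ← Finset.sum_range_id]
    simp only [Fintype.card_fin]
    exact Fin.sum_univ_eq_sum_range (fun j => j) m
  simp only [W, Fintype.card_sum, Fintype.card_unit, Fintype.card_fin, h1]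
  rcases m with _ | n
  · rfl
  · have h2 : (n + 1 + 2) * (n + 1 + 1) = (n + 1) * (n + 1 - 1) + 2 * (1 + (2 * (n + 1))) := by
      simp; ring
    rw [h2, Nat.add_mul_div_left _ _ (by norm_num : 0 < 2)]
    ring

end Groth.Agent.Clifford24.UTangent
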